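/-
Accessors for the tables of the 126 quads and the soundness of the small closure and propagation programs.

Main results (namespace `Cfsg.Agent.FourProd.Tab`):
* `pnt`, `nbB`, `tI`, `frB`, `piI`, `dlB`, `adB`, `rfI`, `vec6` : the accessors;
* `clStep_sound` : closure under the transvection action;
* `propagate_sound` : a checked derivation determines a cocycle.
-/
import Cfsg.Agent.Lib.FischerM24.Four.Data

set_option autoImplicit false

namespace Cfsg.Agent.FourProd.Tab

open Cfsg.Agent.SU32

/-- A point. -/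
def pnt (i : Fin 45) : List K4 := ptsL.getD i.val []

/-- Collinearity. -/
def nbB (i j : Fin 45) : Bool := (nbL.getD i.val 0).testBit j.val

/-- The image of the point `j` under the transvection of `i`. -/
def tI (i j : Fin 45) : Fin 45 :=
  ⟨((tL.getD i.val 0) >>> (6 * j.val)) % 64 % 45, Nat.mod_lt _ (by norm_num)⟩

/-- Membership of a frame. -/
def frB (k : Fin 40) (x : Fin 45) : Bool := (frL.getD k.val 0).testBit x.val

/-- The action on frames. -/
def piI (x : Fin 45) (k : Fin 40) : Fin 40 :=
  ⟨((piL.getD x.val 0) >>> (6 * k.val)) % 64 % 40, Nat.mod_lt _ (by norm_num)⟩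

/-- The cocycle. -/
def dlB (x : Fin 45) (k : Fin 40) : Bool := (dlL.getD x.val 0).testBit k.val

/-- Adjacency of the 126. -/
def adB (i j : Fin 126) : Bool := (adL.getD i.val 0).testBit j.val

/-- The reflection action. -/
def rfI (i j : Fin 126) : Fin 126 :=
  ⟨((rfL.getD i.val 0) >>> (7 * j.val)) % 128 % 126, Nat.mod_lt _ (by norm_num)⟩

/-- The node of a point. -/
def ndN (i : Fin 45) : Fin 126 := ⟨1 + i.val, by omega⟩

/-- The node of a signed frame. -/
def ndF (s : Bool) (k : Fin 40) : Fin 126 :=
  if s then ⟨86 + k.val, by omega⟩ else ⟨46 + k.val, by omega⟩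

theorem node_cases (n : Fin 126) : n = 0 ∨ (∃ i, n = ndN i) ∨ ∃ s k, n = ndF s k := by
  rcases Nat.lt_or_ge n.val 46 with h | h
  · rcases Nat.eq_zero_or_pos n.val with h0 | h0
    · exact Or.inl (Fin.ext h0)
    · exact Or.inr (Or.inl ⟨⟨n.val - 1, by omega⟩, Fin.ext (by simp only [ndN]; omega)⟩)
  · rcases Nat.lt_or_ge n.val 86 with h1 | h1
    · exact Or.inr (Or.inr ⟨false, ⟨n.val - 46, by omega⟩, Fin.ext (by simp [ndF]; omega)⟩)
    · exact Or.inr (Or.inr ⟨true, ⟨n.val - 86, by omega⟩, Fin.ext (by simp [ndF]; omega)⟩)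

/-- The mask of a point. -/
def bit (i : Fin 45) : ℕ := 1 <<< i.val

/-- The points of a mask. -/
def pts45 (m : ℕ) : List (Fin 45) := (List.finRange 45).filter fun i => m.testBit i.val

theorem mem_pts45 {m : ℕ} {i : Fin 45} : i ∈ pts45 m ↔ m.testBit i.val = true := by simp [pts45]

/-- The number of points of a mask. -/
def pop45 (m : ℕ) : ℕ := (pts45 m).length

/-- The points of a mask as a set. -/
def setOf45 (m : ℕ) : Set (Fin 45) := {i | m.testBit i.val = true}

theorem setOf45_ncard (m : ℕ) : (setOf45 m).ncard = pop45 m := by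
  rw [pop45, pts45, ← List.toFinset_card_of_nodup ((List.nodup_finRange 45).filter _), ← Set.ncard_coe_finset]
  congr 1
  ext i
  simp [setOf45]

theorem setOf45_inter (m m' : ℕ) : setOf45 (m &&& m') = setOf45 m ∩ setOf45 m' := by
  ext i
  simp [setOf45, Nat.testBit_land]

/-- The image of a mask under the transvection of `g`. -/
def imgMask (g : Fin 45) (m : ℕ) : ℕ := (pts45 m).foldl (fun acc i => acc ||| bit (tI g i)) 0

/-- One closure step. -/
def clStep (m : ℕ) : ℕ := (pts45 m).foldl (fun acc i => acc ||| imgMask i m) m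

theorem testBit_foldl_or {α : Type*} (f : α → ℕ) : ∀ (l : List α) (a j : ℕ),
    (l.foldl (fun acc i => acc ||| f i) a).testBit j = true ↔ a.testBit j = true ∨ ∃ i ∈ l, (f i).testBit j = true
  | [], a, j => by simp
  | x :: l, a, j => by
    rw [List.foldl_cons, testBit_foldl_or f l, Nat.testBit_lor, Bool.or_eq_true]
    simp only [List.mem_cons, exists_eq_or_imp]
    tauto

theorem testBit_bit {i : Fin 45} {j : ℕ} : (bit i).testBit j = true ↔ j = i.val := by
  rw [bit, Nat.one_shiftLeft, Nat.testBit_two_pow]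
  simp [eq_comm]

theorem mem_imgMask {g j : Fin 45} {m : ℕ} :
    j ∈ setOf45 (imgMask g m) ↔ ∃ i ∈ setOf45 m, tI g i = j := by
  simp only [setOf45, imgMask, Set.mem_setOf_eq, testBit_foldl_or, Nat.zero_testBit, Bool.false_eq_true,
    false_or, mem_pts45, testBit_bit, Fin.val_inj]
  exact exists_congr fun i => and_congr_right fun _ => eq_comm

theorem setOf45_bit (i : Fin 45) : setOf45 (bit i) = {i} := by
  ext j
  simp [setOf45, testBit_bit, Fin.val_inj]

theorem setOf45_or (m m' : ℕ) : setOf45 (m ||| m') = setOf45 m ∪ setOf45 m' := by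
  ext i
  simp [setOf45, Nat.testBit_lor]

theorem clStep_sound {X : Set (Fin 45)} (hX : ∀ i ∈ X, ∀ j ∈ X, tI i j ∈ X) {m : ℕ} (hm : setOf45 m ⊆ X) :
    setOf45 (clStep m) ⊆ X := by
  intro j hj
  simp only [setOf45, clStep, Set.mem_setOf_eq, testBit_foldl_or, mem_pts45] at hj
  rcases hj with h | ⟨i, hi, h⟩
  · exact hm h
  · obtain ⟨l, hl, rfl⟩ := (mem_imgMask (g := i) (j := j) (m := m)).1 h
    exact hX i (hm hi) l (hm hl)

/-- The closure. -/
def cl (m : ℕ) : ℕ := clStep (clStep (clStep m))

theorem cl_sound {X : Set (Fin 45)} (hX : ∀ i ∈ X, ∀ j ∈ X, tI i j ∈ X) {m : ℕ} (hm : setOf45 m ⊆ X) :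
    setOf45 (cl m) ⊆ X := clStep_sound hX (clStep_sound hX (clStep_sound hX hm))

/-! ### propagation -/

/-- The sum modulo two along a list. -/
def xsum {α : Type*} (f : α → Bool) : List α → Bool
  | [] => false
  | x :: l => xor (f x) (xsum f l)

theorem xsum_congr {α : Type*} (f g : α → Bool) : ∀ l : List α, (∀ y ∈ l, f y = g y) → xsum f l = xsum g l
  | [], _ => rfl
  | x :: l, h => by
    simp only [xsum, h x List.mem_cons_self, xsum_congr f g l fun y hy => h y (List.mem_cons_of_mem _ hy)]

theorem xsum_solve {α : Type*} (f g : α → Bool) (d : α) : ∀ (l : List α) (p : ℕ), p < l.length →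
    (∀ i < l.length, i ≠ p → f (l.getD i d) = g (l.getD i d)) → xsum f l = xsum g l →
    f (l.getD p d) = g (l.getD p d)
  | [], p, hp, _, _ => by simp at hp
  | x :: l, 0, _, h, e => by
    have hl : xsum f l = xsum g l := xsum_congr f g l fun y hy => by
      obtain ⟨i, hi, rfl⟩ := List.getElem_of_mem hy
      have := h (i + 1) (by simp; omega) (by omega)
      simpa [List.getD_eq_getElem?_getD, List.getElem?_eq_getElem hi] using this
    simp only [xsum, hl] at e
    simpa using e
  | x :: l, p + 1, hp, h, e => by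
    have h0 := h 0 (by simp) (by omega)
    simp only [List.getD_cons_zero] at h0
    simp only [xsum, h0] at e
    have := xsum_solve f g d l p (by simp at hp; omega) (fun i hi hne => by
      have := h (i + 1) (by simp; omega) (by omega)
      simpa using this) (by simpa using e)
    simpa using this

/-- The edges of an equation and its parity. -/
def edgesOf : ℕ × ℕ × ℕ × ℕ × ℕ → List (Fin 45 × Fin 40) × Bool
  | (kind, x, y, k, _) =>
    let fx : Fin 45 := ⟨x % 45, Nat.mod_lt _ (by norm_num)⟩
    let fy : Fin 45 := ⟨y % 45, Nat.mod_lt _ (by norm_num)⟩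
    let fk : Fin 40 := ⟨k % 40, Nat.mod_lt _ (by norm_num)⟩
    if kind = 0 then ([(fx, fk), (fx, piI fx fk)], false)
    else if kind = 1 then
      ([(fx, fk), (fy, piI fx fk), (fx, piI fy (piI fx fk)), (tI fx fy, fk)], false)
    else (path (lineL.getD (x % 27) []) fk, true)
where
  /-- The edges along a line. -/
  path : List ℕ → Fin 40 → List (Fin 45 × Fin 40)
    | [], _ => []
    | n :: l, k =>
      let f : Fin 45 := ⟨n % 45, Nat.mod_lt _ (by norm_num)⟩
      (f, k) :: path l (piI f k)

/-- The number of an edge. -/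
def eIdx (e : Fin 45 × Fin 40) : ℕ := 40 * e.1.val + e.2.val

theorem eIdx_inj {e e' : Fin 45 × Fin 40} (h : eIdx e = eIdx e') : e = e' := by
  have h1 := e.2.isLt
  have h2 := e'.2.isLt
  unfold eIdx at h
  exact Prod.ext (Fin.ext (by omega)) (Fin.ext (by omega))

/-- Whether a step can be used. -/
def stepOk (known : ℕ) (r : ℕ × ℕ × ℕ × ℕ × ℕ) : Bool :=
  let es := (edgesOf r).1
  decide (r.2.2.2.2 < es.length) &&
    (List.range es.length).all (fun i => i == r.2.2.2.2 || known.testBit (eIdx (es.getD i (0, 0))))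

/-- The run: the edges determined by the steps, or nothing. -/
def run : List (ℕ × ℕ × ℕ × ℕ × ℕ) → ℕ → Option ℕ
  | [], known => some known
  | r :: l, known =>
    if stepOk known r then run l (known ||| 1 <<< eIdx ((edgesOf r).1.getD r.2.2.2.2 (0, 0))) else none

theorem propagate_sound (f g : Fin 45 × Fin 40 → Bool) :
    ∀ (l : List (ℕ × ℕ × ℕ × ℕ × ℕ)), (∀ r ∈ l, xsum f (edgesOf r).1 = xsum g (edgesOf r).1) →
      ∀ (known out : ℕ), (∀ e, known.testBit (eIdx e) = true → f e = g e) →
      run l known = some out → ∀ e, out.testBit (eIdx e) = true → f e = g e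
  | [], _, known, out, h, e => by simp only [run, Option.some.injEq] at e; exact e ▸ h
  | r :: l, heq, known, out, h, e => by
    rw [run] at e
    split at e
    case isFalse => simp at e
    case isTrue hok =>
      refine propagate_sound f g l (fun r' h' => heq r' (List.mem_cons_of_mem _ h')) _ out (fun x hx => ?_) e
      rw [Nat.testBit_lor, Bool.or_eq_true] at hx
      rcases hx with hx | hx
      · exact h x hx
      · rw [Nat.one_shiftLeft, Nat.testBit_two_pow, decide_eq_true_eq] at hx
        rw [← eIdx_inj hx]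
        simp only [stepOk, Bool.and_eq_true, decide_eq_true_eq, List.all_eq_true, List.mem_range,
          Bool.or_eq_true, beq_iff_eq] at hok
        exact xsum_solve f g (0, 0) _ _ hok.1 (fun i hi hne => h _ ((hok.2 i hi).resolve_left hne))
          (heq r List.mem_cons_self)

/-- The coordinates of a vector. -/
def vec6 (i : Fin 126) : List ℕ := vecL.getD i.val []

end Cfsg.Agent.FourProd.Tab
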