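/-
Checks of the point tables.

Main results (namespace `Cfsg.Agent.FourProd.Tab`):
* `pts_iso`, `nb_spec`, `pts_cover`, `tI_spec` : the tables describe the isotropic points of F4^4.
-/
import Cfsg.Agent.Lib.FischerM24.Four.Table

set_option autoImplicit false
set_option maxRecDepth 100000

namespace Cfsg.Agent.FourProd.Tab

open Cfsg.Agent.SU32 Cfsg.Agent.ThreeTransSU.GensCert

theorem pts_iso : ∀ i : Fin 45, hk 4 (pnt i) (pnt i) = .z ∧ vec 4 (pnt i) ≠ fun _ => .z := by decide +kernel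

theorem nb_spec : ∀ i j : Fin 45, hk 4 (pnt i) (pnt j) = .z ↔ (i = j ∨ nbB i j = true) := by decide +kernel

theorem nb_irrefl : ∀ i : Fin 45, nbB i i = false := by decide +kernel

theorem pts_cover : ∀ x ∈ allVecs 4, hk 4 x x = .z → (vec 4 x = fun _ => .z) ∨
    ∃ i : Fin 45, ∃ c ∈ [K4.o, K4.w, K4.w2], x = smulL 4 c (pnt i) := by decide +kernel

theorem tI_spec : ∀ i j : Fin 45, ∃ c ∈ [K4.o, K4.w, K4.w2],
    refl 4 (pnt i) (pnt j) = smulL 4 c (pnt (tI i j)) := by decide +kernel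

theorem pts_inj : ∀ i j : Fin 45, ∀ c ∈ [K4.o, K4.w, K4.w2], pnt i = smulL 4 c (pnt j) → i = j := by
  decide +kernel

end Cfsg.Agent.FourProd.Tab
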