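/-
Checks for the classification of the traces of far members on the 45 points.

Main results (namespace `Cfsg.Agent.FourProd.Tab`):
* `tI_invol`, `frame_img`, `frame_cubic`, `frame_outside` : the frames;
* `pair_third`, `flag_step`, `flag_cover`, `flag_class` : the classification at one flag;
* `tree_spec` : the frames are connected.
-/
import Cfsg.Agent.Lib.FischerM24.Four.Check

set_option autoImplicit false
set_option maxRecDepth 100000

namespace Cfsg.Agent.FourProd.Tab

/-- The mask of neighbours. -/
def nbM (i : Fin 45) : ℕ := nbL.getD i.val 0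

/-- The mask of a frame. -/
def frM (k : Fin 40) : ℕ := frL.getD k.val 0

/-- A mask that lies in no trace: a point with four neighbours in it, or a triangle. -/
def bad (m : ℕ) : Bool :=
  (pts45 m).any fun i => decide (3 < pop45 (nbM i &&& m)) ||
    (pts45 (nbM i &&& m)).any fun j => decide (0 < pop45 (nbM i &&& nbM j &&& m))

/-- Each point of the mask has three neighbours in it. -/
def cubic (m : ℕ) : Bool := (pts45 m).all fun i => decide (pop45 (nbM i &&& m) = 3)

/-- Non-collinear points of the mask have a common neighbour in it. -/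
def linked (m : ℕ) : Bool :=
  (pts45 m).all fun i => (pts45 m).all fun j =>
    decide (i = j) || nbB i j || decide (0 < pop45 (nbM i &&& nbM j &&& m))

/-- The entry of a flag. -/
def flagE (n : ℕ) : ℕ × ℕ × ℕ × ℕ := flagL.getD n (0, 0, 0, 0)

/-- The point of the first flag. -/
def x0 : Fin 45 := ⟨0, by norm_num⟩

/-- The first neighbour of the first flag. -/
def y10 : Fin 45 := ⟨15, by norm_num⟩

/-- The second neighbour of the first flag. -/
def y20 : Fin 45 := ⟨25, by norm_num⟩

/-- The frame of the first flag. -/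
def k00 : Fin 40 := ⟨0, by norm_num⟩

theorem tI_invol : ∀ g i : Fin 45, tI g (tI g i) = i := by decide +kernel

theorem frame_img : ∀ (g : Fin 45) (k : Fin 40), imgMask g (frM k) = frM (piI g k) := by decide +kernel

theorem frame_inj : ∀ k l : Fin 40, frM k = frM l → k = l := by decide +kernel

theorem frame_cubic : ∀ k : Fin 40, cubic (frM k) = true := by decide +kernel

theorem frame_outside : ∀ (k : Fin 40) (i : Fin 45),
    frB k i = true ∨ 0 < pop45 (nbM i &&& frM k) := by decide +kernel

theorem pair_third : ∀ i j : Fin 45, (decide (i = j) || nbB i j ||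
    let l := pts45 (nbM i &&& nbM j)
    l.all fun u => l.all fun v => l.all fun w =>
      decide (u = v) || decide (w = u) || decide (w = v) || decide (w = tI u v)) = true := by decide +kernel

theorem flag_zero : (flagE 0).1 = 0 ∧ (flagE 0).2.1 = bit y10 ||| bit y20 ||| bit (tI y10 y20) ∧
    nbB x0 y10 = true ∧ nbB x0 y20 = true ∧ nbB y10 y20 = false ∧ y10 ≠ y20 := by decide +kernel

theorem flag_step : ∀ n : Fin 720, n.val = 0 ∨ ((flagE n.val).2.2.2 < n.val ∧ ∃ g : Fin 45,
    g.val = (flagE n.val).2.2.1 ∧ ∃ x : Fin 45, x.val = (flagE (flagE n.val).2.2.2).1 ∧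
      (tI g x).val = (flagE n.val).1 ∧ imgMask g (flagE (flagE n.val).2.2.2).2.1 = (flagE n.val).2.1) := by
  decide +kernel

/-- Whether a flag is listed. -/
def listed (x y1 y2 : Fin 45) : Bool :=
  (flagAtL.getD x.val []).any fun n => decide (n < 720) && decide ((flagE n).1 = x.val) &&
    ((flagE n).2.1 == (bit y1 ||| bit y2 ||| bit (tI y1 y2)))

theorem flag_cover : ∀ x : Fin 45, ∀ y1 ∈ pts45 (nbM x), ∀ y2 ∈ pts45 (nbM x),
    y1 ≠ y2 → nbB y1 y2 = false → listed x y1 y2 = true := by decide +kernel

theorem flag_class : ∀ x2 ∈ pts45 (nbM y10), x2 ≠ x0 → nbB x0 x2 = false →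
    let m := cl (bit x0 ||| bit y10 ||| bit y20 ||| bit x2)
    (bad m || (cubic m && linked m && (List.finRange 45).all fun w =>
      m.testBit w.val || decide (0 < pop45 (nbM w &&& m)) ||
        bad (cl (m ||| bit w)) || (cl (m ||| bit w) == frM k00))) = true := by decide +kernel

theorem tree_spec : ∀ k : Fin 40, k.val = 0 ∨ ((treeL.getD (k.val - 1) (0, 0)).2 < k.val ∧
    ∃ (x : Fin 45) (p : Fin 40), x.val = (treeL.getD (k.val - 1) (0, 0)).1 ∧
      p.val = (treeL.getD (k.val - 1) (0, 0)).2 ∧ piI x p = k) := by decide +kernel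

end Cfsg.Agent.FourProd.Tab
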