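/-
Checks of the tables of the 126 quads.

Main results (namespace `Cfsg.Agent.FourProd.Tab`):
* `ad_rows`, `rf_rows` : the rows of `a` and its neighbours;
* `frame_six`, `far_cand`, `far_row` : the adjacency of two far quads;
* `rf_fix`, `rf_third` : the reflection is determined by the adjacency.
-/
import Cfsg.Agent.Lib.FischerM24.Four.CheckTrace

set_option autoImplicit false
set_option maxRecDepth 100000

namespace Cfsg.Agent.FourProd.Tab

/-- The mask of a row. -/
def adM (p : Fin 126) : ℕ := adL.getD p.val 0

theorem ad_rows : (∀ i : Fin 45, adB 0 (ndN i) = true) ∧ (∀ (s : Bool) (k : Fin 40), adB 0 (ndF s k) = false) ∧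
    (∀ i j : Fin 45, adB (ndN i) (ndN j) = nbB i j) ∧
    ∀ (i : Fin 45) (s : Bool) (k : Fin 40), adB (ndN i) (ndF s k) = frB k i := by decide +kernel

theorem ad_symm : ∀ p q : Fin 126, adB p q = adB q p := by decide +kernel

theorem ad_irrefl : ∀ p : Fin 126, adB p p = false := by decide +kernel

theorem rf_rows : (∀ i : Fin 45, rfI 0 (ndN i) = ndN i) ∧ (∀ (s : Bool) (k : Fin 40), rfI 0 (ndF s k) = ndF (!s) k) ∧
    (∀ i j : Fin 45, rfI (ndN i) (ndN j) = ndN (tI i j)) ∧
    ∀ (i : Fin 45) (s : Bool) (k : Fin 40), rfI (ndN i) (ndF s k) = ndF (xor s (dlB i k)) (piI i k) := by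
  decide +kernel

theorem rf_fix : ∀ p q : Fin 126, (p == q || adB p q) = true → rfI p q = q := by decide +kernel

theorem rf_swap : ∀ p q : Fin 126, (p == q || adB p q || rfI p q == rfI q p) = true := by decide +kernel

theorem frame_card : ∀ k : Fin 40, pop45 (frM k) = 18 := by decide +kernel

theorem frame_six : ∀ (k : Fin 40) (i : Fin 45), frB k i = true ∨ pop45 (nbM i &&& frM k) = 6 := by decide +kernel

theorem far_cand : ∀ (s t : Bool) (k l : Fin 40), (adB (ndF s k) (ndF t l) || (s == t && k == l) ||
    decide (pop45 (frM k &&& frM l) ≠ 6) ||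
    (List.finRange 45).any fun x => !frB k x && (piI x k == l && xor s (dlB x k) == t)) = true := by decide +kernel

theorem far_row : ∀ (s : Bool) (k : Fin 40),
    ((List.finRange 126).filter fun q => decide (46 ≤ q.val) && adB (ndF s k) q).length = 27 := by decide +kernel

/-- No node but `target` lies outside both rows and over their intersection. -/
def thirdOK (Ap Aq m target p q : ℕ) : List ℕ → ℕ → Bool
  | [], _ => true
  | Ar :: l, r =>
    (Nat.beq r p || Nat.beq r q || Ap.testBit r || Aq.testBit r || !Nat.beq (Ar &&& m) m || Nat.beq r target) &&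
      thirdOK Ap Aq m target p q l (r + 1)

theorem thirdOK_sound (Ap Aq m target p q : ℕ) : ∀ (l : List ℕ) (s : ℕ), thirdOK Ap Aq m target p q l s = true →
    ∀ i < l.length, s + i ≠ p → s + i ≠ q → Ap.testBit (s + i) = false → Aq.testBit (s + i) = false →
      l.getD i 0 &&& m = m → s + i = target
  | [], _, _, i, hi, _, _, _, _, _ => absurd hi (by simp)
  | Ar :: l, s, h, 0, _, h1, h2, h3, h4, h5 => by
    simp only [List.getD_cons_zero] at h5
    simp only [thirdOK, Bool.and_eq_true, Bool.or_eq_true, Nat.beq_eq, Bool.not_eq_true'] at h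
    simp only [Nat.add_zero] at h1 h2 h3 h4 ⊢
    rcases h.1 with ((((k | k) | k) | k) | k) | k
    · exact absurd k h1
    · exact absurd k h2
    · rw [h3] at k; exact Bool.noConfusion k
    · rw [h4] at k; exact Bool.noConfusion k
    · rw [h5] at k
      exact absurd (show Nat.beq m m = true from Nat.beq_refl m) (by rw [k]; simp)
    · exact k
  | Ar :: l, s, h, i + 1, hi, h1, h2, h3, h4, h5 => by
    simp only [List.getD_cons_succ] at h5
    simp only [thirdOK, Bool.and_eq_true] at h
    have hs : s + (i + 1) = s + 1 + i := by omega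
    rw [hs] at h1 h2 h3 h4 ⊢
    exact thirdOK_sound Ap Aq m target p q l (s + 1) h.2 i (by simp at hi; omega) h1 h2 h3 h4 h5

theorem rf_third : (List.finRange 40).all (fun k => [false, true].all fun s =>
    (List.finRange 40).all fun l => [false, true].all fun t =>
      (s == t && k == l) || adB (ndF s k) (ndF t l) ||
        thirdOK (adM (ndF s k)) (adM (ndF t l)) (adM (ndF s k) &&& adM (ndF t l))
          (rfI (ndF s k) (ndF t l)).val (ndF s k).val (ndF t l).val adL 0) = true := by decide +kernel

theorem adL_length : adL.length = 126 := by decide +kernel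

end Cfsg.Agent.FourProd.Tab
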