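/-
The automorphisms of the graph with reflections on 126 points: at most 13063680.

Main results (namespace `Cfsg.Agent.FourProd`):
* `autos` : the permutations preserving the adjacency and the reflections;
* `autos_card` : there are at most 13063680 of them.
-/
import Cfsg.Agent.Lib.FischerM24.Four.CheckGraph

set_option autoImplicit false
set_option maxRecDepth 100000

namespace Cfsg.Agent.FourProd

open Tab

/-- The automorphisms of the tables. -/
def autos : Subgroup (Equiv.Perm (Fin 126)) where
  carrier := {σ | (∀ p q, adB (σ p) (σ q) = adB p q) ∧ ∀ p q, rfI (σ p) (σ q) = σ (rfI p q)}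
  one_mem' := ⟨fun _ _ => rfl, fun _ _ => rfl⟩
  mul_mem' := by
    rintro σ τ ⟨h1, h2⟩ ⟨k1, k2⟩
    exact ⟨fun p q => (h1 (τ p) (τ q)).trans (k1 p q), fun p q => by
      show rfI (σ (τ p)) (σ (τ q)) = σ (τ (rfI p q)); rw [h2, k2]⟩
  inv_mem' := by
    rintro σ ⟨h1, h2⟩
    refine ⟨fun p q => ?_, fun p q => σ.injective ?_⟩
    · conv_rhs => rw [← σ.apply_symm_apply p, ← σ.apply_symm_apply q, h1]
      rfl
    · rw [← h2]; simp

theorem perm_orbit_bound {α : Type*} [Finite α] (K : Subgroup (Equiv.Perm α)) (b : α) (O : Set α)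
    (h : ∀ σ ∈ K, σ b ∈ O) :
    Nat.card K ≤ O.ncard * Nat.card ↥(K ⊓ MulAction.stabilizer (Equiv.Perm α) b) := by
  have h1 := Subgroup.card_mul_index (MulAction.stabilizer K b)
  rw [MulAction.index_stabilizer] at h1
  have h2 : (MulAction.orbit K b).ncard ≤ O.ncard :=
    Set.ncard_le_ncard (by rintro _ ⟨σ, rfl⟩; exact h σ σ.2) (Set.toFinite _)
  have h3 : Nat.card ↥(MulAction.stabilizer K b) ≤ Nat.card ↥(K ⊓ MulAction.stabilizer (Equiv.Perm α) b) :=
    Nat.card_le_card_of_injective (fun σ => ⟨(σ.1 : Equiv.Perm α), σ.1.2, σ.2⟩) fun σ τ h => by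
      exact Subtype.ext (Subtype.ext (congrArg (fun u : ↥(K ⊓ MulAction.stabilizer (Equiv.Perm α) b) =>
        (u : Equiv.Perm α)) h))
  rw [← h1, mul_comm]
  exact Nat.mul_le_mul h2 h3

/-- A table entry of the base as a point. -/
def toNode (v : ℕ) : Fin 126 := ⟨v % 126, Nat.mod_lt _ (by norm_num)⟩

/-- The points with the same adjacency to the fixed ones. -/
def cand (pre : List (Fin 126)) (b : Fin 126) : List (Fin 126) :=
  (List.finRange 126).filter fun j => pre.all fun q => decide (j ≠ q) && (adB j q == adB b q)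

/-- The checked chain of candidates. -/
def chainOK : List (ℕ × ℕ) → List (Fin 126) → Bool
  | [], _ => true
  | (v, c) :: l, pre => pre.all (fun q => decide (toNode v ≠ q)) && decide ((cand pre (toNode v)).length ≤ c) &&
      chainOK l (pre ++ [toNode v])

theorem chain_bound : ∀ (l : List (ℕ × ℕ)) (pre : List (Fin 126)) (K : Subgroup (Equiv.Perm (Fin 126))),
    K ≤ autos → (∀ σ ∈ K, ∀ q ∈ pre, σ q = q) → chainOK l pre = true →
    (∀ K' : Subgroup (Equiv.Perm (Fin 126)), K' ≤ autos →
      (∀ σ ∈ K', ∀ q ∈ pre ++ l.map (fun r => toNode r.1), σ q = q) → K' = ⊥) →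
    Nat.card K ≤ (l.map Prod.snd).prod
  | [], pre, K, hK, hfix, _, hend => by
    rw [hend K hK (by simpa using hfix)]; simp
  | (v, c) :: l, pre, K, hK, hfix, hok, hend => by
    simp only [chainOK, Bool.and_eq_true, List.all_eq_true, decide_eq_true_eq] at hok
    obtain ⟨⟨hne, hlen⟩, hrest⟩ := hok
    have hO : ∀ σ ∈ K, σ (toNode v) ∈ {j | j ∈ cand pre (toNode v)} := fun σ hσ => by
      simp only [Set.mem_setOf_eq, cand, List.mem_filter, List.mem_finRange, true_and, List.all_eq_true,
        Bool.and_eq_true, decide_eq_true_eq, beq_iff_eq]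
      intro q hq
      refine ⟨fun h => hne q hq (σ.injective (h.trans (hfix σ hσ q hq).symm)), ?_⟩
      conv_lhs => rw [← hfix σ hσ q hq]
      exact (hK hσ).1 _ _
    refine (perm_orbit_bound K _ _ hO).trans ?_
    rw [List.map_cons, List.prod_cons]
    refine Nat.mul_le_mul ?_ (chain_bound l (pre ++ [toNode v]) _ (inf_le_left.trans hK) ?_ hrest fun K' hK' h => ?_)
    · refine le_trans (le_of_eq ?_) ((List.toFinset_card_le _).trans hlen)
      rw [← Set.ncard_coe_finset]
      congr 1
      ext j
      simp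
    · intro σ hσ q hq
      rcases List.mem_append.1 hq with hq | hq
      · exact hfix σ hσ.1 q hq
      · rw [List.mem_singleton] at hq
        rw [hq]
        exact hσ.2
    · exact hend K' hK' (by simpa using h)

/-- The points reached from a set of fixed ones. -/
def genRun : List (ℕ × ℕ) → ℕ → ℕ
  | [], m => m
  | (i, j) :: l, m => genRun l
      (if m.testBit (toNode i).val && m.testBit (toNode j).val then
        m ||| 1 <<< (rfI (toNode i) (toNode j)).val else m)

theorem genRun_sound {σ : Equiv.Perm (Fin 126)} (hσ : σ ∈ autos) : ∀ (l : List (ℕ × ℕ)) (m : ℕ),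
    (∀ q : Fin 126, m.testBit q.val = true → σ q = q) →
    ∀ q : Fin 126, (genRun l m).testBit q.val = true → σ q = q
  | [], _, h => h
  | (i, j) :: l, m, h => genRun_sound hσ l _ fun q hq => by
    split at hq
    · rename_i hb
      simp only [Bool.and_eq_true] at hb
      simp only [Nat.testBit_lor, Bool.or_eq_true, Nat.one_shiftLeft, Nat.testBit_two_pow, decide_eq_true_eq] at hq
      rcases hq with hq | hq
      · exact h q hq
      · obtain rfl : rfI (toNode i) (toNode j) = q := Fin.ext hq
        rw [← hσ.2, h _ hb.1, h _ hb.2]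
    · exact h q hq

/-- The mask of the base. -/
def baseMask : ℕ := baseL.foldl (fun acc r => acc ||| 1 <<< (toNode r.1).val) 0

theorem base_ok : chainOK baseL [] = true ∧ genRun genL baseMask = 2 ^ 126 - 1 ∧
    (baseL.map Prod.snd).prod = 13063680 := by decide +kernel

/-- There are at most 13063680 automorphisms. -/
theorem autos_card {K : Subgroup (Equiv.Perm (Fin 126))} (hK : K ≤ autos) : Nat.card K ≤ 13063680 := by
  obtain ⟨h1, h2, h3⟩ := base_ok
  rw [← h3]
  refine chain_bound baseL [] K hK (by simp) h1 fun K' hK' h => ?_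
  refine (Subgroup.eq_bot_iff_forall _).2 fun σ hσ => Equiv.ext fun q => ?_
  refine genRun_sound (hK' hσ) genL baseMask (fun p hp => ?_) q ?_
  · simp only [baseMask, testBit_foldl_or, Nat.zero_testBit, Bool.false_eq_true, false_or, Nat.one_shiftLeft,
      Nat.testBit_two_pow, decide_eq_true_eq] at hp
    obtain ⟨r, hr, hp⟩ := hp
    obtain rfl : toNode r.1 = p := Fin.ext hp
    exact h σ hσ _ (by simp only [List.nil_append, List.mem_map]; exact ⟨r, hr, rfl⟩)
  · rw [h2, Nat.testBit_two_pow_sub_one]
    simp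

end Cfsg.Agent.FourProd
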