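/-
Traces of far members on the 45 neighbouring quads.

Main results (namespace `Cfsg.Agent.FourProd`):
* `tr`, `tr_closed`, `tr_three`, `tr_triangle` : the points of the quads commuting with a far member;
* `flag_unique` : two far members with a common flag in their traces are equal or conjugate by the member;
* `exists_seed` : some far member has a trace that is not linked;
* `tr_frame`, `exists_frame`, `frame_unique` : the non-empty traces are the 40 frames, each twice.
-/
import Cfsg.Agent.Lib.FischerM24.Four.Local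
import Cfsg.Agent.Lib.FischerM24.Four.CheckTrace
import Cfsg.Agent.Lib.FischerM24.LineNorm

set_option autoImplicit false

namespace Cfsg.Agent.FourProd

open Cfsg.Agent.ThreeTrans Cfsg.Agent.ThreeTransSU Cfsg.Agent.FischerM24
open Cfsg.Agent.FischerM22 (IsProd adj_symm)
open Cfsg.Agent.PrimeNorm24 (Quad Ey quad_decomp five_far)
open Tab

variable {G : Type*} [Group G] {D : Set G} {z a : G} {n : Fin 45 → G}

/-- The points whose quads commute with `e`. -/
def tr (n : Fin 45 → G) (e : G) : Set (Fin 45) := {i | Commute e (n i)}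

theorem conj_symm (g x : G) (hg : g * g = 1) : g * (g * x * g⁻¹) * g⁻¹ = x := by
  have : g⁻¹ = g := inv_eq_of_mul_eq_one_right hg
  rw [this, show g * (g * x * g) * g = g * g * x * (g * g) by group, hg, one_mul, mul_one]

variable [Finite G]

theorem qd_ncard (S : Fi24Setup D) {e : G} (hz : IsProd D 4 z) (he : e ∈ Ey D z) : (qd D z e).ncard = 4 := by
  obtain ⟨b, c, d, Q⟩ := quad_decomp S hz he
  obtain ⟨-, -, -, n1, n2, n3, -⟩ := Q.tri
  rw [qd_eq S Q, Set.ncard_insert_of_notMem (by simp [Q.hb.2.1.symm, Q.hc.2.1.symm, Q.hd.2.1.symm]),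
    Set.ncard_eq_three.2 ⟨b, c, d, n1, n2, n3, rfl⟩]

namespace Nbr

/-- A member in the quad of a point. -/
theorem commute_far (N : Nbr D z a n) {e u : G} {i : Fin 45} (he : e ∈ Ey D z) (h : i ∈ tr n e)
    (hu : qd D z u = qd D z (n i)) : Commute e u :=
  commute_of_qd N.S N.hz (N.mem i) (hu ▸ self_mem_qd z u) he h

theorem tr_closed (N : Nbr D z a n) {e : G} (he : e ∈ Ey D z) {i j : Fin 45} (hi : i ∈ tr n e) (hj : j ∈ tr n e) :
    tI i j ∈ tr n e := by
  have h : Commute e (n i * n j * (n i)⁻¹) := ((show Commute e (n i) from hi).mul_right hj).mul_right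
    (show Commute e (n i) from hi).inv_right
  exact commute_of_qd N.S N.hz (Ey_conj N.S (N.mem i).2 (N.mem j))
    ((N.conj i j).symm ▸ self_mem_qd z _) he h

theorem qd_disjoint (N : Nbr D z a n) {i j : Fin 45} (h : i ≠ j) : Disjoint (qd D z (n i)) (qd D z (n j)) :=
  Set.disjoint_left.2 fun _ h1 h2 => h (N.inj i j (qd_eq_of_mem N.S h1 h2))

/-- The members in the quads of a set of points. -/
theorem block_ncard (N : Nbr D z a n) (s : Finset (Fin 45)) : (⋃ i ∈ s, qd D z (n i)).ncard = 4 * s.card := by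
  classical
  induction s using Finset.induction_on with
  | empty => simp
  | insert i s hi ih =>
    rw [Finset.set_biUnion_insert, Set.ncard_union_eq (Set.disjoint_left.2 fun x h1 h2 => ?_) (Set.toFinite _)
      (Set.toFinite _), qd_ncard N.S N.hz (N.mem i), ih, Finset.card_insert_of_notMem hi]
    · ring
    · simp only [Set.mem_iUnion] at h2
      obtain ⟨j, hj, h2⟩ := h2
      exact Set.disjoint_left.1 (N.qd_disjoint fun e => hi (by rwa [e])) h1 h2

theorem tr_three (N : Nbr D z a n) {e : G} (he : e ∈ Ey D z) (hae : ¬ Commute a e) {i : Fin 45}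
    (hi : i ∈ tr n e) : (tr n e ∩ setOf45 (nbM i)).ncard = 3 := by
  classical
  have S := N.S
  have hz := N.hz
  set x := n i with hx
  obtain ⟨q, b, c, Q⟩ := quad_decomp S hz (N.mem i)
  obtain ⟨qD, bD, cD, n1, n2, n3, c1, c2, c3⟩ := Q.tri
  have hax : Commute a x := N.comm_a i
  have hex : Commute e x := hi
  have hQ : qd D z x = {x, q, b, c} := qd_eq S Q
  have hsame : ∀ u ∈ qd D z x, Commute a u ∧ Commute e u ∧ a ≠ u ∧ e ≠ u := fun u hu => by
    have h1 := commute_of_qd S hz (N.mem i) hu N.ha hax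
    have h2 := commute_of_qd S hz (N.mem i) hu he hex
    exact ⟨h1, h2, fun h => hae (h ▸ h2.symm), fun h => hae (h ▸ h1)⟩
  have mq : q ∈ qd D z x := by rw [hQ]; exact Or.inr (Or.inl rfl)
  have mb : b ∈ qd D z x := by rw [hQ]; exact Or.inr (Or.inr (Or.inl rfl))
  have mc : c ∈ qd D z x := by rw [hQ]; exact Or.inr (Or.inr (Or.inr rfl))
  have ad : ∀ {u w}, u ∈ qd D z x → w = a ∨ w = e → w ∈ adj D u := by
    intro u w hu hw
    obtain ⟨h1, h2, h3, h4⟩ := hsame u hu
    rcases hw with rfl | rfl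
    exacts [⟨N.ha.1, h3, h1.symm⟩, ⟨he.1, h4, h2.symm⟩]
  have key := five_far S (Q.ha) Q.hb Q.hc Q.hd (ad (self_mem_qd z x) (Or.inl rfl)) (ad (self_mem_qd z x) (Or.inr rfl))
    ⟨bD, n1.symm, c1⟩ ⟨cD, n2.symm, c2⟩ (ad mq (Or.inl rfl)) (ad mq (Or.inr rfl)) hae (ad mb (Or.inl rfl))
    (ad mb (Or.inr rfl)) ⟨cD, n3.symm, c3⟩ (hsame c mc).1 (hsame c mc).2.1
  have eW : adj D x ∩ adj D q ∩ adj D b ∩ adj D a ∩ adj D e ∩ adj D c =
      ⋃ j ∈ (Set.toFinite (tr n e ∩ setOf45 (nbM i))).toFinset, qd D z (n j) := by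
    ext w
    simp only [Set.mem_iUnion, Set.Finite.mem_toFinset, exists_prop]
    constructor
    · rintro ⟨⟨⟨⟨⟨hwx, hwq⟩, hwb⟩, hwa⟩, hwe⟩, hwc⟩
      have hwz : w ∈ Ey D z := ⟨hwx.1, by
        rw [Q.eq]
        exact hwx.2.2.symm.mul_right ((hwq.2.2.symm.mul_right hwb.2.2.symm).mul_right hwc.2.2.symm)⟩
      have hna : w ∉ qd D z a := fun h => hae (commute_of_qd S hz hwz
        ((qd_same S h).symm ▸ self_mem_qd z a) he hwe.2.2).symm
      obtain ⟨j, hj⟩ := N.surj w hwz hwa.2.2 hna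
      have hji : i ≠ j := fun h => by
        have : w ∈ qd D z x := by rw [hx, h, ← hj]; exact self_mem_qd z w
        rw [hQ] at this
        rcases this with h | h | h | h
        exacts [hwx.2.1 h, hwq.2.1 h, hwb.2.1 h, hwc.2.1 h]
      refine ⟨j, ⟨commute_of_qd S hz hwz (hj.symm ▸ self_mem_qd z (n j)) he hwe.2.2, ?_⟩, hj ▸ self_mem_qd z w⟩
      have := ((N.comm_qd (p := x) rfl hj).1 hwx.2.2).resolve_left hji
      exact this
    · rintro ⟨j, ⟨hje, hji⟩, hw⟩
      have hwj := qd_same S hw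
      have hwz := qd_mem S (N.mem j) hw
      have hij : i ≠ j := fun h => by subst h; exact Bool.noConfusion ((nb_irrefl i).symm.trans hji)
      have hwnot : ∀ u ∈ qd D z x, w ≠ u := fun u hu h =>
        hij (N.inj _ _ ((qd_same S hu).symm.trans (h ▸ hwj)))
      have hwu : ∀ u ∈ qd D z x, w ∈ adj D u := fun u hu =>
        ⟨hwz.1, hwnot u hu, (N.comm_qd (qd_same S hu) hwj).2 (Or.inr hji)⟩
      refine ⟨⟨⟨⟨⟨hwu x (self_mem_qd z x), hwu q mq⟩, hwu b mb⟩, hwz.1, ?_,
        commute_of_qd S hz (N.mem j) hw N.ha (N.comm_a j)⟩, hwz.1, ?_, N.commute_far he hje hwj⟩, hwu c mc⟩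
      · intro h
        exact N.ne_qd j (by rw [← hwj, h])
      · intro h
        exact hae (h ▸ commute_of_qd S hz (N.mem j) hw N.ha (N.comm_a j))
  rw [eW, N.block_ncard, ← Set.ncard_eq_toFinset_card] at key
  omega

theorem tr_triangle (N : Nbr D z a n) {e : G} (he : e ∈ Ey D z) (hae : ¬ Commute a e) {i j k : Fin 45}
    (hi : i ∈ tr n e) (hj : j ∈ tr n e) (hk : k ∈ tr n e) (h1 : nbB i j = true) (h2 : nbB i k = true)
    (h3 : nbB j k = true) : False := by
  classical
  have ne : ∀ {p q : Fin 45}, nbB p q = true → p ≠ q := fun h e => by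
    subst e
    exact Bool.noConfusion ((nb_irrefl _).symm.trans h)
  have hnb : ∀ p ∈ ({i, j, k} : Finset (Fin 45)), ∀ q ∈ ({i, j, k} : Finset (Fin 45)),
      p = q ∨ nbB p q = true := by
    have hc : ∀ {p q}, nbB p q = true → nbB q p = true := fun {p q} h =>
      N.nb_of_comm (ne h).symm ((N.comm p q).2 (Or.inr h)).symm
    intro p hp q hq
    simp only [Finset.mem_insert, Finset.mem_singleton] at hp hq
    rcases hp with rfl | rfl | rfl <;> rcases hq with rfl | rfl | rfl <;>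
      simp [h1, h2, h3, hc h1, hc h2, hc h3]
  have hin : ∀ p ∈ ({i, j, k} : Finset (Fin 45)), p ∈ tr n e := by simp [hi, hj, hk]
  set E : Set G := ⋃ p ∈ ({i, j, k} : Finset (Fin 45)), qd D z (n p)
  have hE : E.ncard = 12 := by
    rw [N.block_ncard, Finset.card_insert_of_notMem (by simp [ne h1, ne h2]), Finset.card_pair (ne h3)]
  have hm : ∀ w ∈ E, ∃ p ∈ ({i, j, k} : Finset (Fin 45)), w ∈ Ey D z ∧ qd D z w = qd D z (n p) := fun w hw => by
    simp only [E, Set.mem_iUnion] at hw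
    obtain ⟨p, hp, hw⟩ := hw
    exact ⟨p, hp, qd_mem N.S (N.mem p) hw, qd_same N.S hw⟩
  have h8 : E.ncard ≤ 8 := by
    rw [← width_common N.S N.ha.1 he.1 hae]
    refine le_csSup ⟨(Set.univ : Set G).ncard, ?_⟩ ⟨E, fun w hw => ?_, Set.toFinite _, fun u hu v hv => ?_, rfl⟩
    · rintro m ⟨K, -, -, -, rfl⟩
      exact Set.ncard_le_ncard (Set.subset_univ _) (Set.toFinite _)
    · obtain ⟨p, hp, hwz, hwq⟩ := hm w hw
      have k1 : Commute a w :=
        commute_of_qd N.S N.hz (N.mem p) (hwq ▸ self_mem_qd z w) N.ha (N.comm_a p)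
      have k2 : Commute e w := N.commute_far he (hin p hp) hwq
      exact ⟨⟨hwz.1, fun h => hae (h ▸ k2.symm), k1⟩, hwz.1, fun h => hae (h ▸ k1), k2⟩
    · obtain ⟨p, hp, -, hp'⟩ := hm u hu
      obtain ⟨q, hq, -, hq'⟩ := hm v hv
      exact (N.comm_qd hp' hq').2 (hnb p hp q hq)
  omega

/-- Far members with a flag in common. -/
theorem flag_unique (N : Nbr D z a n) {e f : G} (he : e ∈ Ey D z) (hf : f ∈ Ey D z) (hae : ¬ Commute a e)
    (haf : ¬ Commute a f) {x y1 y2 : Fin 45} (hx : x ∈ tr n e) (h1 : y1 ∈ tr n e) (h2 : y2 ∈ tr n e)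
    (hx' : x ∈ tr n f) (h1' : y1 ∈ tr n f) (h2' : y2 ∈ tr n f) (k1 : nbB x y1 = true) (k2 : nbB x y2 = true)
    (hne : y1 ≠ y2) (k12 : nbB y1 y2 = false) : qd D z f = qd D z e ∨ qd D z f = qd D z (a * e * a⁻¹) := by
  have S := N.S
  have hz := N.hz
  obtain ⟨m, M⟩ := exists_nbr S hz (N.mem x)
  have far : ∀ {g}, g ∈ Ey D z → ¬ Commute a g → g ∉ qd D z (n x) := fun {g} hg hag h =>
    hag (commute_of_qd S hz (N.mem x) h N.ha (N.comm_a x))
  obtain ⟨u, hu⟩ := M.surj a N.ha (N.comm_a x).symm fun h => N.ne_qd x (qd_same S h).symm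
  obtain ⟨v, hv⟩ := M.surj e he hx.symm (far he hae)
  obtain ⟨w, hw⟩ := M.surj f hf hx'.symm (far hf haf)
  have hny : ∀ {y}, nbB x y = true → x ≠ y := fun hy e => by
    subst e; exact Bool.noConfusion ((nb_irrefl _).symm.trans hy)
  obtain ⟨i, hi⟩ := M.surj (n y1) (N.mem y1) ((N.comm x y1).2 (Or.inr k1))
    fun h => hny k1 (N.inj _ _ (qd_same S h)).symm
  obtain ⟨j, hj⟩ := M.surj (n y2) (N.mem y2) ((N.comm x y2).2 (Or.inr k2))
    fun h => hny k2 (N.inj _ _ (qd_same S h)).symm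
  have hij : i ≠ j := fun h => hne (N.inj _ _ (hi.trans (h ▸ hj.symm)))
  have hijn : nbB i j = false := by
    by_contra h
    exact N.noncomm_of_ne hne k12 ((M.comm_qd hi hj).2 (Or.inr (by simpa using h)))
  have hmem : ∀ {g : G} {l : Fin 45}, g ∈ Ey D z → qd D z g = qd D z (m l) → Commute g (n y1) → Commute g (n y2) →
      ¬ qd D z g = qd D z (n y1) → ¬ qd D z g = qd D z (n y2) → l ∈ pts45 (nbM i &&& nbM j) := by
    intro g l hg hl c1 c2 d1 d2
    rw [mem_pts45, Nat.testBit_land, Bool.and_eq_true]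
    exact ⟨((M.comm_qd hi hl).1 c1.symm).resolve_left fun h => d1 (hl.trans (h ▸ hi.symm)),
      ((M.comm_qd hj hl).1 c2.symm).resolve_left fun h => d2 (hl.trans (h ▸ hj.symm))⟩
  have farq : ∀ {g} (y : Fin 45), g ∈ Ey D z → ¬ Commute a g → ¬ qd D z g = qd D z (n y) := fun {g} y hg hag h =>
    hag (commute_of_qd S hz (N.mem y) (h ▸ self_mem_qd z g) N.ha (N.comm_a y))
  have mu := hmem N.ha hu (N.comm_a y1) (N.comm_a y2) (fun h => N.ne_qd y1 h.symm) (fun h => N.ne_qd y2 h.symm)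
  have mv := hmem he hv h1 h2 (farq y1 he hae) (farq y2 he hae)
  have mw := hmem hf hw h1' h2' (farq y1 hf haf) (farq y2 hf haf)
  have huv : u ≠ v := fun h => hae ((M.comm_qd hu hv).2 (Or.inl h))
  have key := pair_third i j
  simp only [hij, hijn, decide_false, Bool.false_or, List.all_eq_true, Bool.or_eq_true, decide_eq_true_eq] at key
  rcases key u mu v mv w mw with ((h | h) | h) | h
  · exact absurd h huv
  · exact absurd ((M.comm_qd hu hw).2 (Or.inl h.symm)) haf
  · exact Or.inl (hw.trans (h ▸ hv.symm))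
  · exact Or.inr (hw.trans (h ▸ (M.conj_qd hu hv).symm))

end Nbr

end Cfsg.Agent.FourProd
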