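/-
A far member whose trace is not linked, from the fixed members of a group of order 13.

Main results (namespace `Cfsg.Agent.FourProd`):
* `exists_six_quad` : two commuting triangles commuting with a product of four members, with no member
  commuting with both triangles;
* `Nbr.exists_seed` : a far member whose trace has two non-collinear points without common neighbour in it.
-/
import Cfsg.Agent.Lib.FischerM24.Four.Trace
import Cfsg.Agent.Lib.FischerM24.PrimeNorm.ThirteenG2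

set_option autoImplicit false

namespace Cfsg.Agent.FourProd

open Cfsg.Agent.ThreeTrans Cfsg.Agent.ThreeTransSU Cfsg.Agent.FischerM24
open Cfsg.Agent.FischerM22 (IsProd isProd_cases)
open Cfsg.Agent.PrimeNorm24 (Quad Ey quad_decomp thirteen_six Six centFour centFour_iso)
open Tab

variable {G : Type*} [Group G] [Finite G] {D : Set G}

theorem exists_six_quad (S : Fi24Setup D) : ∃ u a b c d : G, IsProd D 4 u ∧ Six D a b c d ∧
    a ∈ Ey D u ∧ b ∈ Ey D u ∧ c ∈ Ey D u ∧ d ∈ Ey D u ∧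
    ∀ w ∈ D, ¬ (Commute w a ∧ Commute w b ∧ Commute w c ∧ Commute w d) := by
  have hD := S.cls.1
  have := Fact.mk (by norm_num : Nat.Prime 13)
  obtain ⟨x, hx⟩ := exists_prime_orderOf_dvd_card' (G := G) 13 (by rw [group_card S]; norm_num)
  have hX : Nat.card (Subgroup.zpowers x) = 13 := by rw [Nat.card_zpowers, hx]
  obtain ⟨a, b, c, d, h, ha, hb, hc, hd⟩ := thirteen_six S hX
  obtain ⟨e⟩ := centFour_iso S hX h ha hb hc hd
  have : Fact (Nat.Prime 3) := ⟨by norm_num⟩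
  obtain ⟨hsimp, hnc⟩ := Cfsg.Agent.S1055.result (F := ZMod 3)
    ⟨2, PrimeNorm24.two_ne.1, PrimeNorm24.two_ne.2⟩
  obtain ⟨χ, hχ⟩ := exists_parity S
  have hno : ∀ w ∈ D, ¬ (Commute w a ∧ Commute w b ∧ Commute w c ∧ Commute w d) := by
    rintro w hw ⟨k1, k2, k3, k4⟩
    have hmem : w ∈ centFour a b c d :=
      ⟨⟨⟨Subgroup.mem_centralizer_singleton_iff.2 k1, Subgroup.mem_centralizer_singleton_iff.2 k4⟩,
        Subgroup.mem_centralizer_singleton_iff.2 k2⟩, Subgroup.mem_centralizer_singleton_iff.2 k3⟩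
    let f : ↥(Cfsg.Lie.chevG2.group (ZMod 3)) →* ℤˣ := (χ.comp (centFour a b c d).subtype).comp e.symm.toMonoidHom
    rcases Subgroup.Normal.eq_bot_or_eq_top (inferInstance : f.ker.Normal) with hb | ht
    · refine hnc ⟨⟨fun p q => ?_⟩⟩
      exact (MonoidHom.ker_eq_bot_iff f).1 hb (by rw [map_mul, map_mul, mul_comm])
    · have h1 : e ⟨w, hmem⟩ ∈ f.ker := ht ▸ Subgroup.mem_top _
      have h2 : χ w = 1 := by simpa [f, MonoidHom.mem_ker] using h1
      rw [hχ w hw] at h2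
      exact absurd h2 (by decide)
  have heven : 2 ∣ Nat.card ↥(centFour a b c d) := by
    rw [Nat.card_congr e.toEquiv, Cfsg.Agent.S1059.result (q := 3) (ZMod.card 3)]
    norm_num
  have := Fact.mk Nat.prime_two
  obtain ⟨u, hu⟩ := exists_prime_orderOf_dvd_card' (G := ↥(centFour a b c d)) 2 heven
  rw [← Subgroup.orderOf_coe] at hu
  obtain ⟨⟨⟨k1, k4⟩, k2⟩, k3⟩ := u.2
  have c1 : Commute a (u : G) := (Subgroup.mem_centralizer_singleton_iff.1 k1).symm
  have c2 : Commute b (u : G) := (Subgroup.mem_centralizer_singleton_iff.1 k2).symm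
  have c3 : Commute c (u : G) := (Subgroup.mem_centralizer_singleton_iff.1 k3).symm
  have c4 : Commute d (u : G) := (Subgroup.mem_centralizer_singleton_iff.1 k4).symm
  obtain ⟨m, h1, h4, hm⟩ := FischerM24.involution_prod S (x := (u : G))
    (by rw [← pow_two, ← hu, pow_orderOf_eq_one]) (fun e => by rw [e, orderOf_one] at hu; norm_num at hu)
  obtain rfl : m = 4 := by
    by_contra hne
    have hall : ∀ {p : G}, p ∈ D → (∀ y ∈ D, Commute y (u : G) → Commute y p) → False := fun {p} hp k =>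
      hno p hp ⟨(k a h.ha c1).symm, (k b h.hb c2).symm, (k c h.hc c3).symm, (k d h.hd c4).symm⟩
    rcases isProd_cases h1 (by omega) hm with ⟨-, hp⟩ | ⟨-, p, hp, q, hq, he⟩ | ⟨-, p, q, r, hT, he⟩
    · exact hall hp fun y _ hy => hy
    · exact hall hp fun y hy hyu => ((commute_mul_iff hD hp hq.1 hy hq.2.1.symm hq.2.2).1 (he ▸ hyu)).1
    · obtain ⟨hp, hq, hr, n1, n2, n3, d1, d2, d3⟩ := hT
      exact hall hp fun y hy hyu =>
        ((commute_mul_three_iff hD hp hq hr hy n1 n2 n3 d1 d2 d3).1 (he ▸ hyu)).1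
  exact ⟨u, a, b, c, d, hm, h, ⟨h.ha, c1⟩, ⟨h.hb, c2⟩, ⟨h.hc, c3⟩, ⟨h.hd, c4⟩, hno⟩

theorem Nbr.exists_seed {z a : G} {n : Fin 45 → G} (N : Nbr D z a n) : ∃ e ∈ Ey D z, ¬ Commute a e ∧
    ∃ i ∈ tr n e, ∃ j ∈ tr n e, i ≠ j ∧ nbB i j = false ∧
      ∀ w ∈ tr n e, ¬ (nbB i w = true ∧ nbB j w = true) := by
  have S := N.S
  have hz := N.hz
  obtain ⟨u, a1, b1, c1, d1, hu, h, ma, mb, mc, md, hno⟩ := exists_six_quad S
  obtain ⟨g, hg⟩ := isConj_iff.1 (FischerM24.prod_conj S (by norm_num) le_rfl hu hz)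
  have move : ∀ {k : G}, k * u * k⁻¹ = z → ∀ {p}, p ∈ Ey D u → k * p * k⁻¹ ∈ Ey D z := fun {k} hk {p} hp =>
    ⟨S.conj_mem k hp.1, by have := (commute_conj_iff k p u).2 hp.2; rwa [hk] at this⟩
  obtain ⟨p, q, r, Q⟩ := quad_decomp S hz (move hg ma)
  obtain ⟨p', q', r', Q'⟩ := quad_decomp S hz N.ha
  obtain ⟨k, e1, e2, e3, e4⟩ := quad_conj S Q.ha Q.hb Q.hc Q.hd Q.tri Q'.ha Q'.hb Q'.hc Q'.hd Q'.tri
  have hkz : k * z * k⁻¹ = z := by
    conv_lhs => rw [Q.eq]
    rw [show k * (g * a1 * g⁻¹ * (p * q * r)) * k⁻¹ = k * (g * a1 * g⁻¹) * k⁻¹ *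
      ((k * p * k⁻¹) * (k * q * k⁻¹) * (k * r * k⁻¹)) by group, e1, e2, e3, e4, ← Q'.eq]
  set m := k * g with hm
  have hmu : m * u * m⁻¹ = z := by rw [hm, show k * g * u * (k * g)⁻¹ = k * (g * u * g⁻¹) * k⁻¹ by group, hg, hkz]
  have hma : m * a1 * m⁻¹ = a := by rw [hm, ← e1]; group
  have cm : ∀ p q, Commute (m * p * m⁻¹) (m * q * m⁻¹) ↔ Commute p q := commute_conj_iff m
  have hd' : ¬ Commute a (m * d1 * m⁻¹) := fun hc => h.had ((cm _ _).1 (hma ▸ hc))
  have near : ∀ {x}, x ∈ Ey D u → Commute a1 x → Commute d1 x →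
      ∃ i, qd D z (m * x * m⁻¹) = qd D z (n i) ∧ i ∈ tr n (m * d1 * m⁻¹) := by
    intro x hx hax hdx
    have hax' : Commute a (m * x * m⁻¹) := hma ▸ (cm _ _).2 hax
    obtain ⟨i, hi⟩ := N.surj _ (move hmu hx) hax' fun hq =>
      hd' (commute_of_qd S hz (move hmu hx) ((qd_same S hq).symm ▸ self_mem_qd z a) (move hmu md)
        ((cm _ _).2 hdx)).symm
    exact ⟨i, hi, commute_of_qd S hz (move hmu hx) (hi.symm ▸ self_mem_qd z (n i)) (move hmu md) ((cm _ _).2 hdx)⟩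
  obtain ⟨i, hi, hi'⟩ := near mb h.hab h.hdb
  obtain ⟨j, hj, hj'⟩ := near mc h.hac h.hdc
  have hnij : ¬ (i = j ∨ nbB i j = true) := fun hh => h.hbc ((cm _ _).1 ((N.comm_qd hi hj).2 hh))
  refine ⟨_, move hmu md, hd', i, hi', j, hj', fun e => hnij (Or.inl e),
    by simpa using fun e => hnij (Or.inr e), fun w hw hwn => ?_⟩
  have hback : n w = m * (m⁻¹ * n w * m) * m⁻¹ := by group
  refine hno (m⁻¹ * n w * m) (by simpa using S.conj_mem m⁻¹ (N.mem w).1) ⟨?_, ?_, ?_, ?_⟩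
  · exact (cm _ _).1 (by rw [← hback, hma]; exact (N.comm_a w).symm)
  · exact (cm _ _).1 (by rw [← hback]; exact ((N.comm_qd hi rfl).2 (Or.inr hwn.1)).symm)
  · exact (cm _ _).1 (by rw [← hback]; exact ((N.comm_qd hj rfl).2 (Or.inr hwn.2)).symm)
  · exact (cm _ _).1 (by rw [← hback]; exact (show Commute (m * d1 * m⁻¹) (n w) from hw).symm)

end Cfsg.Agent.FourProd
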