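/-
The non-empty traces of far members are the 40 frames.

Main results (namespace `Cfsg.Agent.FourProd`):
* `Nbr.tr_frame`, `Nbr.exists_frame`, `Nbr.frame_unique` : the far quads with neighbours near `a` are two
  over each frame, exchanged by `a`.
-/
import Cfsg.Agent.Lib.FischerM24.Four.Seed

set_option autoImplicit false

namespace Cfsg.Agent.FourProd

open Cfsg.Agent.ThreeTrans Cfsg.Agent.ThreeTransSU Cfsg.Agent.FischerM24
open Cfsg.Agent.FischerM22 (IsProd)
open Cfsg.Agent.PrimeNorm24 (Ey)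
open Tab

variable {G : Type*} [Group G] {D : Set G} {z a : G} {n : Fin 45 → G}

/-- A trace with two non-collinear points that have no common neighbour in it. -/
def Unlinked (n : Fin 45 → G) (e : G) : Prop :=
  ∃ i ∈ tr n e, ∃ j ∈ tr n e, i ≠ j ∧ nbB i j = false ∧ ∀ w ∈ tr n e, ¬ (nbB i w = true ∧ nbB j w = true)

theorem mem_nbM {i j : Fin 45} : j ∈ setOf45 (nbM i) ↔ nbB i j = true := Iff.rfl

theorem pos_pop45 {m : ℕ} : 0 < pop45 m ↔ ∃ i, i ∈ setOf45 m := by
  rw [← setOf45_ncard, Set.ncard_pos (Set.toFinite _)]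
  rfl

variable [Finite G]

/-- A member and its conjugate by a far one lie in different quads. -/
theorem qd_conj_ne (S : Fi24Setup D) (hz : IsProd D 4 z) {e x : G} (he : e ∈ Ey D z) (hx : x ∈ Ey D z)
    (h : ¬ Commute x e) : qd D z (x * e * x⁻¹) ≠ qd D z e := fun hq => by
  have hc : Commute e (x * e * x⁻¹) := qd_self_commute S hz he (hq ▸ self_mem_qd z _)
  refine h ?_
  have hD := S.cls.1
  rw [conj_member hD hx.1, braid hD hx.1 he.1 h] at hc
  have h2 := (commute_conj_iff e e (e * x * e)).2 hc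
  have ee := mul_self hD he.1
  rw [conj_of_commute (Commute.refl e), conj_member hD he.1,
    show e * (e * x * e) * e = (e * e) * x * (e * e) by group, ee, one_mul, mul_one] at h2
  exact h2.symm

namespace Nbr

theorem nb_symm (N : Nbr D z a n) {i j : Fin 45} (h : nbB i j = true) : nbB j i = true := by
  refine N.nb_of_comm ?_ ((N.comm i j).2 (Or.inr h)).symm
  rintro rfl
  exact Bool.noConfusion ((nb_irrefl _).symm.trans h)

theorem tr_congr (N : Nbr D z a n) {e f : G} (he : e ∈ Ey D z) (h : qd D z f = qd D z e) : tr n f = tr n e := by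
  ext i
  exact commute_iff_of_qd N.S N.hz he (N.mem i) h rfl

theorem tr_aconj (N : Nbr D z a n) (e : G) : tr n (a * e * a⁻¹) = tr n e := by
  ext i
  show Commute (a * e * a⁻¹) (n i) ↔ Commute e (n i)
  conv_lhs => rw [← conj_of_commute (N.comm_a i)]
  exact commute_conj_iff a e (n i)

theorem far_aconj (N : Nbr D z a n) {e : G} (he : e ∈ Ey D z) (hae : ¬ Commute a e) :
    a * e * a⁻¹ ∈ Ey D z ∧ ¬ Commute a (a * e * a⁻¹) := by
  refine ⟨Ey_conj N.S N.ha.2 he, fun h => hae ((commute_conj_iff a a e).1 ?_)⟩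
  rwa [conj_of_commute (Commute.refl a)]

/-- Moving a far member by the member of a point. -/
theorem move (N : Nbr D z a n) {e : G} (he : e ∈ Ey D z) (hae : ¬ Commute a e) (g : Fin 45) :
    n g * e * (n g)⁻¹ ∈ Ey D z ∧ ¬ Commute a (n g * e * (n g)⁻¹) ∧
      ∀ i, tI g i ∈ tr n (n g * e * (n g)⁻¹) ↔ i ∈ tr n e := by
  refine ⟨Ey_conj N.S (N.mem g).2 he, fun h => hae ((commute_conj_iff (n g) a e).1 ?_), fun i => ?_⟩
  · rwa [conj_of_commute (N.comm_a g).symm]
  · show Commute _ (n (tI g i)) ↔ Commute e (n i)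
    rw [← commute_conj_iff (n g) e (n i)]
    exact (commute_iff_of_qd N.S N.hz (Ey_conj N.S (N.mem g).2 he) (N.mem _) rfl (N.conj g i)).symm

theorem nb_img (N : Nbr D z a n) (g i j : Fin 45) : nbB (tI g i) (tI g j) = nbB i j := by
  have h : (tI g i = tI g j ∨ nbB (tI g i) (tI g j) = true) ↔ (i = j ∨ nbB i j = true) := by
    rw [← N.comm_qd (N.conj g i) (N.conj g j), commute_conj_iff, N.comm]
  have hinj : tI g i = tI g j ↔ i = j :=
    ⟨fun e => by rw [← tI_invol g i, e, tI_invol], fun e => by rw [e]⟩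
  by_cases hij : i = j
  · subst hij; rw [nb_irrefl, nb_irrefl]
  · rw [Bool.eq_iff_iff]
    simpa [hinj, hij] using h

theorem unlinked_move (N : Nbr D z a n) {e : G} (he : e ∈ Ey D z) (hae : ¬ Commute a e) (g : Fin 45)
    (h : Unlinked n e) : Unlinked n (n g * e * (n g)⁻¹) := by
  obtain ⟨i, hi, j, hj, hne, hn, hw⟩ := h
  have hm := (N.move he hae g).2.2
  refine ⟨tI g i, (hm i).2 hi, tI g j, (hm j).2 hj, fun e' => hne (by rw [← tI_invol g i, e', tI_invol]),
    by rw [N.nb_img]; exact hn, fun w hw' => ?_⟩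
  rw [← tI_invol g w, N.nb_img, N.nb_img]
  exact hw _ ((hm _).1 (by rwa [tI_invol]))

theorem frame_move (N : Nbr D z a n) {e : G} (he : e ∈ Ey D z) (hae : ¬ Commute a e) (g : Fin 45) {k : Fin 40}
    (h : tr n e = setOf45 (frM k)) : tr n (n g * e * (n g)⁻¹) = setOf45 (frM (piI g k)) := by
  ext i
  rw [← frame_img, mem_imgMask, ← h]
  have hm := (N.move he hae g).2.2
  constructor
  · exact fun hi => ⟨tI g i, (hm _).1 (by rwa [tI_invol]), tI_invol g i⟩
  · rintro ⟨j, hj, rfl⟩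
    exact (hm j).2 hj

theorem bad_sound (N : Nbr D z a n) {e : G} (he : e ∈ Ey D z) (hae : ¬ Commute a e) {m : ℕ}
    (hm : setOf45 m ⊆ tr n e) : bad m = false := by
  by_contra hb
  simp only [Bool.not_eq_false, bad, List.any_eq_true, Bool.or_eq_true, decide_eq_true_eq] at hb
  obtain ⟨i, hi, h | ⟨j, hj, h⟩⟩ := hb
  · rw [← setOf45_ncard, setOf45_inter] at h
    have := Set.ncard_le_ncard (show setOf45 (nbM i) ∩ setOf45 m ⊆ tr n e ∩ setOf45 (nbM i) from
      fun x hx => ⟨hm hx.2, hx.1⟩) (Set.toFinite _)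
    rw [N.tr_three he hae (hm (mem_pts45.1 hi))] at this
    omega
  · obtain ⟨k, hk⟩ := pos_pop45.1 h
    rw [setOf45_inter, setOf45_inter] at hk
    have hj' : j ∈ setOf45 (nbM i) ∩ setOf45 m := by rw [← setOf45_inter]; exact mem_pts45.1 hj
    exact N.tr_triangle he hae (hm (mem_pts45.1 hi)) (hm hj'.2) (hm hk.2) hj'.1 hk.1.1 hk.1.2

theorem cubic_sound (N : Nbr D z a n) {e : G} (he : e ∈ Ey D z) (hae : ¬ Commute a e) {m : ℕ}
    (hm : setOf45 m ⊆ tr n e) (hc : cubic m = true) {i w : Fin 45} (hi : i ∈ setOf45 m) (hw : w ∈ tr n e)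
    (h : nbB i w = true) : w ∈ setOf45 m := by
  simp only [cubic, List.all_eq_true, decide_eq_true_eq] at hc
  have h3 := hc i (mem_pts45.2 hi)
  rw [← setOf45_ncard, setOf45_inter] at h3
  have he' : setOf45 (nbM i) ∩ setOf45 m = tr n e ∩ setOf45 (nbM i) :=
    Set.eq_of_subset_of_ncard_le (fun x hx => ⟨hm hx.2, hx.1⟩) (by rw [h3, N.tr_three he hae (hm hi)]) (Set.toFinite _)
  exact (he'.symm.subset ⟨hw, h⟩).2

theorem flag_in (N : Nbr D z a n) {e : G} (he : e ∈ Ey D z) (hae : ¬ Commute a e) {i : Fin 45}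
    (hi : i ∈ tr n e) : ∃ y1 y2, y1 ∈ tr n e ∧ y2 ∈ tr n e ∧ nbB i y1 = true ∧ nbB i y2 = true ∧ y1 ≠ y2 ∧
      nbB y1 y2 = false := by
  obtain ⟨y1, y2, y3, h12, -, -, hs⟩ := Set.ncard_eq_three.1 (N.tr_three he hae hi)
  have h1 : y1 ∈ tr n e ∩ setOf45 (nbM i) := hs ▸ Or.inl rfl
  have h2 : y2 ∈ tr n e ∩ setOf45 (nbM i) := hs ▸ Or.inr (Or.inl rfl)
  refine ⟨y1, y2, h1.1, h2.1, h1.2, h2.2, h12, ?_⟩
  by_contra h
  exact N.tr_triangle he hae hi h1.1 h2.1 h1.2 h2.2 (by simpa using h)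

/-- A trace containing a listed flag has a translate containing the first flag. -/
theorem descend (N : Nbr D z a n) : ∀ (k : ℕ), k < 720 → ∀ {e : G}, e ∈ Ey D z → ¬ Commute a e →
    ∀ x : Fin 45, x.val = (flagE k).1 → x ∈ tr n e → setOf45 (flagE k).2.1 ⊆ tr n e →
    ∃ e' ∈ Ey D z, ¬ Commute a e' ∧ x0 ∈ tr n e' ∧ y10 ∈ tr n e' ∧ y20 ∈ tr n e' ∧
      (Unlinked n e → Unlinked n e') ∧
      ∀ l, tr n e' = setOf45 (frM l) → ∃ l', tr n e = setOf45 (frM l') := by
  intro k
  induction k using Nat.strong_induction_on with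
  | _ k ih =>
    intro hk e he hae x hx hxe hmask
    rcases flag_step ⟨k, hk⟩ with h0 | ⟨hp, g, -, xp, hxp, himg, hm⟩
    · subst h0
      obtain ⟨f1, f2, -⟩ := flag_zero
      obtain rfl : x = x0 := Fin.ext (hx.trans f1)
      rw [f2, setOf45_or, setOf45_or, setOf45_bit, setOf45_bit, setOf45_bit] at hmask
      exact ⟨e, he, hae, hxe, hmask (Or.inl (Or.inl rfl)), hmask (Or.inl (Or.inr rfl)), id, fun l hl => ⟨l, hl⟩⟩
    · dsimp only at hp hxp himg hm
      obtain ⟨hge, hga, hmv⟩ := N.move he hae g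
      have hgx : tI g xp = x := Fin.ext (himg.trans hx.symm)
      have back : ∀ i, i ∈ tr n (n g * e * (n g)⁻¹) ↔ tI g i ∈ tr n e := fun i => by
        rw [← hmv (tI g i), tI_invol]
      obtain ⟨e', he', hae', h1, h2, h3, hu, hl⟩ := ih _ hp (by omega) hge hga xp hxp
        ((back _).2 (hgx ▸ hxe)) fun i hi => (back i).2 (hmask (by rw [← hm, mem_imgMask]; exact ⟨i, hi, rfl⟩))
      refine ⟨e', he', hae', h1, h2, h3, fun h => hu (N.unlinked_move he hae g h), fun l h => ?_⟩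
      obtain ⟨l', hl'⟩ := hl l h
      refine ⟨piI g l', ?_⟩
      have := N.frame_move hge hga g hl'
      rwa [conj_symm _ _ (mul_self N.S.cls.1 (N.mem g).1)] at this

theorem to_first (N : Nbr D z a n) {e : G} (he : e ∈ Ey D z) (hae : ¬ Commute a e) (hne : (tr n e).Nonempty) :
    ∃ e' ∈ Ey D z, ¬ Commute a e' ∧ x0 ∈ tr n e' ∧ y10 ∈ tr n e' ∧ y20 ∈ tr n e' ∧
      (Unlinked n e → Unlinked n e') ∧
      ∀ l, tr n e' = setOf45 (frM l) → ∃ l', tr n e = setOf45 (frM l') := by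
  obtain ⟨x, hx⟩ := hne
  obtain ⟨y1, y2, h1, h2, k1, k2, hne, k12⟩ := N.flag_in he hae hx
  have hl := flag_cover x y1 (mem_pts45.2 k1) y2 (mem_pts45.2 k2) hne k12
  simp only [listed, List.any_eq_true, Bool.and_eq_true, decide_eq_true_eq, beq_iff_eq] at hl
  obtain ⟨k, -, ⟨hk, hkx⟩, hkm⟩ := hl
  refine N.descend k hk he hae x hkx.symm hx ?_
  rw [hkm, setOf45_or, setOf45_or, setOf45_bit, setOf45_bit, setOf45_bit]
  rintro i ((rfl | rfl) | rfl)
  exacts [h1, h2, N.tr_closed he h1 h2]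

theorem class_first (N : Nbr D z a n) {e : G} (he : e ∈ Ey D z) (hae : ¬ Commute a e) (h0 : x0 ∈ tr n e)
    (h1 : y10 ∈ tr n e) (h2 : y20 ∈ tr n e) (hu : Unlinked n e) : tr n e = setOf45 (frM k00) := by
  obtain ⟨-, -, k1, k2, k12, -⟩ := flag_zero
  have h3 := N.tr_three he hae h1
  obtain ⟨x2, hx2, hne⟩ := Set.exists_ne_of_one_lt_ncard (s := tr n e ∩ setOf45 (nbM y10))
    (by omega) x0
  have hn02 : nbB x0 x2 = false := by
    by_contra h
    exact N.tr_triangle he hae h1 h0 hx2.1 (N.nb_symm k1) hx2.2 (by simpa using h)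
  have key := flag_class x2 (mem_pts45.2 hx2.2) hne hn02
  set m := cl (bit x0 ||| bit y10 ||| bit y20 ||| bit x2) with hmdef
  have hcl : ∀ i ∈ tr n e, ∀ j ∈ tr n e, tI i j ∈ tr n e := fun i hi j hj => N.tr_closed he hi hj
  have hm : setOf45 m ⊆ tr n e := cl_sound hcl (by
    simp only [setOf45_or, setOf45_bit, Set.union_subset_iff, Set.singleton_subset_iff]
    exact ⟨⟨⟨h0, h1⟩, h2⟩, hx2.1⟩)
  simp only [N.bad_sound he hae hm, Bool.false_or, Bool.and_eq_true, List.all_eq_true] at key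
  obtain ⟨⟨hc, hl⟩, hw⟩ := key
  obtain ⟨w, hwe, hwm⟩ : ∃ w ∈ tr n e, w ∉ setOf45 m := by
    by_contra hall
    have hsub : tr n e ⊆ setOf45 m := fun w hw => by_contra fun hwm => hall ⟨w, hw, hwm⟩
    obtain ⟨i, hi, j, hj, hij, hn, hno⟩ := hu
    simp only [linked, List.all_eq_true, Bool.or_eq_true, decide_eq_true_eq] at hl
    rcases hl i (mem_pts45.2 (hsub hi)) j (mem_pts45.2 (hsub hj)) with (h | h) | h
    · exact hij h
    · rw [hn] at h; exact Bool.noConfusion h
    · obtain ⟨q, hq⟩ := pos_pop45.1 h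
      rw [setOf45_inter, setOf45_inter] at hq
      exact hno q (hm hq.2) hq.1
  have hT : setOf45 (cl (m ||| bit w)) ⊆ tr n e := cl_sound hcl (by
    simp only [setOf45_or, setOf45_bit, Set.union_subset_iff, Set.singleton_subset_iff]
    exact ⟨hm, hwe⟩)
  have hnone : ¬ 0 < pop45 (nbM w &&& m) := fun h => by
    obtain ⟨i, hi⟩ := pos_pop45.1 h
    rw [setOf45_inter] at hi
    exact hwm (N.cubic_sound he hae hm hc hi.2 hwe (N.nb_symm hi.1))
  have hb := N.bad_sound he hae hT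
  have hw' := hw w (List.mem_finRange w)
  simp only [hb, Bool.or_eq_true, decide_eq_true_eq, Bool.false_eq_true, or_false, beq_iff_eq] at hw'
  rcases hw' with (h | h) | h
  · exact absurd h hwm
  · exact absurd h hnone
  · rw [h] at hT
    refine Set.Subset.antisymm (fun i hi => ?_) hT
    rcases frame_outside k00 i with h' | h'
    · exact h'
    · obtain ⟨j, hj⟩ := pos_pop45.1 h'
      rw [setOf45_inter] at hj
      exact N.cubic_sound he hae hT (frame_cubic k00) hj.2 hi (N.nb_symm hj.1)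

theorem exists_frame_zero (N : Nbr D z a n) :
    ∃ e ∈ Ey D z, ¬ Commute a e ∧ tr n e = setOf45 (frM k00) := by
  obtain ⟨e, he, hae, hu⟩ := N.exists_seed
  obtain ⟨e', he', hae', h0, h1, h2, hu', -⟩ := N.to_first he hae ⟨hu.choose, hu.choose_spec.1⟩
  exact ⟨e', he', hae', N.class_first he' hae' h0 h1 h2 (hu' hu)⟩

/-- A non-empty trace is a frame. -/
theorem tr_frame (N : Nbr D z a n) {e : G} (he : e ∈ Ey D z) (hae : ¬ Commute a e) (hne : (tr n e).Nonempty) :
    ∃ k, tr n e = setOf45 (frM k) := by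
  obtain ⟨e', he', hae', h0, h1, h2, -, hl⟩ := N.to_first he hae hne
  obtain ⟨f, hf, haf, hF⟩ := N.exists_frame_zero
  obtain ⟨-, -, k1, k2, k12, hne'⟩ := flag_zero
  have hin : x0 ∈ tr n f ∧ y10 ∈ tr n f ∧ y20 ∈ tr n f := by
    rw [hF]
    exact ⟨show (frM k00).testBit x0.val = true by decide +kernel, show (frM k00).testBit y10.val = true by decide +kernel,
      show (frM k00).testBit y20.val = true by decide +kernel⟩
  refine hl k00 ?_
  rcases N.flag_unique hf he' haf hae' hin.1 hin.2.1 hin.2.2 h0 h1 h2 k1 k2 hne' k12 with h | h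
  · rw [N.tr_congr hf h, hF]
  · rw [N.tr_congr (N.far_aconj hf haf).1 h, N.tr_aconj, hF]

/-- Every frame is a trace. -/
theorem exists_frame (N : Nbr D z a n) (k : Fin 40) :
    ∃ e ∈ Ey D z, ¬ Commute a e ∧ tr n e = setOf45 (frM k) := by
  induction hk : k.val using Nat.strong_induction_on generalizing k with
  | _ m ih =>
    subst hk
    rcases tree_spec k with h0 | ⟨hp, x, p, -, hpv, hpi⟩
    · obtain rfl : k = k00 := Fin.ext h0
      exact N.exists_frame_zero
    · obtain ⟨e, he, hae, h⟩ := ih p.val (hpv ▸ hp) p rfl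
      exact ⟨_, (N.move he hae x).1, (N.move he hae x).2.1, hpi ▸ N.frame_move he hae x h⟩

/-- The members over one frame lie in two quads. -/
theorem frame_unique (N : Nbr D z a n) {e f : G} (he : e ∈ Ey D z) (hf : f ∈ Ey D z) (hae : ¬ Commute a e)
    (haf : ¬ Commute a f) (h : tr n f = tr n e) (hne : (tr n e).Nonempty) :
    qd D z f = qd D z e ∨ qd D z f = qd D z (a * e * a⁻¹) := by
  obtain ⟨x, hx⟩ := hne
  obtain ⟨y1, y2, h1, h2, k1, k2, hne, k12⟩ := N.flag_in he hae hx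
  exact N.flag_unique he hf hae haf hx h1 h2 (h ▸ hx) (h ▸ h1) (h ▸ h2) k1 k2 hne k12

end Nbr

end Cfsg.Agent.FourProd
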