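/-
A product of four commuting members commutes with 504 members, in 126 quads.

Main results (namespace `Cfsg.Agent.FourProd`):
* `Coords`, `exists_coords` : a member for each frame, chosen along the tree of frames;
* `nd` : the 126 quads; `Coords.nd_inj`, `Coords.nd_cover`;
* `Ey_ncard` : 504 members commute with the product.
-/
import Cfsg.Agent.Lib.FischerM24.Four.Classify
import Cfsg.Agent.Lib.FischerM24.PrimeNorm.QuadCount

set_option autoImplicit false

namespace Cfsg.Agent.FourProd

open Cfsg.Agent.ThreeTrans Cfsg.Agent.ThreeTransSU Cfsg.Agent.FischerM24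
open Cfsg.Agent.FischerM22 (IsProd)
open Cfsg.Agent.PrimeNorm24 (Ey)
open Tab

namespace Tab

/-- The point of an edge of the tree. -/
def treeX (k : Fin 40) : Fin 45 := ⟨(treeL.getD (k.val - 1) (0, 0)).1 % 45, Nat.mod_lt _ (by norm_num)⟩

/-- The parent in the tree. -/
def treeP (k : Fin 40) : Fin 40 := ⟨(treeL.getD (k.val - 1) (0, 0)).2 % 40, Nat.mod_lt _ (by norm_num)⟩

theorem tree_edge {k : Fin 40} (hk : k ≠ k00) : (treeP k).val < k.val ∧ piI (treeX k) (treeP k) = k := by
  rcases tree_spec k with h0 | ⟨hp, x, p, hx, hp', h⟩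
  · exact absurd (Fin.ext h0) hk
  · have e1 : treeX k = x := Fin.ext (by simp only [treeX, ← hx, Nat.mod_eq_of_lt x.isLt])
    have e2 : treeP k = p := Fin.ext (by simp only [treeP, ← hp', Nat.mod_eq_of_lt p.isLt])
    rw [e1, e2]
    exact ⟨by omega, h⟩

end Tab

variable {G : Type*} [Group G] {D : Set G}

/-- Members over the 40 frames, chosen along the tree. -/
structure Coords (D : Set G) (z a : G) (n : Fin 45 → G) (e : Fin 40 → G) : Prop where
  N : Nbr D z a n
  mem : ∀ k, e k ∈ Ey D z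
  far : ∀ k, ¬ Commute a (e k)
  trace : ∀ k, tr n (e k) = setOf45 (frM k)
  tree : ∀ k, k ≠ k00 → e k = n (treeX k) * e (treeP k) * (n (treeX k))⁻¹

/-- The members of the 126 quads. -/
def nd (a : G) (n : Fin 45 → G) (e : Fin 40 → G) (p : Fin 126) : G :=
  if h0 : p.val = 0 then a
  else if h1 : p.val < 46 then n ⟨p.val - 1, by omega⟩
  else if h2 : p.val < 86 then e ⟨p.val - 46, by omega⟩
  else a * e ⟨p.val - 86, by omega⟩ * a⁻¹

/-- The member over a frame in a given sheet. -/
def lft (a : G) (e : Fin 40 → G) (s : Bool) (k : Fin 40) : G := if s then a * e k * a⁻¹ else e k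

variable {z a : G} {n : Fin 45 → G} {e : Fin 40 → G}

theorem nd_zero : nd a n e 0 = a := by simp [nd]

theorem nd_N (i : Fin 45) : nd a n e (ndN i) = n i := by
  have h := i.isLt
  unfold nd
  rw [dif_neg (show ¬ (ndN i).val = 0 by simp [ndN]), dif_pos (show (ndN i).val < 46 by simp [ndN]; omega)]
  congr 1
  exact Fin.ext (by simp [ndN])

theorem nd_F (s : Bool) (k : Fin 40) : nd a n e (ndF s k) = lft a e s k := by
  have h := k.isLt
  cases s
  · unfold nd lft
    rw [dif_neg (show ¬ (ndF false k).val = 0 by simp [ndF]), dif_neg (show ¬ (ndF false k).val < 46 by simp [ndF]),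
      dif_pos (show (ndF false k).val < 86 by simp [ndF]; omega), if_neg (by simp)]
    congr 1
    exact Fin.ext (by simp [ndF])
  · unfold nd lft
    rw [dif_neg (show ¬ (ndF true k).val = 0 by simp [ndF]), dif_neg (show ¬ (ndF true k).val < 46 by simp [ndF]; omega),
      dif_neg (show ¬ (ndF true k).val < 86 by simp [ndF]), if_pos rfl]
    congr 3
    exact Fin.ext (by simp [ndF])

/-- The members of quads near `a`. -/
def near (D : Set G) (z a : G) (n : Fin 45 → G) : Set G :=
  {q | q ∈ Ey D z ∧ (Commute a q ∨ (tr n q).Nonempty)}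

variable [Finite G]

theorem exists_coords (N : Nbr D z a n) : ∃ e, Coords D z a n e := by
  classical
  have key : ∀ m, ∃ e : Fin 40 → G, ∀ k : Fin 40, k.val < m → e k ∈ Ey D z ∧ ¬ Commute a (e k) ∧
      tr n (e k) = setOf45 (frM k) ∧ (k ≠ k00 → e k = n (treeX k) * e (treeP k) * (n (treeX k))⁻¹) := by
    intro m
    induction m with
    | zero => exact ⟨fun _ => 1, fun k hk => absurd hk (Nat.not_lt_zero _)⟩
    | succ m ih =>
      obtain ⟨e, he⟩ := ih
      by_cases hm : m < 40
      swap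
      · exact ⟨e, fun k hk => he k (by omega)⟩
      set km : Fin 40 := ⟨m, hm⟩ with hkm
      obtain ⟨v, h1, h2, h3, h4⟩ : ∃ v, v ∈ Ey D z ∧ ¬ Commute a v ∧ tr n v = setOf45 (frM km) ∧
          (km ≠ k00 → v = n (treeX km) * e (treeP km) * (n (treeX km))⁻¹) := by
        by_cases h0 : km = k00
        · obtain ⟨v, h1, h2, h3⟩ := N.exists_frame_zero
          exact ⟨v, h1, h2, h0 ▸ h3, fun h => absurd h0 h⟩
        · obtain ⟨hlt, hpi⟩ := tree_edge h0
          obtain ⟨q1, q2, q3, -⟩ := he _ hlt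
          exact ⟨_, (N.move q1 q2 _).1, (N.move q1 q2 _).2.1,
            (N.frame_move q1 q2 (treeX km) q3).trans (by rw [hpi]), fun _ => rfl⟩
      refine ⟨Function.update e km v, fun k hk => ?_⟩
      by_cases hkk : k = km
      · subst hkk
        rw [Function.update_self]
        refine ⟨h1, h2, h3, fun h0 => ?_⟩
        rw [Function.update_of_ne (fun hh => absurd (tree_edge h0).1 (by rw [hh]; exact lt_irrefl _))]
        exact h4 h0
      · have hlt : k.val < m := lt_of_le_of_ne (by omega) fun hh => hkk (Fin.ext hh)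
        rw [Function.update_of_ne hkk]
        obtain ⟨q1, q2, q3, q4⟩ := he k hlt
        refine ⟨q1, q2, q3, fun h0 => ?_⟩
        have : treeP k ≠ km := fun hh => by
          have := (tree_edge h0).1
          rw [hh] at this
          simp only [hkm] at this
          omega
        rw [Function.update_of_ne this]
        exact q4 h0
  obtain ⟨e, he⟩ := key 40
  exact ⟨e, N, fun k => (he k k.isLt).1, fun k => (he k k.isLt).2.1, fun k => (he k k.isLt).2.2.1,
    fun k => (he k k.isLt).2.2.2⟩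

namespace Nbr

/-- The quads commuting with a quad near `a` are near `a`. -/
theorem near_closed (N : Nbr D z a n) {q r : G} (hq : q ∈ near D z a n) (hr : r ∈ Ey D z) (h : Commute q r) :
    r ∈ near D z a n := by
  have S := N.S
  have hz := N.hz
  refine ⟨hr, or_iff_not_imp_left.2 fun har => ?_⟩
  obtain ⟨hqz, hq⟩ := hq
  by_cases haq : Commute a q
  · have hqa : q ∉ qd D z a := fun hh =>
      har (commute_of_qd S hz hqz ((qd_same S hh).symm ▸ self_mem_qd z a) hr h.symm).symm
    obtain ⟨i, hi⟩ := N.surj q hqz haq hqa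
    exact ⟨i, commute_of_qd S hz hqz (hi.symm ▸ self_mem_qd z (n i)) hr h.symm⟩
  · have hne := hq.resolve_left haq
    by_cases hrq : r ∈ qd D z q
    · rwa [N.tr_congr hqz (qd_same S hrq)]
    obtain ⟨m, M⟩ := exists_nbr S hz hqz
    obtain ⟨i, hi⟩ := hne
    have hin : n i ∉ qd D z q := fun hh =>
      haq (commute_of_qd S hz (N.mem i) ((qd_same S hh).symm ▸ self_mem_qd z q) N.ha (N.comm_a i))
    obtain ⟨u, hu⟩ := M.surj (n i) (N.mem i) hi hin
    have hua : u ∈ tr m a := commute_of_qd S hz (N.mem i) (hu.symm ▸ self_mem_qd z (m u)) N.ha (N.comm_a i)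
    obtain ⟨l, hl⟩ := M.tr_frame N.ha (fun hh => haq hh.symm) ⟨u, hua⟩
    obtain ⟨w, hw⟩ := M.surj r hr h hrq
    have hwout : ¬ frB l w = true := fun hh => by
      have hwa : w ∈ tr m a := by rw [hl]; exact hh
      exact har (M.commute_far N.ha hwa hw)
    obtain ⟨v, hv⟩ := pos_pop45.1 ((frame_outside l w).resolve_left hwout)
    rw [setOf45_inter] at hv
    have hva : Commute a (m v) := by
      have : v ∈ tr m a := by rw [hl]; exact hv.2
      exact this
    have hvq : m v ∉ qd D z a := fun hh =>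
      haq (commute_of_qd S hz (M.mem v) ((qd_same S hh).symm ▸ self_mem_qd z a) hqz (M.comm_a v)).symm
    obtain ⟨j, hj⟩ := N.surj (m v) (M.mem v) hva hvq
    refine ⟨j, ?_⟩
    exact commute_of_qd S hz (M.mem v) (hj.symm ▸ self_mem_qd z (n j)) hr ((M.comm_qd hw rfl).2 (Or.inr hv.1))

end Nbr

namespace Coords

theorem lft_spec (C : Coords D z a n e) (s : Bool) (k : Fin 40) : lft a e s k ∈ Ey D z ∧
    ¬ Commute a (lft a e s k) ∧ tr n (lft a e s k) = setOf45 (frM k) := by
  cases s
  · exact ⟨C.mem k, C.far k, C.trace k⟩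
  · exact ⟨(C.N.far_aconj (C.mem k) (C.far k)).1, (C.N.far_aconj (C.mem k) (C.far k)).2,
      (C.N.tr_aconj (e k)).trans (C.trace k)⟩

theorem nd_mem (C : Coords D z a n e) (p : Fin 126) : nd a n e p ∈ Ey D z := by
  rcases node_cases p with rfl | ⟨i, rfl⟩ | ⟨s, k, rfl⟩
  · rw [nd_zero]; exact C.N.ha
  · rw [nd_N]; exact C.N.mem i
  · rw [nd_F]; exact (C.lft_spec s k).1

theorem frame_eq (C : Coords D z a n e) {k l : Fin 40} {s t : Bool}
    (h : qd D z (lft a e s k) = qd D z (lft a e t l)) : k = l ∧ s = t := by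
  have h2 : setOf45 (frM k) = setOf45 (frM l) := by
    rw [← (C.lft_spec s k).2.2, ← (C.lft_spec t l).2.2, C.N.tr_congr (C.lft_spec t l).1 h]
  have hk : k = l := by
    have inj : ∀ k l : Fin 40, (∀ i : Fin 45, (frM k).testBit i.val = (frM l).testBit i.val) → k = l := by
      decide +kernel
    exact inj k l fun i => Bool.eq_iff_iff.2 (Set.ext_iff.1 h2 i)
  subst hk
  refine ⟨rfl, ?_⟩
  have hne := qd_conj_ne C.N.S C.N.hz (C.mem k) C.N.ha (C.far k)
  cases s <;> cases t <;> try rfl
  · exact absurd h.symm hne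
  · exact absurd h hne

theorem nd_inj (C : Coords D z a n e) {p q : Fin 126} (h : qd D z (nd a n e p) = qd D z (nd a n e q)) :
    p = q := by
  have S := C.N.S
  have h1 : ∀ i s k, qd D z (n i) ≠ qd D z (lft a e s k) := fun i s k hh =>
    (C.lft_spec s k).2.1 (commute_of_qd S C.N.hz (C.N.mem i) (hh.symm ▸ self_mem_qd z _) C.N.ha (C.N.comm_a i))
  have h2 : ∀ s k, qd D z a ≠ qd D z (lft a e s k) := fun s k hh =>
    (C.lft_spec s k).2.1 (qd_self_commute S C.N.hz C.N.ha (hh.symm ▸ self_mem_qd z _))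
  rcases node_cases p with rfl | ⟨i, rfl⟩ | ⟨s, k, rfl⟩ <;>
    rcases node_cases q with rfl | ⟨j, rfl⟩ | ⟨t, l, rfl⟩ <;> simp only [nd_zero, nd_N, nd_F] at h
  · rfl
  · exact absurd h.symm (C.N.ne_qd j)
  · exact absurd h (h2 t l)
  · exact absurd h (C.N.ne_qd i)
  · rw [C.N.inj i j h]
  · exact absurd h (h1 i t l)
  · exact absurd h.symm (h2 s k)
  · exact absurd h.symm (h1 j s k)
  · obtain ⟨rfl, rfl⟩ := C.frame_eq h
    rfl

theorem near_cover (C : Coords D z a n e) {q : G} (hq : q ∈ near D z a n) :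
    ∃ p, qd D z q = qd D z (nd a n e p) := by
  by_cases ha : Commute a q
  · by_cases hqa : q ∈ qd D z a
    · exact ⟨0, by rw [nd_zero]; exact qd_same C.N.S hqa⟩
    · obtain ⟨i, hi⟩ := C.N.surj q hq.1 ha hqa
      exact ⟨ndN i, by rw [nd_N]; exact hi⟩
  · have hne := hq.2.resolve_left ha
    obtain ⟨k, hk⟩ := C.N.tr_frame hq.1 ha hne
    rcases C.N.frame_unique (C.mem k) hq.1 (C.far k) ha (hk.trans (C.trace k).symm)
      (by rw [C.trace k, ← hk]; exact hne) with h | h
    · exact ⟨ndF false k, by rw [nd_F]; exact h⟩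
    · exact ⟨ndF true k, by rw [nd_F]; exact h⟩

theorem nd_near (C : Coords D z a n e) (p : Fin 126) : nd a n e p ∈ near D z a n := by
  refine ⟨C.nd_mem p, ?_⟩
  rcases node_cases p with rfl | ⟨i, rfl⟩ | ⟨s, k, rfl⟩
  · rw [nd_zero]; exact Or.inl (Commute.refl a)
  · rw [nd_N]; exact Or.inl (C.N.comm_a i)
  · rw [nd_F, (C.lft_spec s k).2.2]
    have hne : ∀ k : Fin 40, 0 < pop45 (frM k) := by decide +kernel
    exact Or.inr (pos_pop45.1 (hne k))

theorem near_ncard (C : Coords D z a n e) : (near D z a n).ncard = 504 := by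
  classical
  have heq : near D z a n = ⋃ p ∈ (Finset.univ : Finset (Fin 126)), qd D z (nd a n e p) := by
    ext q
    simp only [Finset.mem_univ, Set.iUnion_true, Set.mem_iUnion]
    refine ⟨fun hq => ?_, fun ⟨p, hp⟩ => C.N.near_closed (C.nd_near p) (qd_mem C.N.S (C.nd_mem p) hp)
      (qd_self_commute C.N.S C.N.hz (C.nd_mem p) hp)⟩
    obtain ⟨p, hp⟩ := C.near_cover hq
    exact ⟨p, hp ▸ self_mem_qd z q⟩
  have key : ∀ s : Finset (Fin 126), (⋃ p ∈ s, qd D z (nd a n e p)).ncard = 4 * s.card := by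
    intro s
    induction s using Finset.induction_on with
    | empty => simp
    | insert i s hi ih =>
      rw [Finset.set_biUnion_insert, Set.ncard_union_eq (Set.disjoint_left.2 fun x h1 h2 => ?_) (Set.toFinite _)
        (Set.toFinite _), qd_ncard C.N.S C.N.hz (C.nd_mem i), ih, Finset.card_insert_of_notMem hi]
      · ring
      · simp only [Set.mem_iUnion] at h2
        obtain ⟨j, hj, h2⟩ := h2
        exact hi (by rwa [C.nd_inj (qd_eq_of_mem C.N.S h1 h2)])
  rw [heq, key, Finset.card_univ, Fintype.card_fin]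

end Coords

omit [Finite G] in
theorem near_le {U : Set G} (hU : ∀ q ∈ U, ∀ r ∈ Ey D z, Commute q r → r ∈ U)
    (ha : a ∈ U) (N : Nbr D z a n) : near D z a n ⊆ U := by
  rintro q ⟨hqz, hq⟩
  by_cases h : Commute a q
  · exact hU a ha q hqz h
  · obtain ⟨i, hi⟩ := hq.resolve_left h
    exact hU _ (hU a ha _ (N.mem i) (N.comm_a i)) q hqz (show Commute q (n i) from hi).symm

theorem closed_dvd (S : Fi24Setup D) (hz : IsProd D 4 z) : ∀ (m : ℕ) (U : Set G), U.ncard = m → U ⊆ Ey D z →
    (∀ q ∈ U, ∀ r ∈ Ey D z, Commute q r → r ∈ U) → 504 ∣ m := by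
  intro m
  induction m using Nat.strong_induction_on with
  | _ m ih =>
    intro U hm hUE hU
    rcases U.eq_empty_or_nonempty with rfl | ⟨b, hb⟩
    · simp [← hm]
    obtain ⟨k, M⟩ := exists_nbr S hz (hUE hb)
    obtain ⟨g, C⟩ := exists_coords M
    have hsub := near_le hU hb M
    have hc := Set.ncard_sdiff_add_ncard_of_subset hsub (Set.toFinite _)
    rw [C.near_ncard, hm] at hc
    have := ih (U \ near D z b k).ncard (by omega) _ rfl (Set.sdiff_subset.trans hUE) fun q hq r hr hqr =>
      ⟨hU q hq.1 r hr hqr, fun hn => hq.2 (M.near_closed hn (hUE hq.1) hqr.symm)⟩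
    omega

/-- There are 504 members commuting with a product of four commuting members. -/
theorem Ey_ncard (S : Fi24Setup D) (hz : IsProd D 4 z) : (Ey D z).ncard = 504 := by
  obtain ⟨k, hk⟩ := closed_dvd S hz _ (Ey D z) rfl subset_rfl fun q _ r hr _ => hr
  have h1 : (Ey D z).ncard ≤ 2552 := PrimeNorm24.quad_bound S hz
  have h2 : (Ey D z).ncard % 5 = 4 := PrimeNorm24.quad_mod_five S hz
  omega

theorem Coords.near_eq (C : Coords D z a n e) : near D z a n = Ey D z :=
  Set.eq_of_subset_of_ncard_le (fun _ h => h.1) (by rw [C.near_ncard, Ey_ncard C.N.S C.N.hz]) (Set.toFinite _)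

theorem Coords.nd_cover (C : Coords D z a n e) {q : G} (hq : q ∈ Ey D z) :
    ∃ p, qd D z q = qd D z (nd a n e p) := C.near_cover (C.near_eq.symm ▸ hq)

end Cfsg.Agent.FourProd
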