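/-
Checks for the cocycle on the frames and for the lines.

Main results (namespace `Cfsg.Agent.FourProd.Tab`):
* `line_ok`, `line_meets`, `line_fix` : the lines;
* `der_eqs`, `der_run`, `tree_zero` : the derivation of the cocycle from the tree.
-/
import Cfsg.Agent.Lib.FischerM24.Four.Count

set_option autoImplicit false
set_option maxRecDepth 100000

namespace Cfsg.Agent.FourProd.Tab

/-- The points of a line. -/
def linePtsT (j : ℕ) : List (Fin 45) := (lineL.getD j []).map fun v => ⟨v % 45, Nat.mod_lt _ (by norm_num)⟩

theorem line_ok : ∀ j : Fin 27, ((linePtsT j.val).length == 5 &&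
    (linePtsT j.val).all fun u => (linePtsT j.val).all fun v => decide (u = v) || nbB u v) = true ∧
      (linePtsT j.val).Nodup := by decide +kernel

theorem line_meets : ∀ (j : Fin 27) (k : Fin 40), (linePtsT j.val).any (frB k) = true := by decide +kernel

theorem line_fix : ∀ u : Fin 45, ((pts45 (nbM u)).all fun v1 =>
    (pts45 (nbM u &&& nbM v1)).all fun v2 =>
    (pts45 (nbM u &&& nbM v1 &&& nbM v2)).all fun v3 =>
    (pts45 (nbM u &&& nbM v1 &&& nbM v2 &&& nbM v3)).all fun v4 =>
    (List.finRange 45).all fun p => decide (tI v4 (tI v3 (tI v2 (tI v1 p))) = tI u p)) = true := by decide +kernel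

/-- The edges of the tree and the incidences, as a mask. -/
def treeMask : ℕ :=
  (((List.finRange 45).flatMap fun x => ((List.finRange 40).filter fun k => frB k x).map fun k => (x, k)) ++
    ((List.finRange 40).filter fun k => decide (k ≠ k00)).map fun k => (treeX k, treeP k)).foldl
      (fun acc e => acc ||| 1 <<< eIdx e) 0

theorem inc_zero : ∀ (x : Fin 45) (k : Fin 40), frB k x = true → dlB x k = false := by decide +kernel

theorem tree_zero : ∀ k : Fin 40, k = k00 ∨ dlB (treeX k) (treeP k) = false := by decide +kernel

theorem der_eqs : (derL.all fun r => xsum (fun e => dlB e.1 e.2) (edgesOf r).1 == (edgesOf r).2) = true := by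
  decide +kernel

theorem der_run : (match run derL treeMask with
    | some out => (List.finRange 45).all fun x => (List.finRange 40).all fun k => out.testBit (eIdx (x, k))
    | none => false) = true := by decide +kernel

end Cfsg.Agent.FourProd.Tab
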