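/-
The two sheets over the frames: the action of the neighbours of `a` is given by the tabulated cocycle.

Main results (namespace `Cfsg.Agent.FourProd`):
* `Coords.line_conj` : the five members of a line act on a far member as `a` does;
* `Coords.act_point` : the neighbours of `a` permute the far quads by `piI` and `dlB`.
-/
import Cfsg.Agent.Lib.FischerM24.Four.CheckSheet

set_option autoImplicit false

namespace Cfsg.Agent.FourProd

open Cfsg.Agent.ThreeTrans Cfsg.Agent.ThreeTransSU Cfsg.Agent.FischerM24
open Cfsg.Agent.FischerM22 (IsProd)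
open Cfsg.Agent.PrimeNorm24 (Ey)
open Tab

variable {G : Type*} [Group G] {D : Set G} {z a : G} {n : Fin 45 → G} {e : Fin 40 → G}

/-- The product of the members of a list of points, the first acting first. -/
def pp (n : Fin 45 → G) : List (Fin 45) → G
  | [] => 1
  | f :: l => pp n l * n f

theorem pp_conj (f : Fin 45) (l : List (Fin 45)) (g : G) :
    pp n (f :: l) * g * (pp n (f :: l))⁻¹ = pp n l * (n f * g * (n f)⁻¹) * (pp n l)⁻¹ := by
  simp only [pp]; group

/-- A composed image along a list. -/
def foldT (σ : Fin 45 → Fin 45) : List (Fin 45) → Fin 45 → Fin 45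
  | [], p => p
  | f :: l, p => foldT σ l (tI (σ f) p)

variable [Finite G]

namespace Nbr

theorem pp_erase (N : Nbr D z a n) {x : Fin 45} : ∀ l : List (Fin 45), x ∈ l →
    (∀ u ∈ l, u = x ∨ nbB x u = true) → pp n l = pp n (l.erase x) * n x
  | [], h, _ => absurd h (by simp)
  | f :: l, h, hall => by
    by_cases hf : f = x
    · subst hf
      rw [List.erase_cons_head]
      rfl
    · have hx : x ∈ l := (List.mem_cons.1 h).resolve_left fun e => hf e.symm
      rw [List.erase_cons_tail (by simpa using hf)]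
      have hc : Commute (n x) (n f) := (N.comm x f).2 (Or.inr ((hall f List.mem_cons_self).resolve_left hf))
      simp only [pp]
      rw [pp_erase N l hx fun u hu => hall u (List.mem_cons_of_mem _ hu), mul_assoc, hc.eq, ← mul_assoc]

end Nbr

theorem pp_image (S : Fi24Setup D) (hz : IsProd D 4 z) {x : G} {m : Fin 45 → G} (M : Nbr D z x m)
    (hn : ∀ i, n i ∈ Ey D z) (σ : Fin 45 → Fin 45) : ∀ (l : List (Fin 45)),
    (∀ w ∈ l, qd D z (n w) = qd D z (m (σ w))) → ∀ {g : G} {p : Fin 45}, g ∈ Ey D z → qd D z g = qd D z (m p) →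
      qd D z (pp n l * g * (pp n l)⁻¹) = qd D z (m (foldT σ l p))
  | [], _, g, p, _, hg => by simp only [pp, foldT]; simpa using hg
  | f :: l, hall, g, p, hgz, hg => by
    rw [pp_conj]
    exact pp_image S hz M hn σ l (fun w hw => hall w (List.mem_cons_of_mem _ hw))
      (Ey_conj S (hn f).2 hgz) (M.conj_qd (hall f List.mem_cons_self) hg)

open scoped Classical in
/-- The change of sheet. -/
noncomputable def sheet (D : Set G) (z : G) (n : Fin 45 → G) (e : Fin 40 → G) (q : Fin 45 × Fin 40) : Bool :=
  if qd D z (n q.1 * e q.2 * (n q.1)⁻¹) = qd D z (e (piI q.1 q.2)) then false else true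

/-- The frame at the end of a path. -/
def pend : List (Fin 45) → Fin 40 → Fin 40
  | [], k => k
  | f :: l, k => pend l (piI f k)

/-- The edges of a path. -/
def pathE : List (Fin 45) → Fin 40 → List (Fin 45 × Fin 40)
  | [], _ => []
  | f :: l, k => (f, k) :: pathE l (piI f k)

omit [Finite G] in
theorem path_eq : ∀ (l : List ℕ) (k : Fin 40),
    edgesOf.path l k = pathE (l.map fun v => (⟨v % 45, Nat.mod_lt _ (by norm_num)⟩ : Fin 45)) k
  | [], _ => rfl
  | v :: l, k => by
    rw [edgesOf.path, List.map_cons, pathE, path_eq l]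

namespace Coords

theorem act_spec (C : Coords D z a n e) (x : Fin 45) (s : Bool) (k : Fin 40) :
    qd D z (n x * lft a e s k * (n x)⁻¹) = qd D z (lft a e (xor s (sheet D z n e (x, k))) (piI x k)) := by
  have N := C.N
  have hbase : qd D z (n x * e k * (n x)⁻¹) = qd D z (lft a e (sheet D z n e (x, k)) (piI x k)) := by
    obtain ⟨hm1, hm2, -⟩ := N.move (C.mem k) (C.far k) x
    have htr := N.frame_move (C.mem k) (C.far k) x (C.trace k)
    have hne : ∀ k : Fin 40, 0 < pop45 (frM k) := by decide +kernel
    have hor := N.frame_unique (C.mem (piI x k)) hm1 (C.far _) hm2 (htr.trans (C.trace _).symm)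
      (by rw [C.trace]; exact pos_pop45.1 (hne _))
    unfold sheet
    split_ifs with h
    · exact h
    · exact hor.resolve_left h
  cases s
  · rw [Bool.false_xor]; exact hbase
  · have hc : n x * lft a e true k * (n x)⁻¹ = a * (n x * e k * (n x)⁻¹) * a⁻¹ := by
      have h := N.comm_a x
      simp only [lft, if_true]
      rw [show n x * (a * e k * a⁻¹) * (n x)⁻¹ = (n x * a) * e k * (n x * a)⁻¹ by group, ← h.eq]
      group
    rw [hc, qd_conj N.S N.hz N.ha.2 (C.lft_spec _ _).1 hbase]
    cases sheet D z n e (x, k)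
    · rfl
    · simp only [lft, if_true]
      have ha2 := mul_self N.S.cls.1 N.ha.1
      rw [conj_symm a _ ha2]
      rfl

theorem act_path (C : Coords D z a n e) : ∀ (l : List (Fin 45)) (s : Bool) (k : Fin 40),
    qd D z (pp n l * lft a e s k * (pp n l)⁻¹) =
      qd D z (lft a e (xor s (xsum (sheet D z n e) (pathE l k))) (pend l k))
  | [], s, k => by simp [pp, pathE, pend, xsum]
  | f :: l, s, k => by
    have hcomm : ∀ (l : List (Fin 45)), Commute (pp n l) z := by
      intro l
      induction l with
      | nil => exact Commute.one_left z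
      | cons f l ih => exact ih.mul_left (C.N.mem f).2
    rw [pp_conj, qd_conj C.N.S C.N.hz (hcomm l) (C.lft_spec _ _).1 (C.act_spec f s k), act_path C l,
      pathE, pend, xsum, Bool.xor_assoc]

/-- The members of a line act on a far member as `a` does. -/
theorem line_conj (C : Coords D z a n e) (j : Fin 27) (k : Fin 40) :
    qd D z (pp n (linePtsT j.val) * e k * (pp n (linePtsT j.val))⁻¹) = qd D z (lft a e true k) := by
  have N := C.N
  have S := N.S
  have hz := N.hz
  obtain ⟨hl, hnd⟩ := line_ok j
  simp only [Bool.and_eq_true, beq_iff_eq, List.all_eq_true, Bool.or_eq_true, decide_eq_true_eq] at hl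
  obtain ⟨hlen, hcoll⟩ := hl
  have hm := line_meets j k
  simp only [List.any_eq_true] at hm
  obtain ⟨x, hx, hxk⟩ := hm
  set L := linePtsT j.val with hL
  have hxe : Commute (e k) (n x) := by
    have : x ∈ tr n (e k) := by rw [C.trace k]; exact hxk
    exact this
  rw [N.pp_erase L hx fun u hu => (hcoll x hx u hu).imp Eq.symm id]
  rw [show pp n (L.erase x) * n x * e k * (pp n (L.erase x) * n x)⁻¹ =
    pp n (L.erase x) * (n x * e k * (n x)⁻¹) * (pp n (L.erase x))⁻¹ by group, conj_of_commute hxe.symm]
  obtain ⟨m, M⟩ := exists_nbr S hz (N.mem x)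
  have far : e k ∉ qd D z (n x) := fun h => C.far k (commute_of_qd S hz (N.mem x) h N.ha (N.comm_a x))
  obtain ⟨u, hu⟩ := M.surj a N.ha (N.comm_a x).symm fun h => N.ne_qd x (qd_same S h).symm
  obtain ⟨p, hp⟩ := M.surj (e k) (C.mem k) hxe.symm far
  have hσ : ∀ w ∈ L.erase x, ∃ v, qd D z (n w) = qd D z (m v) := fun w hw => by
    obtain ⟨hwx, hwL⟩ := hnd.mem_erase_iff.1 hw
    exact M.surj (n w) (N.mem w) ((N.comm x w).2 (Or.inr ((hcoll x hx w hwL).resolve_left (Ne.symm hwx))))
      fun h => hwx (N.inj _ _ (qd_same S h))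
  classical
  let σ : Fin 45 → Fin 45 := fun w => if h : ∃ v, qd D z (n w) = qd D z (m v) then h.choose else u
  have hσ' : ∀ w ∈ L.erase x, qd D z (n w) = qd D z (m (σ w)) := fun w hw => by
    simp only [σ, dif_pos (hσ w hw)]
    exact (hσ w hw).choose_spec
  rw [pp_image S hz M N.mem σ _ hσ' (C.mem k) hp,
    show qd D z (lft a e true k) = qd D z (m (tI u p)) from M.conj_qd hu hp]
  have hlen' : (L.erase x).length = 4 := by rw [List.length_erase_of_mem hx, hlen]
  have hnb : ∀ w ∈ L.erase x, nbB u (σ w) = true ∧ ∀ w' ∈ L.erase x, w ≠ w' → nbB (σ w) (σ w') = true := by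
    intro w hw
    refine ⟨((M.comm_qd hu (hσ' w hw)).1 (N.comm_a w)).resolve_left fun h => N.ne_qd w ?_, fun w' hw' hne => ?_⟩
    · rw [hσ' w hw, ← h, ← hu]
    · refine ((M.comm_qd (hσ' w hw) (hσ' w' hw')).1 ((N.comm w w').2 (Or.inr ?_))).resolve_left fun h => hne ?_
      · exact (hcoll w (List.mem_of_mem_erase hw) w' (List.mem_of_mem_erase hw')).resolve_left hne
      · exact N.inj _ _ (by rw [hσ' w hw, hσ' w' hw', h])
  have hnd' := hnd.erase x
  obtain ⟨w1, w2, w3, w4, e4⟩ : ∃ w1 w2 w3 w4, L.erase x = [w1, w2, w3, w4] := by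
    match L.erase x, hlen' with
    | [p1, p2, p3, p4], _ => exact ⟨p1, p2, p3, p4, rfl⟩
  rw [e4] at hnd' hnb
  simp only [List.nodup_cons, List.mem_cons, List.not_mem_nil, or_false, not_or] at hnd'
  obtain ⟨⟨n12, n13, n14⟩, ⟨n23, n24⟩, n34, -⟩ := hnd'
  have key := line_fix u
  simp only [List.all_eq_true, decide_eq_true_eq, mem_pts45, Nat.testBit_land, Bool.and_eq_true] at key
  obtain ⟨a1, b1⟩ := hnb w1 (by simp)
  obtain ⟨a2, b2⟩ := hnb w2 (by simp)
  obtain ⟨a3, b3⟩ := hnb w3 (by simp)
  obtain ⟨a4, -⟩ := hnb w4 (by simp)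
  have := key (σ w1) a1 (σ w2) ⟨a2, b1 w2 (by simp) n12⟩ (σ w3) ⟨⟨a3, b1 w3 (by simp) n13⟩, b2 w3 (by simp) n23⟩
    (σ w4) ⟨⟨⟨a4, b1 w4 (by simp) n14⟩, b2 w4 (by simp) n24⟩, b3 w4 (by simp) n34⟩ p (List.mem_finRange p)
  rw [e4]
  simp only [foldT]
  rw [this]

/-- The equations of the cocycle. -/
theorem sheet_eqs (C : Coords D z a n e) (r : ℕ × ℕ × ℕ × ℕ × ℕ) :
    xsum (sheet D z n e) (edgesOf r).1 = (edgesOf r).2 := by
  have N := C.N
  obtain ⟨kind, x, y, k, pos⟩ := r
  simp only [edgesOf]
  set fx : Fin 45 := ⟨x % 45, Nat.mod_lt _ (by norm_num)⟩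
  set fy : Fin 45 := ⟨y % 45, Nat.mod_lt _ (by norm_num)⟩
  set fk : Fin 40 := ⟨k % 40, Nat.mod_lt _ (by norm_num)⟩
  split_ifs
  · have h := C.act_path [fx, fx] false fk
    rw [show pp n [fx, fx] = 1 * n fx * n fx by rfl, one_mul, mul_self N.S.cls.1 (N.mem fx).1] at h
    simp only [one_mul, inv_one, mul_one, Bool.false_xor] at h
    have := (C.frame_eq h).2
    simpa [pathE] using this.symm
  · have h := C.act_path [fx, fy, fx] false fk
    have h1 : pp n [fx, fy, fx] = n fx * n fy * (n fx)⁻¹ := by
      simp only [pp, one_mul, inv_eq N.S.cls.1 (N.mem fx).1]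
    have h2 := C.act_path [tI fx fy] false fk
    rw [show pp n [tI fx fy] = n (tI fx fy) by simp [pp]] at h2
    rw [h1, qd_ref_both N.S N.hz (C.lft_spec _ _).1 (N.mem (tI fx fy)) rfl (N.conj fx fy)] at h
    have := (C.frame_eq (h.symm.trans h2)).2
    simp only [pathE, xsum, Bool.false_xor, Bool.xor_false] at this ⊢
    rw [← this]
    cases sheet D z n e (fx, fk) <;> cases sheet D z n e (fy, piI fx fk) <;>
      cases sheet D z n e (fx, piI fy (piI fx fk)) <;> rfl
  · have h := C.act_path (linePtsT (⟨x % 27, Nat.mod_lt _ (by norm_num)⟩ : Fin 27).val) false fk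
    have h2 := C.line_conj ⟨x % 27, Nat.mod_lt _ (by norm_num)⟩ fk
    have e0 : lft a e false fk = e fk := rfl
    rw [e0, h2] at h
    have := (C.frame_eq h).2
    rw [path_eq]
    rw [Bool.false_xor] at this
    exact this.symm

theorem sheet_eq (C : Coords D z a n e) (x : Fin 45) (k : Fin 40) : sheet D z n e (x, k) = dlB x k := by
  have heq : ∀ r ∈ derL, xsum (sheet D z n e) (edgesOf r).1 = xsum (fun q => dlB q.1 q.2) (edgesOf r).1 := by
    intro r hr
    have h := der_eqs
    simp only [List.all_eq_true, beq_iff_eq] at h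
    rw [C.sheet_eqs r, h r hr]
  have hinit : ∀ q, treeMask.testBit (eIdx q) = true → sheet D z n e q = (fun q => dlB q.1 q.2) q := by
    intro q hq
    simp only [treeMask, testBit_foldl_or, Nat.zero_testBit, Bool.false_eq_true, false_or] at hq
    obtain ⟨q', hm, hb⟩ := hq
    rw [Nat.one_shiftLeft, Nat.testBit_two_pow, decide_eq_true_eq] at hb
    obtain rfl := eIdx_inj hb
    simp only [List.mem_append, List.mem_flatMap, List.mem_map, List.mem_filter, List.mem_finRange, true_and,
      decide_eq_true_eq] at hm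
    rcases hm with ⟨x, k, hk, rfl⟩ | ⟨k, hk, rfl⟩
    · have hc : Commute (e k) (n x) := by
        have : x ∈ tr n (e k) := by rw [C.trace k]; exact hk
        exact this
      have h := C.act_spec x false k
      rw [show lft a e false k = e k from rfl, conj_of_commute hc.symm, ← show lft a e false k = e k from rfl] at h
      have := (C.frame_eq h).2
      simp only [Bool.false_xor] at this
      rw [← this]
      exact (inc_zero x k hk).symm
    · have h := C.act_spec (treeX k) false (treeP k)
      rw [show lft a e false (treeP k) = e (treeP k) from rfl, ← C.tree k hk, (tree_edge hk).2,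
        ← show lft a e false k = e k from rfl] at h
      have := (C.frame_eq h).2
      simp only [Bool.false_xor] at this
      rw [← this]
      exact ((tree_zero k).resolve_left hk).symm
  have hr := der_run
  cases hout : run derL treeMask with
  | none => rw [hout] at hr; exact absurd hr (by simp)
  | some out =>
    rw [hout] at hr
    simp only [List.all_eq_true, List.mem_finRange, true_implies] at hr
    exact propagate_sound _ _ derL heq treeMask out hinit hout (x, k) (hr x k)

/-- The action of a neighbour of `a` on the far quads. -/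
theorem act_point (C : Coords D z a n e) (x : Fin 45) (s : Bool) (k : Fin 40) :
    qd D z (n x * lft a e s k * (n x)⁻¹) = qd D z (lft a e (xor s (dlB x k)) (piI x k)) := by
  rw [C.act_spec x s k, C.sheet_eq]

end Coords

end Cfsg.Agent.FourProd
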