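/-
The commuting graph and the reflections on the 126 quads of a product of four commuting members.

Main results (namespace `Cfsg.Agent.FourProd`):
* `Coords.nd_comm` : two of the quads commute exactly as tabulated;
* `Coords.nd_ref` : conjugation by one of the members moves the quads as tabulated.
-/
import Cfsg.Agent.Lib.FischerM24.Four.Sheets
import Cfsg.Agent.Lib.FischerM24.Four.CheckGraph

set_option autoImplicit false

namespace Cfsg.Agent.FourProd

open Cfsg.Agent.ThreeTrans Cfsg.Agent.ThreeTransSU Cfsg.Agent.FischerM24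
open Cfsg.Agent.FischerM22 (IsProd)
open Cfsg.Agent.PrimeNorm24 (Ey)
open Tab

variable {G : Type*} [Group G] {D : Set G} {z a : G} {n : Fin 45 → G} {e : Fin 40 → G}

variable [Finite G]

/-- A member does not commute with its conjugate by a far member. -/
theorem not_comm_conj (S : Fi24Setup D) {p q : G} (hp : p ∈ D) (hq : q ∈ D) (h : ¬ Commute p q) :
    ¬ Commute p (q * p * q⁻¹) := fun hc => h <| by
  have hD := S.cls.1
  have hb : q * p * q = p * q * p := braid hD hq hp fun k => h k.symm
  rw [conj_member hD hq, hb] at hc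
  have h2 := (commute_conj_iff p p (p * q * p)).2 hc
  have ee := mul_self hD hp
  rwa [conj_of_commute (Commute.refl p), conj_member hD hp,
    show p * (p * q * p) * p = (p * p) * q * (p * p) by group, ee, one_mul, mul_one] at h2

theorem zero_ne_ndF : ∀ (s : Bool) (k : Fin 40), (0 : Fin 126) ≠ ndF s k := by decide +kernel

namespace Coords

theorem comm_N_F (C : Coords D z a n e) (i : Fin 45) (s : Bool) (k : Fin 40) :
    Commute (n i) (lft a e s k) ↔ frB k i = true := by
  have h := Set.ext_iff.1 (C.lft_spec s k).2.2 i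
  exact ⟨fun hc => h.1 hc.symm, fun hf => (h.2 hf : Commute (lft a e s k) (n i)).symm⟩

theorem far_node (C : Coords D z a n e) {q : G} (hq : q ∈ Ey D z) (haq : ¬ Commute a q) :
    ∃ s k, qd D z q = qd D z (lft a e s k) := by
  obtain ⟨p, hp⟩ := C.nd_cover hq
  rcases node_cases p with rfl | ⟨i, rfl⟩ | ⟨s, k, rfl⟩
  · rw [nd_zero] at hp
    exact absurd (qd_self_commute C.N.S C.N.hz C.N.ha (hp ▸ self_mem_qd z q)) haq
  · rw [nd_N] at hp
    exact absurd (commute_of_qd C.N.S C.N.hz (C.N.mem i) (hp ▸ self_mem_qd z q) C.N.ha (C.N.comm_a i)) haq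
  · exact ⟨s, k, by rw [← nd_F (n := n)]; exact hp⟩

theorem far_comm_sub (C : Coords D z a n e) {s t : Bool} {k l : Fin 40} (hne : ¬ (s = t ∧ k = l))
    (h : Commute (lft a e s k) (lft a e t l)) : adB (ndF s k) (ndF t l) = true := by
  have N := C.N
  have S := N.S
  have hz := N.hz
  obtain ⟨m1, m2, m3⟩ := C.lft_spec s k
  obtain ⟨p1, p2, p3⟩ := C.lft_spec t l
  have key := far_cand s t k l
  simp only [Bool.or_eq_true, Bool.and_eq_true, beq_iff_eq, decide_eq_true_eq, List.any_eq_true,
    Bool.not_eq_true'] at key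
  rcases key with ((key | key) | key) | ⟨x, -, hx, hxl, hxt⟩
  · exact key
  · exact absurd key hne
  · obtain ⟨m, M⟩ := exists_nbr S hz m1
    have hfq : lft a e t l ∉ qd D z (lft a e s k) := fun hh => by
      obtain ⟨e1, e2⟩ := C.frame_eq (qd_same S hh)
      exact hne ⟨e2.symm, e1.symm⟩
    obtain ⟨w, hw⟩ := M.surj (lft a e t l) p1 h hfq
    -- the quads commuting with `a` and both, seen from both charts
    have hex : ∀ i ∈ tr n (lft a e s k), ∃ u, qd D z (n i) = qd D z (m u) := fun i hi =>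
      M.surj (n i) (N.mem i) hi fun hh => m2 (commute_of_qd S hz (N.mem i)
        ((qd_same S hh).symm ▸ self_mem_qd z _) N.ha (N.comm_a i))
    classical
    let σ : Fin 45 → Fin 45 := fun i => if hh : ∃ u, qd D z (n i) = qd D z (m u) then hh.choose else i
    have hσ : ∀ i ∈ tr n (lft a e s k), qd D z (n i) = qd D z (m (σ i)) := fun i hi => by
      simp only [σ, dif_pos (hex i hi)]
      exact (hex i hi).choose_spec
    obtain ⟨i0, hi0⟩ : (tr n (lft a e s k)).Nonempty := by
      rw [m3]; exact pos_pop45.1 (by rw [frame_card]; norm_num)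
    have ha0 : σ i0 ∈ tr m a :=
      commute_of_qd S hz (N.mem i0) ((hσ i0 hi0).symm ▸ self_mem_qd z _) N.ha (N.comm_a i0)
    obtain ⟨F, hF⟩ := M.tr_frame N.ha (fun hh => m2 hh.symm) ⟨σ i0, ha0⟩
    have hwF : ¬ frB F w = true := fun hh => by
      have : w ∈ tr m a := by rw [hF]; exact hh
      exact p2 (M.commute_far N.ha this hw)
    have hcard : (tr n (lft a e s k) ∩ tr n (lft a e t l)).ncard = (setOf45 (nbM w) ∩ tr m a).ncard := by
      refine Set.ncard_congr (fun i _ => σ i) (fun i hi => ⟨?_, ?_⟩) (fun i j hi hj hij => ?_) (fun v hv => ?_)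
      · have hc : Commute (m (σ i)) (lft a e t l) :=
          (commute_iff_of_qd S hz (N.mem i) p1 (hσ i hi.1).symm rfl).2
            (show Commute (lft a e t l) (n i) from hi.2).symm
        refine ((M.comm_qd hw rfl).1 hc.symm).resolve_left fun hh => p2 ?_
        exact commute_of_qd S hz (N.mem i) (by rw [hσ i hi.1, ← hh, ← hw]; exact self_mem_qd z _) N.ha (N.comm_a i)
      · exact commute_of_qd S hz (N.mem i) ((hσ i hi.1).symm ▸ self_mem_qd z _) N.ha (N.comm_a i)
      · exact N.inj i j (by rw [hσ i hi.1, hσ j hj.1, hij])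
      · obtain ⟨hv1, hv2⟩ := hv
        have hva : m v ∉ qd D z a := fun hh =>
          m2 (commute_of_qd S hz (M.mem v) ((qd_same S hh).symm ▸ self_mem_qd z a) m1 (M.comm_a v)).symm
        obtain ⟨i, hi⟩ := N.surj (m v) (M.mem v) hv2 hva
        have hi1 : i ∈ tr n (lft a e s k) :=
          commute_of_qd S hz (M.mem v) (hi.symm ▸ self_mem_qd z _) m1 (M.comm_a v)
        refine ⟨i, ⟨hi1, ?_⟩, M.inj _ _ (by rw [← hσ i hi1, hi])⟩
        exact commute_of_qd S hz (M.mem v) (hi.symm ▸ self_mem_qd z _) p1 ((M.comm_qd hw rfl).2 (Or.inr hv1))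
    rw [m3, p3, hF, ← setOf45_inter, ← setOf45_inter, setOf45_ncard, setOf45_ncard,
      (frame_six F w).resolve_left hwF] at hcard
    exact absurd hcard key
  · exfalso
    have hnc : ¬ Commute (n x) (lft a e s k) := fun hh => by
      rw [(C.comm_N_F x s k).1 hh] at hx; exact Bool.noConfusion hx
    have h2 := C.act_point x s k
    rw [hxl, hxt] at h2
    refine not_comm_conj S m1.1 (N.mem x).1 (fun hh => hnc hh.symm) ?_
    exact (commute_iff_of_qd S hz m1 p1 rfl h2).2 h

theorem far_comm_sup (C : Coords D z a n e) {s t : Bool} {k l : Fin 40}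
    (h : adB (ndF s k) (ndF t l) = true) : Commute (lft a e s k) (lft a e t l) := by
  classical
  have N := C.N
  have S := N.S
  have hz := N.hz
  obtain ⟨m1, m2, m3⟩ := C.lft_spec s k
  obtain ⟨m, M⟩ := exists_nbr S hz m1
  obtain ⟨i0, hi0⟩ : (tr n (lft a e s k)).Nonempty := by
    rw [m3]; exact pos_pop45.1 (by rw [frame_card]; norm_num)
  obtain ⟨u0, hu0⟩ := M.surj (n i0) (N.mem i0) hi0 fun hh => m2 (commute_of_qd S hz (N.mem i0)
        ((qd_same S hh).symm ▸ self_mem_qd z _) N.ha (N.comm_a i0))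
  obtain ⟨F, hF⟩ := M.tr_frame N.ha (fun hh => m2 hh.symm)
    ⟨u0, commute_of_qd S hz (N.mem i0) (hu0.symm ▸ self_mem_qd z _) N.ha (N.comm_a i0)⟩
  -- every point outside the frame gives a commuting far quad
  have hout : ∀ w : Fin 45, ∃ q : Fin 126, qd D z (m w) = qd D z (nd a n e q) := fun w => C.nd_cover (M.mem w)
  let ρ : Fin 45 → Fin 126 := fun w => (hout w).choose
  have hρ : ∀ w, qd D z (m w) = qd D z (nd a n e (ρ w)) := fun w => (hout w).choose_spec
  set R : Set (Fin 126) := {q | 46 ≤ q.val ∧ adB (ndF s k) q = true} with hR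
  set Scomm : Set (Fin 126) := {q | q ∈ R ∧ Commute (lft a e s k) (nd a n e q)}
  have hmap : ∀ w ∈ (setOf45 (frM F))ᶜ, ρ w ∈ Scomm := by
    intro w hw
    have haw : ¬ Commute a (m w) := fun hh => hw (hF ▸ (hh : w ∈ tr m a))
    have hc : Commute (lft a e s k) (m w) := M.comm_a w
    rcases node_cases (ρ w) with hq | ⟨i, hq⟩ | ⟨t', l', hq⟩
    · have := hρ w; rw [hq, nd_zero] at this
      exact absurd (qd_self_commute S hz N.ha (this ▸ self_mem_qd z _)) haw
    · have := hρ w; rw [hq, nd_N] at this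
      exact absurd (commute_of_qd S hz (N.mem i) (this ▸ self_mem_qd z _) N.ha (N.comm_a i)) haw
    · have hqd := hρ w; rw [hq, nd_F] at hqd
      have hcc : Commute (lft a e s k) (lft a e t' l') :=
        commute_of_qd S hz (M.mem w) (hqd.symm ▸ self_mem_qd z _) m1 hc
      have hne : ¬ (s = t' ∧ k = l') := fun ⟨e1, e2⟩ => M.out w (by rw [← e1, ← e2] at hqd; exact hqd ▸ self_mem_qd z _)
      refine ⟨⟨?_, ?_⟩, ?_⟩ <;> rw [hq]
      · cases t' <;> simp [ndF]; omega
      · exact C.far_comm_sub hne hcc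
      · rw [nd_F]; exact hcc
  have hn1 : 27 ≤ Scomm.ncard := by
    have hc := Set.ncard_add_ncard_compl (setOf45 (frM F))
    rw [setOf45_ncard, frame_card, Nat.card_eq_fintype_card, Fintype.card_fin] at hc
    refine le_trans (by omega) (Set.ncard_le_ncard_of_injOn ρ hmap (fun v _ w _ hvw => ?_) (Set.toFinite _))
    exact M.inj _ _ (by rw [hρ v, hρ w, hvw])
  have hn2 : R.ncard = 27 := by
    rw [← far_row s k, ← List.toFinset_card_of_nodup ((List.nodup_finRange 126).filter _), ← Set.ncard_coe_finset]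
    congr 1
    ext q
    simp [hR]
  have heq : Scomm = R := Set.eq_of_subset_of_ncard_le (fun _ hq => hq.1) (by omega) (Set.toFinite _)
  have hq : ndF t l ∈ R := ⟨by cases t <;> simp [ndF]; omega, h⟩
  rw [← heq] at hq
  have h2 := hq.2
  rwa [nd_F] at h2

/-- Commutation of the 126 quads. -/
theorem nd_comm (C : Coords D z a n e) (p q : Fin 126) :
    Commute (nd a n e p) (nd a n e q) ↔ (p = q ∨ adB p q = true) := by
  have N := C.N
  obtain ⟨r0N, r0F, rNN, rNF⟩ := ad_rows
  rcases node_cases p with rfl | ⟨i, rfl⟩ | ⟨s, k, rfl⟩ <;>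
    rcases node_cases q with rfl | ⟨j, rfl⟩ | ⟨t, l, rfl⟩ <;> simp only [nd_zero, nd_N, nd_F]
  · simp
  · exact ⟨fun _ => Or.inr (r0N j), fun _ => N.comm_a j⟩
  · rw [r0F]
    refine ⟨fun h => absurd h (C.lft_spec t l).2.1, fun h => absurd ?_ (by simp : ¬ (false = true))⟩
    rcases h with h | h
    · exact absurd h (zero_ne_ndF t l)
    · exact h
  · exact ⟨fun _ => Or.inr (by rw [ad_symm]; exact r0N i), fun _ => (N.comm_a i).symm⟩
  · rw [N.comm, rNN]
    refine or_congr_left ⟨fun h => by rw [h], fun h => ?_⟩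
    exact Fin.ext (by simpa [ndN] using congrArg (fun q : Fin 126 => q.val) h)
  · rw [C.comm_N_F, rNF]
    refine ⟨Or.inr, fun h => h.resolve_left fun h' => ?_⟩
    have := congrArg (fun q : Fin 126 => q.val) h'
    cases t <;> simp [ndN, ndF] at this <;> omega
  · refine ⟨fun h => absurd h.symm (C.lft_spec s k).2.1, fun h => ?_⟩
    rcases h with h | h
    · exact absurd h.symm (zero_ne_ndF s k)
    · rw [ad_symm, r0F] at h; exact Bool.noConfusion h
  · rw [ad_symm, rNF, ← C.comm_N_F j s k]
    refine ⟨fun h => Or.inr h.symm, fun h => (h.resolve_left fun h' => ?_).symm⟩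
    have := congrArg (fun q : Fin 126 => q.val) h'
    cases s <;> simp [ndN, ndF] at this <;> omega
  · by_cases hst : s = t ∧ k = l
    · obtain ⟨rfl, rfl⟩ := hst
      simp
    refine ⟨fun h => Or.inr (C.far_comm_sub hst h), fun h => C.far_comm_sup (h.resolve_left fun h' => hst ?_)⟩
    have := congrArg (fun q : Fin 126 => q.val) h'
    have := k.isLt
    have := l.isLt
    cases s <;> cases t <;> simp [ndF] at * <;> first | (exact Fin.ext (by omega)) | omega

theorem ref_N (C : Coords D z a n e) (x : Fin 45) (q : Fin 126) :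
    qd D z (n x * nd a n e q * (n x)⁻¹) = qd D z (nd a n e (rfI (ndN x) q)) := by
  obtain ⟨-, -, rNN, rNF⟩ := rf_rows
  rcases node_cases q with rfl | ⟨j, rfl⟩ | ⟨t, l, rfl⟩
  · rw [rf_fix (ndN x) 0 (by simp [ad_symm (ndN x) 0, ad_rows.1 x]), nd_zero, conj_of_commute (C.N.comm_a x).symm]
  · rw [rNN, nd_N, nd_N]; exact C.N.conj x j
  · rw [rNF, nd_F, nd_F]; exact C.act_point x t l

theorem ref_zero (C : Coords D z a n e) (q : Fin 126) :
    qd D z (a * nd a n e q * a⁻¹) = qd D z (nd a n e (rfI 0 q)) := by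
  obtain ⟨r0N, r0F, -, -⟩ := rf_rows
  rcases node_cases q with rfl | ⟨j, rfl⟩ | ⟨t, l, rfl⟩
  · rw [rf_fix 0 0 (by simp), nd_zero, conj_of_commute (Commute.refl a)]
  · rw [r0N, nd_N, conj_of_commute (C.N.comm_a j)]
  · rw [r0F, nd_F, nd_F]
    cases t
    · rfl
    · simp only [lft, if_true, Bool.not_true, Bool.false_eq_true, if_false]
      rw [conj_symm a _ (mul_self C.N.S.cls.1 C.N.ha.1)]

/-- The reflections of the 126 quads. -/
theorem nd_ref (C : Coords D z a n e) (p q : Fin 126) :
    qd D z (nd a n e p * nd a n e q * (nd a n e p)⁻¹) = qd D z (nd a n e (rfI p q)) := by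
  have S := C.N.S
  have hz := C.N.hz
  have hD := S.cls.1
  by_cases hc : Commute (nd a n e p) (nd a n e q)
  · have h := (C.nd_comm p q).1 hc
    rw [rf_fix p q (by simpa using h), conj_of_commute hc]
  have hpq : p ≠ q ∧ adB p q = false := by
    have := mt (C.nd_comm p q).2 hc
    simpa [not_or] using this
  have swap : qd D z (nd a n e p * nd a n e q * (nd a n e p)⁻¹) = qd D z (nd a n e q * nd a n e p * (nd a n e q)⁻¹) := by
    rw [conj_member hD (C.nd_mem p).1, conj_member hD (C.nd_mem q).1, braid hD (C.nd_mem p).1 (C.nd_mem q).1 hc]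
  have hsw : rfI p q = rfI q p := by
    have := rf_swap p q
    simpa [hpq.1, hpq.2] using this
  rcases node_cases p with rfl | ⟨i, rfl⟩ | ⟨s, k, rfl⟩
  · rw [nd_zero]; exact C.ref_zero q
  · rw [nd_N]; exact C.ref_N i q
  rcases node_cases q with rfl | ⟨j, rfl⟩ | ⟨t, l, rfl⟩
  · rw [swap, hsw, nd_zero]; exact C.ref_zero _
  · rw [swap, hsw, nd_N (e := e)]; exact C.ref_N j _
  set P := nd a n e (ndF s k) with hP
  set Q := nd a n e (ndF t l) with hQ
  have hPm := C.nd_mem (ndF s k)
  have hQm := C.nd_mem (ndF t l)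
  obtain ⟨r, hr⟩ := C.nd_cover (Ey_conj S hPm.2 hQm)
  rw [hr]
  congr 2
  have hnc : ∀ u, u = P ∨ u = Q → ¬ Commute u (nd a n e r) := by
    rintro u (rfl | rfl) hh
    · have := commute_of_qd S hz (C.nd_mem r) (hr ▸ self_mem_qd z _) hPm hh
      exact hc ((commute_conj_iff P P Q).1 (by rwa [conj_of_commute (Commute.refl P)]))
    · exact not_comm_conj S hQm.1 hPm.1 (fun k => hc k.symm)
        (commute_of_qd S hz (C.nd_mem r) (hr ▸ self_mem_qd z _) hQm hh)
  have hr1 : r ≠ ndF s k ∧ adB (ndF s k) r = false := by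
    have := mt (C.nd_comm (ndF s k) r).2 (hnc P (Or.inl rfl))
    simp only [not_or, Bool.not_eq_true] at this
    exact ⟨Ne.symm this.1, this.2⟩
  have hr2 : r ≠ ndF t l ∧ adB (ndF t l) r = false := by
    have := mt (C.nd_comm (ndF t l) r).2 (hnc Q (Or.inr rfl))
    simp only [not_or, Bool.not_eq_true] at this
    exact ⟨Ne.symm this.1, this.2⟩
  have hsub : adM r &&& (adM (ndF s k) &&& adM (ndF t l)) = adM (ndF s k) &&& adM (ndF t l) := by
    refine Nat.eq_of_testBit_eq fun j => ?_
    rw [Nat.testBit_land, Nat.testBit_land]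
    rcases Nat.lt_or_ge j 126 with hj | hj
    · cases h1 : (adM (ndF s k)).testBit j <;> cases h2 : (adM (ndF t l)).testBit j <;> simp
      set w : Fin 126 := ⟨j, hj⟩
      have cP : Commute (nd a n e (ndF s k)) (nd a n e w) := (C.nd_comm _ _).2 (Or.inr h1)
      have cQ : Commute (nd a n e (ndF t l)) (nd a n e w) := (C.nd_comm _ _).2 (Or.inr h2)
      have cR : Commute (nd a n e r) (nd a n e w) := by
        refine (commute_of_qd S hz (Ey_conj S hPm.2 hQm) (hr.symm ▸ self_mem_qd z _) (C.nd_mem w) ?_).symm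
        exact ((cP.symm.mul_right cQ.symm).mul_right cP.symm.inv_right)
      rcases (C.nd_comm r w).1 cR with h | h
      · exfalso
        rw [h] at hr1
        exact Bool.noConfusion (hr1.2.symm.trans h1)
      · exact h
    · have hlt : ∀ p : Fin 126, adM p < 2 ^ 126 := by decide +kernel
      have : (adM (ndF s k)).testBit j = false :=
        Nat.testBit_lt_two_pow ((hlt _).trans_le (Nat.pow_le_pow_right (by norm_num) hj))
      simp [this]
  have key := rf_third
  simp only [List.all_eq_true, List.mem_finRange, true_implies, Bool.or_eq_true, Bool.and_eq_true,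
    beq_iff_eq] at key
  rcases key k s (by cases s <;> simp) l t (by cases t <;> simp) with (⟨e1, e2⟩ | h) | h
  · exact absurd (by rw [e1, e2]) hpq.1
  · rw [hpq.2] at h; exact Bool.noConfusion h
  · refine Fin.ext ?_
    have := thirdOK_sound _ _ _ _ _ _ adL 0 h r.val (by rw [adL_length]; exact r.isLt)
      (fun h => hr1.1 (Fin.ext (by simpa using h))) (fun h => hr2.1 (Fin.ext (by simpa using h)))
      (by rw [Nat.zero_add]; exact hr1.2) (by rw [Nat.zero_add]; exact hr2.2) hsub
    simpa using this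

end Coords

end Cfsg.Agent.FourProd
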