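/-
The action of the centraliser of a product of four commuting members on its 126 quads.

Main results (namespace `Cfsg.Agent.FourProd`):
* `Coords.psi` : the action, `psi_spec`, `psi_member`, `psi_autos`;
* `Coords.cent_card` : `|C(z)| = 637009920 · 504`;
* `Coords.ker_ge` : the kernel has order at least 2^13 · 3.
-/
import Cfsg.Agent.Lib.FischerM24.Four.Graph
import Cfsg.Agent.Lib.FischerM24.Four.Auto

set_option autoImplicit false

namespace Cfsg.Agent.FourProd

open Cfsg.Agent.ThreeTrans Cfsg.Agent.ThreeTransSU Cfsg.Agent.FischerM24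
open Cfsg.Agent.FischerM22 (IsProd)
open Cfsg.Agent.PrimeNorm24 (Ey)
open Tab

variable {G : Type*} [Group G] {D : Set G} {z a : G} {n : Fin 45 → G} {e : Fin 40 → G}

theorem cent_commute {g : G} (h : g ∈ Subgroup.centralizer ({z} : Set G)) : Commute g z :=
  Subgroup.mem_centralizer_singleton_iff.1 h

theorem cent_of_commute {g : G} (h : Commute g z) : g ∈ Subgroup.centralizer ({z} : Set G) :=
  Subgroup.mem_centralizer_singleton_iff.2 h

variable [Finite G]

namespace Coords

open scoped Classical in
/-- The number of the quad of a member. -/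
@[irreducible] noncomputable def node (D : Set G) (z a : G) (n : Fin 45 → G) (e : Fin 40 → G) (q : G) : Fin 126 :=
  if h : ∃ p, qd D z q = qd D z (nd a n e p) then h.choose else 0

theorem node_spec (C : Coords D z a n e) {q : G} (hq : q ∈ Ey D z) :
    qd D z q = qd D z (nd a n e (node D z a n e q)) := by
  have h := C.nd_cover hq
  have e1 : node D z a n e q = h.choose := by
    unfold node
    exact dif_pos h
  exact e1.symm ▸ h.choose_spec

theorem node_eq (C : Coords D z a n e) {q : G} (hq : q ∈ Ey D z) {p : Fin 126}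
    (h : qd D z q = qd D z (nd a n e p)) : node D z a n e q = p :=
  C.nd_inj ((C.node_spec hq).symm.trans h)

theorem node_nd (C : Coords D z a n e) (p : Fin 126) : node D z a n e (nd a n e p) = p :=
  C.node_eq (C.nd_mem p) rfl

theorem node_conj (C : Coords D z a n e) {g q : G} (hg : Commute g z) (hq : q ∈ Ey D z) :
    node D z a n e (g * nd a n e (node D z a n e q) * g⁻¹) = node D z a n e (g * q * g⁻¹) := by
  refine C.node_eq (Ey_conj C.N.S hg (C.nd_mem _)) ?_
  rw [← C.node_spec (Ey_conj C.N.S hg hq)]
  exact qd_conj C.N.S C.N.hz hg hq (C.node_spec hq).symm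

/-- The permutation of the quads. -/
noncomputable def permOf (C : Coords D z a n e) (g : ↥(Subgroup.centralizer ({z} : Set G))) :
    Equiv.Perm (Fin 126) where
  toFun p := node D z a n e ((g : G) * nd a n e p * (g : G)⁻¹)
  invFun p := node D z a n e ((g : G)⁻¹ * nd a n e p * (g : G))
  left_inv p := by
    have hg := cent_commute g.2
    show node D z a n e ((g : G)⁻¹ * nd a n e (node D z a n e ((g : G) * nd a n e p * (g : G)⁻¹)) * (g : G)) = p
    have h := C.node_conj hg.inv_left (Ey_conj C.N.S hg (C.nd_mem p))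
    rw [inv_inv] at h
    rw [h, show (g : G)⁻¹ * ((g : G) * nd a n e p * (g : G)⁻¹) * (g : G) = nd a n e p by group, C.node_nd]
  right_inv p := by
    have hg := cent_commute g.2
    show node D z a n e ((g : G) * nd a n e (node D z a n e ((g : G)⁻¹ * nd a n e p * (g : G))) * (g : G)⁻¹) = p
    have h0 := Ey_conj C.N.S hg.inv_left (C.nd_mem p)
    rw [inv_inv] at h0
    rw [C.node_conj hg h0, show (g : G) * ((g : G)⁻¹ * nd a n e p * (g : G)) * (g : G)⁻¹ = nd a n e p by group,
      C.node_nd]

theorem permOf_apply (C : Coords D z a n e) (g : ↥(Subgroup.centralizer ({z} : Set G))) (p : Fin 126) :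
    C.permOf g p = node D z a n e ((g : G) * nd a n e p * (g : G)⁻¹) := rfl

/-- The action on the quads. -/
noncomputable def psi (C : Coords D z a n e) : ↥(Subgroup.centralizer ({z} : Set G)) →* Equiv.Perm (Fin 126) where
  toFun := C.permOf
  map_one' := Equiv.ext fun p => by
    rw [Equiv.Perm.coe_one, id_eq, permOf_apply, OneMemClass.coe_one, one_mul, inv_one, mul_one, C.node_nd]
  map_mul' g h := Equiv.ext fun p => by
    rw [Equiv.Perm.coe_mul, Function.comp_apply, permOf_apply, permOf_apply, permOf_apply,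
      C.node_conj (cent_commute g.2) (Ey_conj C.N.S (cent_commute h.2) (C.nd_mem p)), Subgroup.coe_mul]
    congr 1
    group

theorem psi_spec (C : Coords D z a n e) (g : ↥(Subgroup.centralizer ({z} : Set G))) (p : Fin 126) :
    qd D z ((g : G) * nd a n e p * (g : G)⁻¹) = qd D z (nd a n e (C.psi g p)) :=
  C.node_spec (Ey_conj C.N.S (cent_commute g.2) (C.nd_mem p))

theorem psi_eq (C : Coords D z a n e) (g : ↥(Subgroup.centralizer ({z} : Set G))) {p q : Fin 126}
    (h : qd D z ((g : G) * nd a n e p * (g : G)⁻¹) = qd D z (nd a n e q)) : C.psi g p = q :=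
  C.nd_inj ((C.psi_spec g p).symm.trans h)

/-- A member acts as its reflection. -/
theorem psi_member (C : Coords D z a n e) (g : ↥(Subgroup.centralizer ({z} : Set G))) {p : Fin 126}
    (hg : qd D z (g : G) = qd D z (nd a n e p)) (q : Fin 126) :
    C.psi g q = rfI p q :=
  C.psi_eq g ((qd_ref_both C.N.S C.N.hz (C.nd_mem q) (C.nd_mem p) rfl hg).trans (C.nd_ref p q))

theorem psi_autos (C : Coords D z a n e) (g : ↥(Subgroup.centralizer ({z} : Set G))) : C.psi g ∈ autos := by
  have S := C.N.S
  have hz := C.N.hz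
  have hg := cent_commute g.2
  refine ⟨fun p q => ?_, fun p q => ?_⟩
  · by_cases hpq : p = q
    · subst hpq; rw [ad_irrefl, ad_irrefl]
    have h := (commute_iff_of_qd S hz (Ey_conj S hg (C.nd_mem p)) (Ey_conj S hg (C.nd_mem q))
      (C.psi_spec g p).symm (C.psi_spec g q).symm).trans (commute_conj_iff _ _ _)
    rw [C.nd_comm, C.nd_comm] at h
    rw [Bool.eq_iff_iff]
    simpa [hpq, (C.psi g).injective.ne hpq] using h
  · refine (C.psi_eq g ?_).symm
    rw [← C.nd_ref, qd_ref_both S hz (Ey_conj S hg (C.nd_mem q)) (Ey_conj S hg (C.nd_mem p))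
      (C.psi_spec g q).symm (C.psi_spec g p).symm,
      show (g : G) * nd a n e p * (g : G)⁻¹ * ((g : G) * nd a n e q * (g : G)⁻¹) *
        ((g : G) * nd a n e p * (g : G)⁻¹)⁻¹ = (g : G) * (nd a n e p * nd a n e q * (nd a n e p)⁻¹) * (g : G)⁻¹ by
        group]
    exact qd_conj S hz hg (Ey_conj S (C.nd_mem p).2 (C.nd_mem q)) (C.nd_ref p q).symm

theorem cent_card (C : Coords D z a n e) :
    Nat.card ↥(Subgroup.centralizer ({z} : Set G)) = 504 * 637009920 := by
  rw [PrimeNorm24.quad_cent_card C.N.S C.N.hz]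
  congr 1
  exact Ey_ncard C.N.S C.N.hz

theorem range_le (C : Coords D z a n e) : Nat.card C.psi.range ≤ 13063680 :=
  autos_card (by rintro _ ⟨g, rfl⟩; exact C.psi_autos g)

theorem ker_mul_range (C : Coords D z a n e) :
    Nat.card C.psi.ker * Nat.card C.psi.range = 504 * 637009920 := by
  rw [← C.cent_card, ← Subgroup.index_ker, Subgroup.card_mul_index]

theorem ker_ge (C : Coords D z a n e) : 2 ^ 13 * 3 ≤ Nat.card C.psi.ker := by
  have h := C.ker_mul_range
  have h2 := Nat.mul_le_mul_left (Nat.card C.psi.ker) C.range_le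
  omega

end Coords

end Cfsg.Agent.FourProd
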