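/-
The quads of a product of four commuting members in a group of type M(24).

Main results (namespace `Cfsg.Agent.FourProd`):
* `qd` : the quad of a member; `qd_eq`, `qd_same`, `qd_commute`, `qd_conj`;
* `quad_far` : the conjugates of a quad by a far member form a quad;
* `qd_ref`, `qd_ref_right` : the conjugate quad depends only on the two quads.
-/
import Cfsg.Agent.Lib.FischerM24.PrimeNorm.InvolFour

set_option autoImplicit false

namespace Cfsg.Agent.FourProd

open Cfsg.Agent.ThreeTrans Cfsg.Agent.ThreeTransSU Cfsg.Agent.FischerM24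
open Cfsg.Agent.FischerM22 (IsTriple IsProd adj_symm)
open Cfsg.Agent.PrimeNorm24 (Quad Ey quad_decomp)

variable {G : Type*} [Group G] {D : Set G}

/-- The quad of a member. -/
def qd (D : Set G) (z e : G) : Set G := {x | x = e ∨ ∃ v w, Quad D z e x v w}

theorem self_mem_qd (z e : G) : e ∈ qd D z e := Or.inl rfl

/-- Conjugation by a member. -/
theorem conj_member (hD : Cfsg.IsThreeTranspositionSet D) {u : G} (hu : u ∈ D) (x : G) :
    u * x * u⁻¹ = u * x * u := by rw [inv_eq hD hu]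

theorem conj_inj (g : G) {p q : G} (h : g * p * g⁻¹ = g * q * g⁻¹) : p = q :=
  mul_left_cancel (mul_right_cancel h)

theorem conj_of_commute {g p : G} (h : Commute g p) : g * p * g⁻¹ = p := by rw [h.eq, mul_inv_cancel_right]

theorem commute_of_conj {g p : G} (h : g * p * g⁻¹ = p) : Commute g p := mul_inv_eq_iff_eq_mul.1 h

theorem commute_conj_iff (g p q : G) : Commute (g * p * g⁻¹) (g * q * g⁻¹) ↔ Commute p q :=
  ⟨fun h => Commute.of_map (f := (MulAut.conj g).toMonoidHom) (MulAut.conj g).injective h,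
    fun h => h.map (MulAut.conj g).toMonoidHom⟩

variable [Finite G]

theorem qd_eq (S : Fi24Setup D) {z a b c d : G} (Q : Quad D z a b c d) : qd D z a = {a, b, c, d} := by
  ext x
  constructor
  · rintro (rfl | ⟨v, w, h⟩)
    · exact Or.inl rfl
    · exact Or.inr (Q.mem_of_quad S h)
  · rintro (rfl | rfl | rfl | rfl)
    · exact Or.inl rfl
    · exact Or.inr ⟨c, d, Q⟩
    · exact Or.inr ⟨b, d, Q.swap⟩
    · exact Or.inr ⟨b, c, Q.swap'.swap⟩

theorem qd_rot (S : Fi24Setup D) {z a b c d : G} (Q : Quad D z a b c d) :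
    qd D z b = qd D z a ∧ qd D z c = qd D z a ∧ qd D z d = qd D z a := by
  rw [qd_eq S Q, qd_eq S Q.rot, qd_eq S Q.swap.rot, qd_eq S Q.swap'.swap.rot]
  refine ⟨?_, ?_, ?_⟩ <;> (ext x; simp only [Set.mem_insert_iff, Set.mem_singleton_iff]; tauto)

theorem qd_mem (S : Fi24Setup D) {z e x : G} (he : e ∈ Ey D z) (hx : x ∈ qd D z e) : x ∈ Ey D z := by
  rcases hx with rfl | ⟨v, w, Q⟩
  exacts [he, Q.mem_Ey_all.1]

theorem qd_same (S : Fi24Setup D) {z e x : G} (hx : x ∈ qd D z e) : qd D z x = qd D z e := by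
  rcases hx with rfl | ⟨v, w, Q⟩
  exacts [rfl, (qd_rot S Q).1]

theorem qd_eq_of_mem (S : Fi24Setup D) {z e f x : G} (hx : x ∈ qd D z e) (hx' : x ∈ qd D z f) :
    qd D z e = qd D z f := (qd_same S hx).symm.trans (qd_same S hx')

/-- Members of one quad commute with the same members of `Ey`. -/
theorem commute_of_qd (S : Fi24Setup D) {z e x f : G} (hz : IsProd D 4 z) (he : e ∈ Ey D z) (hx : x ∈ qd D z e)
    (hf : f ∈ Ey D z) (h : Commute f e) : Commute f x := by
  obtain ⟨b, c, d, Q⟩ := quad_decomp S hz he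
  obtain ⟨k1, k2, k3⟩ := Q.commute_all S hf h
  rw [qd_eq S Q] at hx
  rcases hx with rfl | rfl | rfl | rfl
  exacts [h, k1, k2, k3]

theorem qd_commute (S : Fi24Setup D) {z e f x y : G} (hz : IsProd D 4 z) (he : e ∈ Ey D z) (hf : f ∈ Ey D z)
    (h : Commute e f) (hx : x ∈ qd D z e) (hy : y ∈ qd D z f) : Commute x y :=
  commute_of_qd S hz hf hy (qd_mem S he hx) (commute_of_qd S hz he hx hf h.symm).symm

theorem commute_iff_of_qd (S : Fi24Setup D) {z e f x y : G} (hz : IsProd D 4 z) (he : e ∈ Ey D z)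
    (hf : f ∈ Ey D z) (hx : qd D z x = qd D z e) (hy : qd D z y = qd D z f) :
    Commute x y ↔ Commute e f := by
  have hxe : x ∈ qd D z e := hx ▸ self_mem_qd z x
  have hyf : y ∈ qd D z f := hy ▸ self_mem_qd z y
  exact ⟨fun h => qd_commute S hz (qd_mem S he hxe) (qd_mem S hf hyf) h (hx.symm ▸ self_mem_qd z e)
    (hy.symm ▸ self_mem_qd z f), fun h => qd_commute S hz he hf h hxe hyf⟩

theorem qd_self_commute (S : Fi24Setup D) {z e x : G} (hz : IsProd D 4 z) (he : e ∈ Ey D z)
    (hx : x ∈ qd D z e) : Commute e x := qd_commute S hz he he (Commute.refl e) (self_mem_qd z e) hx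

/-! ### conjugation -/

omit [Finite G] in
theorem Ey_conj (S : Fi24Setup D) {z g e : G} (hg : Commute g z) (he : e ∈ Ey D z) : g * e * g⁻¹ ∈ Ey D z := by
  refine ⟨S.conj_mem g he.1, ?_⟩
  have := (commute_conj_iff g e z).2 he.2
  rwa [conj_of_commute hg] at this

omit [Finite G] in
theorem quad_map (S : Fi24Setup D) {z a b c d g : G} (hg : Commute g z) (Q : Quad D z a b c d) :
    Quad D z (g * a * g⁻¹) (g * b * g⁻¹) (g * c * g⁻¹) (g * d * g⁻¹) := by
  obtain ⟨bD, cD, dD, n1, n2, n3, c1, c2, c3⟩ := Q.tri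
  have inj : ∀ {p q : G}, p ≠ q → g * p * g⁻¹ ≠ g * q * g⁻¹ := fun h e => h (conj_inj g e)
  have cm : ∀ {p q : G}, Commute p q → Commute (g * p * g⁻¹) (g * q * g⁻¹) := fun h => (commute_conj_iff g _ _).2 h
  have ad : ∀ {p : G}, p ∈ adj D a → g * p * g⁻¹ ∈ adj D (g * a * g⁻¹) := fun h =>
    ⟨S.conj_mem g h.1, inj h.2.1, cm h.2.2⟩
  refine ⟨S.conj_mem g Q.ha, ad Q.hb, ad Q.hc, ad Q.hd, ⟨S.conj_mem g bD, S.conj_mem g cD, S.conj_mem g dD,
    inj n1, inj n2, inj n3, cm c1, cm c2, cm c3⟩, ?_⟩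
  calc z = g * z * g⁻¹ := (conj_of_commute hg).symm
    _ = g * (a * (b * c * d)) * g⁻¹ := by rw [← Q.eq]
    _ = g * a * g⁻¹ * (g * b * g⁻¹ * (g * c * g⁻¹) * (g * d * g⁻¹)) := by group

theorem qd_conj_mem (S : Fi24Setup D) {z g e x : G} (hz : IsProd D 4 z) (hg : Commute g z) (he : e ∈ Ey D z)
    (hx : x ∈ qd D z e) : g * x * g⁻¹ ∈ qd D z (g * e * g⁻¹) := by
  obtain ⟨b, c, d, Q⟩ := quad_decomp S hz he
  rw [qd_eq S Q] at hx
  rw [qd_eq S (quad_map S hg Q)]
  rcases hx with rfl | rfl | rfl | rfl <;> simp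

/-- Conjugation respects the equality of quads. -/
theorem qd_conj (S : Fi24Setup D) {z g e f : G} (hz : IsProd D 4 z) (hg : Commute g z) (he : e ∈ Ey D z)
    (h : qd D z f = qd D z e) : qd D z (g * f * g⁻¹) = qd D z (g * e * g⁻¹) :=
  qd_same S (qd_conj_mem S hz hg he (h ▸ self_mem_qd z f))

/-! ### far members -/

/-- The conjugates of `e` by the members of a quad far from it form a quad. -/
theorem quad_far (S : Fi24Setup D) {z a b c d e : G} (Q : Quad D z a b c d) (he : e ∈ Ey D z)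
    (hea : ¬ Commute e a) : Quad D z (a * e * a) (b * e * b) (c * e * c) (d * e * d) := by
  have hD := S.cls.1
  obtain ⟨bD, cD, dD, n1, n2, n3, c1, c2, c3⟩ := Q.tri
  obtain ⟨fb, fc, fd⟩ := Q.far_all S he hea
  have ea : a * e * a = e * a * e := braid hD Q.ha he.1 fun h => hea h.symm
  have eb : b * e * b = e * b * e := braid hD bD he.1 fun h => fb h.symm
  have ec : c * e * c = e * c * e := braid hD cD he.1 fun h => fc h.symm
  have ed : d * e * d = e * d * e := braid hD dD he.1 fun h => fd h.symm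
  have conjE : ∀ p : G, e * p * e⁻¹ = e * p * e := conj_member hD he.1
  have key := quad_map S he.2 Q
  simp only [conjE] at key
  rwa [ea, eb, ec, ed]

/-- The quad of `x e x` depends only on the quad of `x`. -/
theorem qd_ref (S : Fi24Setup D) {z e x u : G} (hz : IsProd D 4 z) (he : e ∈ Ey D z) (hx : x ∈ Ey D z)
    (hu : u ∈ qd D z x) : qd D z (u * e * u⁻¹) = qd D z (x * e * x⁻¹) := by
  by_cases h : Commute e x
  · rw [conj_of_commute h.symm, conj_of_commute (commute_of_qd S hz hx hu he h).symm]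
  · obtain ⟨b, c, d, Q⟩ := quad_decomp S hz hx
    have hu' := hu
    rw [qd_eq S Q] at hu'
    rw [conj_member S.cls.1 hx.1, conj_member S.cls.1 (qd_mem S hx hu).1]
    refine qd_same S ?_
    rw [qd_eq S (quad_far S Q he h)]
    rcases hu' with rfl | rfl | rfl | rfl <;> simp

/-- Conjugation of quads by quads. -/
theorem qd_ref_both (S : Fi24Setup D) {z e f x u : G} (hz : IsProd D 4 z) (he : e ∈ Ey D z) (hx : x ∈ Ey D z)
    (hf : qd D z f = qd D z e) (hu : qd D z u = qd D z x) :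
    qd D z (u * f * u⁻¹) = qd D z (x * e * x⁻¹) := by
  have hu' : u ∈ qd D z x := hu ▸ self_mem_qd z u
  have hf' : f ∈ qd D z e := hf ▸ self_mem_qd z f
  rw [qd_ref S hz (qd_mem S he hf') hx hu', qd_conj S hz hx.2 he hf]

end Cfsg.Agent.FourProd
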