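/-
Coordinates for the quads commuting with the first quad of a product of four commuting members.

Main results (namespace `Cfsg.Agent.FourProd`):
* `QuadModel`, `exists_quadModel` : the point model of the triple `a, b, c` with `d` the standard point;
* `QuadModel.exists_Q`, `Q_quad`, `qd_Q` : the neighbours of `a` in `Ey` and their quads;
* `QuadModel.comm_Q`, `conj_Q` : commutation and conjugation of these quads.
-/
import Cfsg.Agent.Lib.FischerM24.Four.Quad
import Cfsg.Agent.Lib.FischerM24.ParityThree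
import Cfsg.Agent.Lib.FischerM24.TripleProd
import Cfsg.Agent.Lib.FischerM22.PairKernel

set_option autoImplicit false

namespace Cfsg.Agent.FourProd

open Cfsg.Agent.Unitary Cfsg.Agent.U62Cover Cfsg.Agent.ThreeTrans Cfsg.Agent.ThreeTransSU Cfsg.Agent.FischerM24
open Cfsg.Agent.FischerM22 (IsTriple IsProd adj_symm v0 low v0_iso comb_iso comb_inj hf_comb hf_comb_v0 perp_decomp
  Q low_zero blockOf_tv BlockOf)
open Cfsg.Agent.PrimeNorm24 (Quad Ey quad_decomp)

variable {G : Type*} [Group G] {D : Set G} {F : Type*} [Field F] [Fintype F]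

/-- The point model of the triple `a, b, c` in which `d` is the standard point. -/
structure QuadModel (D : Set G) (z a b c d : G) (pt : (Fin 6 → F) → G) : Prop where
  S : Fi24Setup D
  quad : Quad D z a b c d
  card : Fintype.card F = 4
  mem : ∀ v, Iso v → pt v ∈ triSet D a b c
  surj : ∀ y ∈ triSet D a b c, ∃ v, Iso v ∧ pt v = y
  smul : ∀ (v : Fin 6 → F) (k : F), Iso v → k ≠ 0 → pt (k • v) = pt v
  inj : ∀ u v, Iso u → Iso v → pt u = pt v → ∃ k : F, k ≠ 0 ∧ v = k • u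
  comm : ∀ u v, Iso u → Iso v → (Commute (pt u) (pt v) ↔ hf u v = 0)
  rep : ∀ k, Commute k a → Commute k b → Commute k c →
    ∃ A : Cfsg.SU 6 F 2, ∀ x, Iso x → k * pt x * k⁻¹ = pt (act A x)
  realise : ∀ A : Cfsg.SU 6 F 2, ∃ k, (Commute k a ∧ Commute k b ∧ Commute k c) ∧
    ∀ x, Iso x → k * pt x * k⁻¹ = pt (act A x)
  self : ∀ w, Iso w → ∀ x, Iso x → pt w * pt x * (pt w)⁻¹ = pt (act (tv card w) x)
  hd : pt v0 = d
  line : ∀ {ω : F}, ω ^ 2 = ω + 1 → ∀ {u w : Fin 6 → F}, OrthPair u w →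
    ((linePts ω u w).map pt).prod = a * b * c ∧ ((linePts ω u w).map pt).Nodup
  fixAll : ∀ k, Commute k a → Commute k b → Commute k c → (∀ x, Iso x → k * pt x * k⁻¹ = pt x) →
    k ∈ Subgroup.closure ({a, b, c} : Set G)

variable [Finite G]

theorem exists_quadModel_of (S : Fi24Setup D) {z a b c d : G} (Q : Quad D z a b c d) :
    ∃ (F : Type) (_ : Field F) (_ : Fintype F) (pt : (Fin 6 → F) → G), QuadModel D z a b c d pt := by
  obtain ⟨bD, cD, dD, n1, n2, n3, c1, c2, c3⟩ := Q.tri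
  have hT : IsTriple D a b c := ⟨Q.ha, bD, cD, Q.hb.2.1.symm, Q.hc.2.1.symm, n1, Q.hb.2.2, Q.hc.2.2, c1⟩
  obtain ⟨ta, tb, tc⟩ := tri_conds hT
  obtain ⟨F, iF, iT, pt, θ, M⟩ := exists_triModel S ta tb tc
  have hd : d ∈ triSet D a b c := ⟨⟨Q.hd, dD, n2.symm, c2⟩, dD, n3.symm, c3⟩
  obtain ⟨v, hv, rfl⟩ := M.surj d hd
  obtain ⟨s, hs⟩ := exists_act M.card (by norm_num) (v0_iso M.card) hv
  have hF := M.card
  have hk : ∀ k, Commute k a → Commute k b → Commute k c → k ∈ triGroup D a b c := fun k h1 h2 h3 =>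
    (mem_triGroup_iff S hT).2 ⟨h1, h2, h3⟩
  have rep : ∀ k, Commute k a → Commute k b → Commute k c →
      ∃ A : Cfsg.SU 6 F 2, ∀ x, Iso x → k * pt x * k⁻¹ = pt (act A x) := by
    intro k h1 h2 h3
    obtain ⟨A, hA⟩ := QuotientGroup.mk'_surjective _ (θ ⟨k, hk k h1 h2 h3⟩)
    exact ⟨A, fun x hx => M.conj ⟨k, hk k h1 h2 h3⟩ A hA.symm x hx⟩
  have realise : ∀ A : Cfsg.SU 6 F 2, ∃ k, (Commute k a ∧ Commute k b ∧ Commute k c) ∧
      ∀ x, Iso x → k * pt x * k⁻¹ = pt (act A x) := by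
    intro A
    obtain ⟨u, hu⟩ := M.onto (toPSU 6 F A)
    exact ⟨u, (mem_triGroup_iff S hT).1 u.2, fun x hx => M.conj u A hu x hx⟩
  refine ⟨F, iF, iT, fun x => pt (act s x), S, Q, hF, fun x hx => M.mem _ (hx.act s), fun y hy => ?_,
    fun x k hx hk => ?_, fun u w hu hw h => ?_, fun u w hu hw => ?_, fun k h1 h2 h3 => ?_, fun A => ?_,
    fun w hw x hx => ?_, by simp only [hs], fun {ω} hω {u w} hP => ?_, fun k h1 h2 h3 hfix => ?_⟩
  · obtain ⟨x, hx, rfl⟩ := M.surj y hy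
    exact ⟨act s⁻¹ x, hx.act _, by rw [act_act_inv]⟩
  · rw [act_smul, M.smul _ k (hx.act s) hk]
  · obtain ⟨k, hk, e⟩ := M.inj _ _ (hu.act s) (hw.act s) h
    rw [← act_smul, act_eq_iff] at e
    exact ⟨k, hk, e⟩
  · rw [← act_hf s u w]; exact M.comm _ _ (hu.act s) (hw.act s)
  · obtain ⟨A, hA⟩ := rep k h1 h2 h3
    exact ⟨s⁻¹ * A * s, fun x hx => by rw [hA _ (hx.act s), act_mul, act_mul, act_act_inv]⟩
  · obtain ⟨k, h, hh⟩ := realise (s * A * s⁻¹)
    exact ⟨k, h, fun x hx => by rw [hh _ (hx.act s), act_mul, act_mul, act_inv_act]⟩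
  · have hm : pt (act s w) ∈ triGroup D a b c := Subgroup.subset_closure (M.mem _ (hw.act s))
    have h := M.conj ⟨_, hm⟩ _ (M.image _ (hw.act s) hm) _ (hx.act s)
    rw [h, ← tv_conj_inv hF s hw.2, act_mul, act_mul, act_inv_act]
  · have hP' : OrthPair (act s u) (act s w) := ⟨hP.1.act s, hP.2.1.act s, by rw [act_hf]; exact hP.2.2.1,
      fun k e => hP.2.2.2 k (by rw [← act_smul, act_eq_iff] at e; exact e)⟩
    have e : (linePts ω u w).map (fun x => pt (act s x)) = (linePts ω (act s u) (act s w)).map pt := by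
      simp [linePts, act_add, act_smul]
    rw [e]
    exact ⟨M.line_prod S ta tb tc hω hP', M.line_nodup hω hP'⟩
  · have hfix' : ∀ y ∈ triSet D a b c, k * y * k⁻¹ = y := fun y hy => by
      obtain ⟨x, hx, rfl⟩ := M.surj y hy
      have := hfix _ (hx.act s⁻¹)
      rwa [act_act_inv] at this
    have hkc : ∀ u : ↥(triGroup D a b c), Commute k (u : G) := fun u => by
      have hle : triGroup D a b c ≤ Subgroup.centralizer ({k} : Set G) := (Subgroup.closure_le _).2 fun y hy =>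
        Subgroup.mem_centralizer_singleton_iff.2 (mul_inv_eq_iff_eq_mul.1 (hfix' y hy)).symm
      exact (Subgroup.mem_centralizer_singleton_iff.1 (hle u.2)).symm
    refine M.ker ⟨k, hk k h1 h2 h3⟩ ?_
    rw [← Subgroup.mem_bot, ← FischerM22.center_psu_eq_bot hF]
    refine Subgroup.mem_center_iff.2 fun q => ?_
    obtain ⟨u, rfl⟩ := M.onto q
    rw [← map_mul, ← map_mul]
    exact congrArg θ (Subtype.ext (hkc u).eq.symm)

theorem exists_quadModel (S : Fi24Setup D) {z a : G} (hz : IsProd D 4 z) (ha : a ∈ Ey D z) :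
    ∃ (F : Type) (_ : Field F) (_ : Fintype F) (b c d : G) (pt : (Fin 6 → F) → G),
      QuadModel D z a b c d pt := by
  obtain ⟨b, c, d, Q⟩ := quad_decomp S hz ha
  obtain ⟨F, iF, iT, pt, P⟩ := exists_quadModel_of S Q
  exact ⟨F, iF, iT, b, c, d, pt, P⟩

namespace QuadModel

variable {z a b c d : G} {pt : (Fin 6 → F) → G}

omit [Finite G] in
theorem tri (P : QuadModel D z a b c d pt) : IsTriple D a b c := by
  obtain ⟨bD, cD, dD, n1, n2, n3, c1, c2, c3⟩ := P.quad.tri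
  exact ⟨P.quad.ha, bD, cD, P.quad.hb.2.1.symm, P.quad.hc.2.1.symm, n1, P.quad.hb.2.2, P.quad.hc.2.2, c1⟩

omit [Finite G] in
theorem hz (P : QuadModel D z a b c d pt) : IsProd D 4 z := by
  obtain ⟨bD, cD, dD, n1, n2, n3, c1, c2, c3⟩ := P.quad.tri
  rw [P.quad.eq]
  exact isProd_cons P.quad.ha (l := [b, c, d]) rfl (by simp [n1, n2, n3]) (by simp [P.quad.hb, P.quad.hc, P.quad.hd])
    (by simp [c1, c2, c3, c1.symm, c2.symm, c3.symm]) (by simp [mul_assoc])

omit [Finite G] in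
theorem z_eq (P : QuadModel D z a b c d pt) : z = a * b * c * d := by
  rw [P.quad.eq]; group

theorem qd_a (P : QuadModel D z a b c d pt) : qd D z a = {a, b, c, d} := qd_eq P.S P.quad

omit [Finite G] in
theorem Q_mem (P : QuadModel D z a b c d pt) (t : F) {y : Fin 4 → F} (hy : Iso y) :
    Q pt t y ∈ triSet D a b c ∧ Commute (Q pt t y) d ∧ Q pt t y ≠ d := by
  have hw := comb_iso P.card t hy
  refine ⟨P.mem _ hw, ?_, fun h => ?_⟩
  · rw [← P.hd]; exact (P.comm _ _ hw (v0_iso P.card)).2 (hf_comb_v0 P.card t y)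
  · rw [← P.hd] at h
    obtain ⟨k, -, e⟩ := P.inj _ _ (v0_iso P.card) hw h.symm
    exact hy.1 (comb_inj (t' := k) (y' := 0) (by rw [e, low_zero, add_zero])).2

omit [Finite G] in
theorem Q_Ey (P : QuadModel D z a b c d pt) (t : F) {y : Fin 4 → F} (hy : Iso y) :
    Q pt t y ∈ Ey D z ∧ Q pt t y ∈ adj D a := by
  obtain ⟨⟨⟨h1, h2⟩, h3⟩, h4, -⟩ := P.Q_mem t hy
  refine ⟨⟨h1.1, ?_⟩, h1⟩
  rw [P.z_eq]
  exact (((h1.2.2.symm).mul_right h2.2.2.symm).mul_right h3.2.2.symm).mul_right h4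

/-- Every neighbour of `a` in `Ey` outside its quad is one of the points. -/
theorem exists_Q (P : QuadModel D z a b c d pt) {q : G} (hq : q ∈ Ey D z) (hc' : Commute a q)
    (hne : q ∉ qd D z a) : ∃ t y, Iso y ∧ q = Q pt t y := by
  have hF := P.card
  rw [P.qd_a] at hne
  simp only [Set.mem_insert_iff, Set.mem_singleton_iff, not_or] at hne
  obtain ⟨na, nb, nc, nd⟩ := hne
  obtain ⟨k1, k2, k3⟩ := P.quad.commute_all P.S hq hc'.symm
  obtain ⟨bD, cD, dD, -⟩ := P.quad.tri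
  obtain ⟨w, hw, rfl⟩ := P.surj q ⟨⟨⟨hq.1, na, hc'⟩, hq.1, nb, k1.symm⟩, hq.1, nc, k2.symm⟩
  have h0 : hf w (v0 : Fin 6 → F) = 0 :=
    (P.comm _ _ hw (v0_iso hF)).1 (by rw [P.hd]; exact k3)
  have e := perp_decomp hF h0
  refine ⟨w 0, fun i => w (Fin.natAdd 2 i), ⟨fun h => ?_, ?_⟩, by rw [Q, ← e]⟩
  · rw [h, low_zero, add_zero] at e
    refine nd ?_
    rw [e, P.smul _ _ (v0_iso hF) (fun hk => hw.1 (by rw [e, hk, zero_smul])), P.hd]
  · rw [← hf_comb hF (w 0) (w 0), ← e]; exact hw.2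

omit [Finite G] in
theorem Q_inj (P : QuadModel D z a b c d pt) {t t' : F} {y y' : Fin 4 → F} (hy : Iso y) (hy' : Iso y')
    (h : Q pt t y = Q pt t' y') : ∃ k : F, k ≠ 0 ∧ t' = k * t ∧ y' = k • y := by
  obtain ⟨k, hk, e⟩ := P.inj _ _ (comb_iso P.card t hy) (comb_iso P.card t' hy') h
  rw [smul_add, smul_smul, ← FischerM22.low_smul] at e
  exact ⟨k, hk, comb_inj e⟩

omit [Finite G] in
theorem Q_smul (P : QuadModel D z a b c d pt) (t : F) {y : Fin 4 → F} (hy : Iso y) {k : F} (hk : k ≠ 0) :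
    Q pt (k * t) (k • y) = Q pt t y := by
  rw [Q, Q, FischerM22.low_smul, ← smul_smul, ← smul_add, P.smul _ _ (comb_iso P.card t hy) hk]

omit [Finite G] in
theorem comm_Q (P : QuadModel D z a b c d pt) (t t' : F) {y y' : Fin 4 → F} (hy : Iso y) (hy' : Iso y') :
    Commute (Q pt t y) (Q pt t' y') ↔ hf y y' = 0 := by
  have := P.comm _ _ (comb_iso P.card t hy) (comb_iso P.card t' hy')
  rwa [hf_comb P.card] at this

omit [Finite G] in
theorem Q_ne (P : QuadModel D z a b c d pt) {t t' : F} {y : Fin 4 → F} (hy : Iso y) (hne : t ≠ t') :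
    Q pt t y ≠ Q pt t' y := fun h => by
  obtain ⟨k, -, e1, e2⟩ := P.Q_inj hy hy h
  have : k = 1 := smul_left_injective F hy.1 (show k • y = (1 : F) • y by rw [one_smul, ← e2])
  exact hne (by rw [e1, this, one_mul])

/-- The four points over one vector form a quad. -/
theorem Q_quad (P : QuadModel D z a b c d pt) {y : Fin 4 → F} (hy : Iso y) {ω : F} (hω : ω ^ 2 = ω + 1) :
    Quad D z (Q pt 0 y) (Q pt 1 y) (Q pt ω y) (Q pt (ω ^ 2) y) := by
  have hF := P.card
  have hv := v0_iso hF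
  have hP : OrthPair (low y) (v0 : Fin 6 → F) := by
    have hl : Iso (low y) := by have := comb_iso hF 0 hy; rwa [zero_smul, zero_add] at this
    refine ⟨hl, hv, FischerM22.hf_low_v0 y, fun k e => ?_⟩
    have := congrFun e 0
    rw [Pi.smul_apply, FischerM22.low_zero_apply, FischerM22.v0_zero, smul_eq_mul, mul_zero] at this
    exact one_ne_zero this
  obtain ⟨hprod, -⟩ := P.line hω hP
  have e0 : low y = (0 : F) • (v0 : Fin 6 → F) + low y := by rw [zero_smul, zero_add]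
  have e1 : low y + (v0 : Fin 6 → F) = (1 : F) • v0 + low y := by rw [one_smul, add_comm]
  have e2 : ∀ s : F, low y + s • (v0 : Fin 6 → F) = s • v0 + low y := fun s => add_comm _ _
  rw [linePts, e1, e2, e2] at hprod
  nth_rw 1 [e0] at hprod
  simp only [List.map_cons, List.map_nil, List.prod_cons, List.prod_nil, mul_one, P.hd] at hprod
  have hω1 : ω ≠ 1 := fun e => by
    rw [e] at hω; exact one_ne_zero (show (1 : F) = 0 by linear_combination -hω)
  have hω0 : ω ≠ 0 := fun e => by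
    rw [e] at hω; exact one_ne_zero (show (1 : F) = 0 by linear_combination -hω)
  have hw0 : ω ^ 2 ≠ 0 := pow_ne_zero 2 hω0
  have hw1 : ω ^ 2 ≠ 1 := fun e => hω0 (by linear_combination e - hω)
  have hw2 : ω ^ 2 ≠ ω := fun e => one_ne_zero (show (1 : F) = 0 by linear_combination e - hω)
  have cm : ∀ s s' : F, Commute (Q pt s y) (Q pt s' y) := fun s s' => (P.comm_Q s s' hy hy).2 hy.2
  have ad : ∀ {s s' : F}, s ≠ s' → Q pt s' y ∈ adj D (Q pt s y) := fun {s s'} h =>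
    ⟨(P.Q_Ey s' hy).1.1, (P.Q_ne hy h).symm, cm s s'⟩
  refine ⟨(P.Q_Ey 0 hy).1.1, ad zero_ne_one, ad hω0.symm, ad hw0.symm,
    ⟨(P.Q_Ey 1 hy).1.1, (P.Q_Ey ω hy).1.1, (P.Q_Ey _ hy).1.1, P.Q_ne hy hω1.symm, P.Q_ne hy hw1.symm,
      P.Q_ne hy hw2.symm, cm _ _, cm _ _, cm _ _⟩, ?_⟩
  have hD := P.S.cls.1
  obtain ⟨bD, cD, dD, -⟩ := P.quad.tri
  have hdQ : ∀ s, Commute d (Q pt s y) := fun s => (P.Q_mem s hy).2.1.symm
  rw [P.z_eq, ← hprod]
  change Q pt 0 y * (d * (Q pt 1 y * (Q pt ω y * Q pt (ω ^ 2) y))) * d = _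
  rw [((hdQ 1).mul_right ((hdQ ω).mul_right (hdQ _))).eq]
  simp only [mul_assoc, mul_self hD dD, mul_one]

theorem qd_Q (P : QuadModel D z a b c d pt) (t : F) {y : Fin 4 → F} (hy : Iso y) :
    qd D z (Q pt t y) = Set.range fun s => Q pt s y := by
  have hF := P.card
  obtain ⟨ω, hω0, hω⟩ := exists_omega hF
  have hQ := P.Q_quad hy hω
  have hall : ∀ s : F, s = 0 ∨ s = 1 ∨ s = ω ∨ s = ω ^ 2 := by
    intro s
    by_contra hc
    simp only [not_or] at hc
    obtain ⟨k0, k1, k2, k3⟩ := hc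
    refine k3 ?_
    have h3 := U62Cover.pow_three hF k0
    have : (s - 1) * (s - ω) * (s - ω ^ 2) = 0 := by
      have t2 := two_eq_zero hF
      linear_combination h3 + (s - s ^ 2) * hω + (s - s ^ 2) * (ω + 1) * t2 + (s - 1) * (U62Cover.pow_three hF hω0)
    rcases mul_eq_zero.1 this with h | h
    · rcases mul_eq_zero.1 h with h | h
      exacts [absurd (sub_eq_zero.1 h) k1, absurd (sub_eq_zero.1 h) k2]
    · exact sub_eq_zero.1 h
  have e : (Set.range fun s => Q pt s y) = {Q pt 0 y, Q pt 1 y, Q pt ω y, Q pt (ω ^ 2) y} := by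
    ext x
    constructor
    · rintro ⟨s, rfl⟩
      rcases hall s with rfl | rfl | rfl | rfl <;> simp
    · rintro (rfl | rfl | rfl | rfl) <;> exact ⟨_, rfl⟩
  rw [e, ← qd_eq P.S hQ]
  obtain ⟨r1, r2, r3⟩ := qd_rot P.S hQ
  rcases hall t with rfl | rfl | rfl | rfl
  exacts [rfl, r1, r2, r3]

/-- Conjugation of points by points. -/
theorem conj_Q (P : QuadModel D z a b c d pt) (t t' : F) {y y' : Fin 4 → F} (hy : Iso y) (hy' : Iso y') :
    ∃ s : F, Q pt t y * Q pt t' y' * (Q pt t y)⁻¹ = Q pt s (act (tv P.card y) y') := by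
  obtain ⟨h0, hB⟩ := blockOf_tv P.card hy t
  obtain ⟨k, hk⟩ := hB y'
  refine ⟨t' + k, ?_⟩
  rw [Q, Q, P.self _ (comb_iso P.card t hy) _ (comb_iso P.card t' hy'), act_add, act_smul, h0, hk, ← add_assoc,
    ← add_smul]
  rfl

end QuadModel

end Cfsg.Agent.FourProd
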