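/-
The quads commuting with one member of the centraliser of a product of four commuting members: the 45 points.

Main results (namespace `Cfsg.Agent.FourProd`):
* `Nbr`, `exists_nbr` : the 45 neighbouring quads with their commutation and conjugation tables;
* `QuadModel.nbr` : the same from a given point model.
-/
import Cfsg.Agent.Lib.FischerM24.Four.Model
import Cfsg.Agent.Lib.FischerM24.Four.Check

set_option autoImplicit false

namespace Cfsg.Agent.FourProd

open Cfsg.Agent.SU32 Cfsg.Agent.ThreeTransSU.GensCert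
open Cfsg.Agent.Unitary Cfsg.Agent.U62Cover Cfsg.Agent.ThreeTrans Cfsg.Agent.ThreeTransSU Cfsg.Agent.FischerM24
open Cfsg.Agent.FischerM22 (IsProd Q)
open Cfsg.Agent.PrimeNorm24 (Quad Ey quad_decomp)
open Tab

variable {G : Type*} [Group G] {D : Set G}

/-- The 45 quads commuting with the member `a`. -/
structure Nbr (D : Set G) (z a : G) (n : Fin 45 → G) : Prop where
  S : Fi24Setup D
  hz : IsProd D 4 z
  ha : a ∈ Ey D z
  mem : ∀ i, n i ∈ Ey D z
  comm_a : ∀ i, Commute a (n i)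
  out : ∀ i, n i ∉ qd D z a
  surj : ∀ q ∈ Ey D z, Commute a q → q ∉ qd D z a → ∃ i, qd D z q = qd D z (n i)
  inj : ∀ i j, qd D z (n i) = qd D z (n j) → i = j
  comm : ∀ i j, Commute (n i) (n j) ↔ (i = j ∨ nbB i j = true)
  conj : ∀ i j, qd D z (n i * n j * (n i)⁻¹) = qd D z (n (tI i j))

variable {F : Type*} [Field F] [Fintype F]

/-- The coordinates of a point. -/
def yv (e : K4 ≃+* F) (i : Fin 45) : Fin 4 → F := fun k => e (vec 4 (pnt i) k)

theorem e_ne_zero (e : K4 ≃+* F) {c : K4} (h : c ∈ [K4.o, K4.w, K4.w2]) : e c ≠ 0 := fun h0 => by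
  have := e.injective (h0.trans (map_zero e).symm)
  subst this
  revert h
  decide

omit [Fintype F] in
theorem e_vec_eq (e : K4 ≃+* F) {c : K4} {l l' : List K4} (h : l = smulL 4 c l') :
    (fun k => e (vec 4 l k)) = e c • fun k => e (vec 4 l' k) := by
  subst h
  funext k
  simp only [smulL, vec_ofFn, map_mul, Pi.smul_apply, smul_eq_mul]

theorem yv_iso (e : K4 ≃+* F) (i : Fin 45) : Iso (yv e i) := by
  obtain ⟨h1, h2⟩ := pts_iso i
  refine ⟨fun h => h2 (funext fun k => e.injective ((congrFun h k).trans (map_zero e).symm)), ?_⟩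
  unfold yv
  rw [hf_map e, show Cfsg.hermForm 4 K4 2 _ _ = (0 : K4) from h1, map_zero]

theorem yv_hf (e : K4 ≃+* F) (i j : Fin 45) : hf (yv e i) (yv e j) = 0 ↔ (i = j ∨ nbB i j = true) := by
  unfold yv
  rw [hf_map e, ← nb_spec i j]
  exact ⟨fun h => e.injective (h.trans (map_zero e).symm),
    fun h => by rw [show Cfsg.hermForm 4 K4 2 _ _ = (0 : K4) from h, map_zero]⟩

theorem yv_cover (e : K4 ≃+* F) {y : Fin 4 → F} (hy : Iso y) : ∃ i, ∃ k : F, k ≠ 0 ∧ y = k • yv e i := by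
  set x : Fin 4 → K4 := fun k => e.symm (y k)
  have hxy : y = fun k => e (x k) := funext fun k => (e.apply_symm_apply _).symm
  have h0 : hk 4 (List.ofFn x) (List.ofFn x) = .z := by
    refine e.injective ?_
    rw [hk, vec_ofFn, ← hf_map e, ← hxy, hy.2]
    exact (map_zero e).symm
  rcases pts_cover _ (ofFn_mem 4 x) h0 with h | ⟨i, c, hc, h⟩
  · refine absurd ?_ hy.1
    rw [hxy]
    funext k
    rw [show x k = (0 : K4) from congrFun ((vec_ofFn x).symm.trans h) k, map_zero]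
    rfl
  · refine ⟨i, e c, e_ne_zero e hc, ?_⟩
    rw [hxy]
    have := e_vec_eq e h
    rwa [vec_ofFn] at this

theorem yv_tv (hF : Fintype.card F = 4) (e : K4 ≃+* F) (i j : Fin 45) :
    ∃ k : F, k ≠ 0 ∧ act (tv hF (yv e i)) (yv e j) = k • yv e (tI i j) := by
  obtain ⟨c, hc, h⟩ := tI_spec i j
  refine ⟨e c, e_ne_zero e hc, ?_⟩
  rw [act_tv hF (yv_iso e i).2, show yv e (tI i j) = fun k => e (vec 4 (pnt (tI i j)) k) from rfl, ← e_vec_eq e h]
  funext k
  simp only [GensCert.refl, vec_ofFn, Pi.add_apply, Pi.smul_apply, smul_eq_mul, map_add, map_mul]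
  unfold yv
  rw [hf_map e]
  rfl

theorem yv_inj (e : K4 ≃+* F) {i j : Fin 45} {k : F} (hk0 : k ≠ 0) (h : yv e j = k • yv e i) : j = i := by
  obtain ⟨c, rfl⟩ := e.surjective k
  have hc : c ∈ [K4.o, K4.w, K4.w2] := by
    cases c
    · exact absurd (map_zero e) hk0
    all_goals decide
  refine pts_inj j i c hc ?_
  have h2 : vec 4 (pnt j) = fun m => c * vec 4 (pnt i) m := funext fun m => e.injective (by
    rw [map_mul]; exact congrFun h m)
  have hl : ∀ l : Fin 45, pnt l = List.ofFn (vec 4 (pnt l)) := by decide +kernel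
  rw [hl j, h2]
  rfl

variable [Finite G]

theorem QuadModel.nbr {z a b c d : G} {pt : (Fin 6 → F) → G} (P : QuadModel D z a b c d pt) (e : K4 ≃+* F) :
    Nbr D z a fun i => Q pt 0 (yv e i) := by
  have hF := P.card
  have hy := yv_iso e
  refine ⟨P.S, P.hz, P.quad.mem_Ey, fun i => (P.Q_Ey 0 (hy i)).1, fun i => (P.Q_Ey 0 (hy i)).2.2.2, fun i h => ?_,
    fun q hq hc hne => ?_, fun i j h => ?_, fun i j => (P.comm_Q 0 0 (hy i) (hy j)).trans (yv_hf e i j),
    fun i j => ?_⟩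
  · rw [P.qd_a] at h
    obtain ⟨⟨⟨h1, h2⟩, h3⟩, -, h4⟩ := P.Q_mem 0 (hy i)
    rcases h with h | h | h | h
    exacts [h1.2.1 h, h2.2.1 h, h3.2.1 h, h4 h]
  · obtain ⟨t, y, hy', rfl⟩ := P.exists_Q hq hc hne
    obtain ⟨i, k, hk, rfl⟩ := yv_cover e hy'
    refine ⟨i, ?_⟩
    rw [show t = k * (k⁻¹ * t) by rw [mul_inv_cancel_left₀ hk], P.Q_smul _ (hy i) hk, P.qd_Q _ (hy i),
      P.qd_Q _ (hy i)]
  · have : Q pt 0 (yv e i) ∈ qd D z (Q pt 0 (yv e j)) := h ▸ self_mem_qd z _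
    rw [P.qd_Q _ (hy j)] at this
    obtain ⟨s, hs⟩ := this
    obtain ⟨k, hk, -, e'⟩ := P.Q_inj (hy j) (hy i) hs
    exact yv_inj e hk e'
  · obtain ⟨s, hs⟩ := P.conj_Q 0 0 (hy i) (hy j)
    obtain ⟨k, hk, hk'⟩ := yv_tv hF e i j
    rw [hs, hk', show s = k * (k⁻¹ * s) by rw [mul_inv_cancel_left₀ hk], P.Q_smul _ (hy _) hk,
      P.qd_Q _ (hy _), P.qd_Q _ (hy _)]

theorem exists_nbr (S : Fi24Setup D) {z a : G} (hz : IsProd D 4 z) (ha : a ∈ Ey D z) : ∃ n, Nbr D z a n := by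
  obtain ⟨F, _, _, b, c, d, pt, P⟩ := exists_quadModel S hz ha
  exact ⟨_, P.nbr (FiniteField.ringEquivOfCardEq (P.card ▸ K4.card_eq))⟩

namespace Nbr

variable {z a : G} {n : Fin 45 → G}

theorem comm_qd (N : Nbr D z a n) {p q : G} {i j : Fin 45} (hp : qd D z p = qd D z (n i))
    (hq : qd D z q = qd D z (n j)) : Commute p q ↔ (i = j ∨ nbB i j = true) :=
  (commute_iff_of_qd N.S N.hz (N.mem i) (N.mem j) hp hq).trans (N.comm i j)

theorem conj_qd (N : Nbr D z a n) {p q : G} {i j : Fin 45} (hp : qd D z p = qd D z (n i))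
    (hq : qd D z q = qd D z (n j)) : qd D z (p * q * p⁻¹) = qd D z (n (tI i j)) :=
  (qd_ref_both N.S N.hz (N.mem j) (N.mem i) hq hp).trans (N.conj i j)

omit [Finite G] in
theorem ne_qd (N : Nbr D z a n) (i : Fin 45) : qd D z (n i) ≠ qd D z a := fun h =>
  N.out i (h ▸ self_mem_qd z _)

theorem noncomm_of_ne (N : Nbr D z a n) {i j : Fin 45} (h1 : i ≠ j) (h2 : nbB i j = false) :
    ¬ Commute (n i) (n j) := fun h => by
  rcases (N.comm i j).1 h with h | h
  exacts [h1 h, by rw [h2] at h; exact Bool.noConfusion h]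

theorem nb_of_comm (N : Nbr D z a n) {i j : Fin 45} (h1 : i ≠ j) (h : Commute (n i) (n j)) : nbB i j = true :=
  ((N.comm i j).1 h).resolve_left h1

end Nbr

end Cfsg.Agent.FourProd
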