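/-
An element fixing all 126 quads acts linearly on each of them.

Main results (namespace `Cfsg.Agent.FourProd`):
* `fixK` : the elements of the centraliser fixing every quad;
* `QuadModel.shift_pair` : two members of a neighbouring quad translate the others;
* `QuadModel.affine` : an element of `fixK` acts on a neighbouring quad as `t ↦ c t + r`;
* `fix_two` : so it fixes a quad pointwise if it fixes two members of it.
-/
import Cfsg.Agent.Lib.FischerM24.Four.Local

set_option autoImplicit false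
set_option maxRecDepth 100000

namespace Cfsg.Agent.FourProd

open Cfsg.Agent.SU32 Cfsg.Agent.ThreeTransSU.GensCert
open Cfsg.Agent.Unitary Cfsg.Agent.U62Cover Cfsg.Agent.ThreeTrans Cfsg.Agent.ThreeTransSU Cfsg.Agent.FischerM24
open Cfsg.Agent.FischerM22 (IsProd Q v0 low v0_iso comb_iso hf_comb)
open Cfsg.Agent.PrimeNorm24 (Quad Ey quad_decomp)
open Tab

/-- Every point lies in a triangle of non-collinear points whose invariant is not 1. -/
theorem tri_point : ∀ i : Fin 45, ((List.finRange 45).any fun j => (List.finRange 45).any fun l =>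
    decide (hk 4 (pnt i) (pnt j) * hk 4 (pnt j) (pnt l) * hk 4 (pnt l) (pnt i) ≠ K4.z ∧
      hk 4 (pnt i) (pnt j) * hk 4 (pnt j) (pnt l) * hk 4 (pnt l) (pnt i) ≠ K4.o)) = true := by decide +kernel

variable {G : Type*} [Group G] [Finite G] {D : Set G}

/-- The elements of the centraliser of `z` that fix every quad. -/
def fixK (S : Fi24Setup D) (z : G) : Subgroup G where
  carrier := {g | Commute g z ∧ ∀ q ∈ Ey D z, qd D z (g * q * g⁻¹) = qd D z q}
  one_mem' := ⟨Commute.one_left z, fun q _ => by simp⟩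
  mul_mem' := by
    rintro g h ⟨g1, g2⟩ ⟨h1, h2⟩
    refine ⟨g1.mul_left h1, fun q hq => ?_⟩
    rw [show g * h * q * (g * h)⁻¹ = g * (h * q * h⁻¹) * g⁻¹ by group, g2 _ (Ey_conj S h1 hq), h2 q hq]
  inv_mem' := by
    rintro g ⟨g1, g2⟩
    refine ⟨g1.inv_left, fun q hq => ?_⟩
    have h := g2 _ (Ey_conj S g1.inv_left hq)
    rw [inv_inv] at h ⊢
    rw [show g * (g⁻¹ * q * g) * g⁻¹ = q by group] at h
    exact h.symm

namespace QuadModel

variable {F : Type*} [Field F] [Fintype F] {z a b c d : G} {pt : (Fin 6 → F) → G}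

omit [Finite G] in
/-- Two members of a quad translate the other neighbouring quads. -/
theorem shift_pair (P : QuadModel D z a b c d pt) (t u v : F) {y y' : Fin 4 → F} (hy : Iso y) (hy' : Iso y') :
    Q pt u y' * Q pt v y' * Q pt t y * (Q pt u y' * Q pt v y')⁻¹ = Q pt (t + (u + v) * hf y y') y := by
  have hF := P.card
  have hv := comb_iso hF v hy'
  have hu := comb_iso hF u hy'
  have hx := comb_iso hF t hy
  rw [show ∀ p q r : G, p * q * r * (p * q)⁻¹ = p * (q * r * q⁻¹) * p⁻¹ from fun p q r => by group]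
  simp only [Q]
  rw [P.self _ hv _ hx, P.self _ hu _ (hx.act _)]
  congr 1
  rw [act_tv hF hu.2, act_tv hF hv.2, hf_comb hF, hf_add_left hF, hf_smul_left hF, hf_comb hF, hf_comb hF, hy'.2,
    mul_zero, add_zero]
  funext k
  simp only [Pi.add_apply, Pi.smul_apply, smul_eq_mul]
  linear_combination hf y y' * low y' k * two_eq_zero hF

/-- An element fixing every quad acts linearly on the neighbouring ones. -/
theorem affine (P : QuadModel D z a b c d pt) {g : G} (hg : g ∈ fixK P.S z) (e : K4 ≃+* F) (i : Fin 45) :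
    ∃ k r : F, k ≠ 0 ∧ ∀ t, g * Q pt t (yv e i) * g⁻¹ = Q pt (k * t + r) (yv e i) := by
  classical
  have hF := P.card
  have hY := yv_iso e
  have hex : ∀ (j : Fin 45) (t : F), ∃ t', g * Q pt t (yv e j) * g⁻¹ = Q pt t' (yv e j) := fun j t => by
    have h : g * Q pt t (yv e j) * g⁻¹ ∈ qd D z (Q pt t (yv e j)) := by
      rw [← hg.2 _ (P.Q_Ey t (hY j)).1]; exact self_mem_qd z _
    rw [P.qd_Q t (hY j)] at h
    obtain ⟨s, hs⟩ := h
    exact ⟨s, hs.symm⟩
  choose π hπ using hex
  have inj : ∀ (j : Fin 45) {s s' : F}, Q pt s (yv e j) = Q pt s' (yv e j) → s = s' := fun j {s s'} h => by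
    by_contra hne
    exact P.Q_ne (hY j) hne h
  have hadd : ∀ x : F, x + x = 0 := fun x => add_self hF x
  have step : ∀ (j l : Fin 45) (t u v : F), π j (t + (u + v) * hf (yv e j) (yv e l)) =
      π j t + (π l u + π l v) * hf (yv e j) (yv e l) := by
    intro j l t u v
    refine inj j ?_
    rw [← hπ, ← P.shift_pair t u v (hY j) (hY l), ← P.shift_pair (π j t) (π l u) (π l v) (hY j) (hY l),
      ← hπ l u, ← hπ l v, ← hπ j t]
    group
  set L : Fin 45 → F → F := fun j u => π j u + π j 0 with hL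
  have hLh : ∀ (j l : Fin 45) (u : F), L j (u * hf (yv e j) (yv e l)) = L l u * hf (yv e j) (yv e l) := fun j l u => by
    have h := step j l 0 u 0
    rw [add_zero, zero_add] at h
    simp only [hL]
    rw [h]
    linear_combination hadd (π j 0)
  obtain ⟨j, l, hp0, hp1⟩ : ∃ j l, hf (yv e i) (yv e j) * hf (yv e j) (yv e l) * hf (yv e l) (yv e i) ≠ 0 ∧
      hf (yv e i) (yv e j) * hf (yv e j) (yv e l) * hf (yv e l) (yv e i) ≠ 1 := by
    have h := tri_point i
    simp only [List.any_eq_true, decide_eq_true_eq] at h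
    obtain ⟨j, -, l, -, h1, h2⟩ := h
    refine ⟨j, l, ?_⟩
    unfold yv
    rw [hf_map e, hf_map e, hf_map e, ← map_mul, ← map_mul]
    exact ⟨fun h0 => h1 (e.injective (h0.trans (map_zero e).symm)),
      fun h0 => h2 (e.injective (h0.trans (map_one e).symm))⟩
  set h1 := hf (yv e i) (yv e j)
  set h2 := hf (yv e j) (yv e l)
  set h3 := hf (yv e l) (yv e i)
  set p := h1 * h2 * h3 with hp
  have hh1 : h1 ≠ 0 := fun h0 => hp0 (by rw [hp, h0]; ring)
  have hscal : ∀ u, L i (u * p) = L i u * p := fun u => by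
    rw [show u * p = (u * h3 * h2) * h1 by rw [hp]; ring, hLh i j, hLh j l, hLh l i, hp]
    ring
  have htrans : ∀ t u, π i (t + u) = π i t + L i u := fun t u => by
    have h := step i j t (u / h1) 0
    rw [add_zero, div_mul_cancel₀ u hh1] at h
    rw [h, ← hLh i j, div_mul_cancel₀ u hh1]
  have h0 : L i 0 = 0 := hadd _
  have hlin : ∀ t, L i t = t * L i 1 := by
    intro t
    rcases eq_or_ne t 0 with rfl | ht
    · rw [zero_mul, h0]
    have hp3 := U62Cover.pow_three hF hp0
    have ht3 := U62Cover.pow_three hF ht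
    have : t = 1 ∨ t = p ∨ t = p * p := by
      have hq : p * p + p + 1 = 0 := by
        have : (p - 1) * (p * p + p + 1) = 0 := by linear_combination hp3
        exact (mul_eq_zero.1 this).resolve_left (sub_ne_zero.2 hp1)
      by_contra hc
      simp only [not_or] at hc
      refine absurd ?_ (mul_ne_zero (mul_ne_zero (sub_ne_zero.2 hc.1) (sub_ne_zero.2 hc.2.1)) (sub_ne_zero.2 hc.2.2))
      linear_combination ht3 - hp3 + (t * p - t * t) * hq
    rcases this with rfl | rfl | rfl
    · rw [one_mul]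
    · have := hscal 1
      rw [one_mul] at this
      rw [this, mul_comm]
    · have h1' := hscal 1
      rw [one_mul] at h1'
      rw [hscal p, h1']
      ring
  refine ⟨L i 1, π i 0, fun hz0 => ?_, fun t => ?_⟩
  · have hinj := htrans 0 1
    rw [zero_add, hz0, add_zero] at hinj
    refine one_ne_zero (inj i (conj_inj g ?_))
    rw [hπ, hπ, hinj]
  · rw [hπ, show π i t = L i 1 * t + π i 0 by
      have := htrans 0 t
      rw [zero_add] at this
      rw [this, hlin t]
      ring]

end QuadModel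

/-- An element fixing every quad and two members of one fixes all four. -/
theorem fix_two (S : Fi24Setup D) {z a b c d g : G} (Q : Quad D z a b c d) (hz : IsProd D 4 z)
    (hg : g ∈ fixK S z) (ha : g * a * g⁻¹ = a) (hb : g * b * g⁻¹ = b) :
    g * c * g⁻¹ = c ∧ g * d * g⁻¹ = d := by
  obtain ⟨m, M⟩ := exists_nbr S hz Q.mem_Ey
  obtain ⟨F, _, _, b', c', d', pt, P⟩ := exists_quadModel S hz (M.mem ⟨0, by norm_num⟩)
  have e : K4 ≃+* F := FiniteField.ringEquivOfCardEq (P.card ▸ K4.card_eq)
  have hout : a ∉ qd D z (m ⟨0, by norm_num⟩) := fun h => M.ne_qd _ (qd_same S h).symm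
  obtain ⟨i, hi⟩ := (P.nbr e).surj a Q.mem_Ey (M.comm_a _).symm hout
  rw [P.qd_Q 0 (yv_iso e i)] at hi
  obtain ⟨k, r, hk, hall⟩ := P.affine hg e i
  have mem : ∀ x ∈ ({a, b, c, d} : Set G), ∃ t, x = FischerM22.Q pt t (yv e i) := fun x hx => by
    rw [← qd_eq S Q, hi] at hx
    obtain ⟨t, ht⟩ := hx
    exact ⟨t, ht.symm⟩
  obtain ⟨t, rfl⟩ := mem a (Or.inl rfl)
  obtain ⟨t', rfl⟩ := mem b (Or.inr (Or.inl rfl))
  have inj : ∀ {s s' : F}, FischerM22.Q pt s (yv e i) = FischerM22.Q pt s' (yv e i) → s = s' := fun {s s'} h => by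
    by_contra hne
    exact P.Q_ne (yv_iso e i) hne h
  have e1 := inj ((hall t).symm.trans ha)
  have e2 := inj ((hall t').symm.trans hb)
  have hne : t ≠ t' := fun h => Q.hb.2.1 (by rw [h])
  have hk1 : k = 1 := by
    have : (k - 1) * (t - t') = 0 := by linear_combination e1 - e2
    exact sub_eq_zero.1 ((mul_eq_zero.1 this).resolve_right (sub_ne_zero.2 hne))
  have hr : r = 0 := by rw [hk1] at e1; linear_combination e1
  have fixed : ∀ x ∈ ({FischerM22.Q pt t (yv e i), FischerM22.Q pt t' (yv e i), c, d} : Set G),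
      g * x * g⁻¹ = x := fun x hx => by
    obtain ⟨s, rfl⟩ := mem x hx
    rw [hall, hk1, hr, one_mul, add_zero]
  exact ⟨fixed c (by simp), fixed d (by simp)⟩

end Cfsg.Agent.FourProd
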