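/-
The kernel of the action on the 126 quads has order 2^13 · 3.

Main results (namespace `Cfsg.Agent.FourProd`):
* `Coords.ker_map` : the kernel is `fixK`;
* `QuadModel.four_le` : at most 2^11 of its elements fix the first quad pointwise;
* `Coords.ker_card`, `Coords.range_card` : the orders of kernel and image.
-/
import Cfsg.Agent.Lib.FischerM24.Four.Action
import Cfsg.Agent.Lib.FischerM24.Four.Affine

set_option autoImplicit false

namespace Cfsg.Agent.FourProd

open Cfsg.Agent.SU32 Cfsg.Agent.ThreeTransSU.GensCert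
open Cfsg.Agent.Unitary Cfsg.Agent.U62Cover Cfsg.Agent.ThreeTrans Cfsg.Agent.ThreeTransSU Cfsg.Agent.FischerM24
open Cfsg.Agent.FischerM22 (IsProd IsTriple Q v0 low v0_iso comb_iso lowerHom act_lowerHom)
open Cfsg.Agent.PrimeNorm (orbit_single)
open Cfsg.Agent.PrimeNorm24 (Quad Ey quad_decomp IsQuad)
open Tab

variable {G : Type*} [Group G] [Finite G] {D : Set G} {z a b c d : G} {n : Fin 45 → G} {e : Fin 40 → G}

namespace Coords

theorem ker_map (C : Coords D z a n e) : C.psi.ker.map (Subgroup.centralizer ({z} : Set G)).subtype = fixK C.N.S z := by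
  have S := C.N.S
  have hz := C.N.hz
  ext g
  constructor
  · rintro ⟨k, hk, rfl⟩
    refine ⟨cent_commute k.2, fun q hq => ?_⟩
    obtain ⟨p, hp⟩ := C.nd_cover hq
    show qd D z ((k : G) * q * (k : G)⁻¹) = qd D z q
    rw [qd_conj S hz (cent_commute k.2) (C.nd_mem p) hp, C.psi_spec k p, show C.psi k = 1 from hk, Equiv.Perm.coe_one,
      id_eq, hp]
  · intro hg
    refine ⟨⟨g, cent_of_commute hg.1⟩, Equiv.ext fun p => ?_, rfl⟩
    rw [Equiv.Perm.coe_one, id_eq]
    exact C.psi_eq _ (hg.2 _ (C.nd_mem p))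

theorem ker_card_eq (C : Coords D z a n e) : Nat.card C.psi.ker = Nat.card ↥(fixK C.N.S z) := by
  rw [← C.ker_map]
  exact Nat.card_congr (C.psi.ker.equivMapOfInjective _ (Subgroup.subtype_injective _)).toEquiv

/-- `a` moves some quad. -/
theorem a_not_fix (C : Coords D z a n e) : a ∉ fixK C.N.S z := fun h =>
  qd_conj_ne C.N.S C.N.hz (C.mem k00) C.N.ha (C.far k00) (h.2 _ (C.mem k00))

end Coords

namespace QuadModel

variable {F : Type*} [Field F] [Fintype F] {pt : (Fin 6 → F) → G}

/-- At most `2^11` of the elements fixing every quad fix the first one pointwise. -/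
theorem four_le (P : QuadModel D z a b c d pt) :
    Nat.card ↥(fixK P.S z ⊓ (Subgroup.centralizer ({a} : Set G) ⊓ Subgroup.centralizer {b} ⊓
      Subgroup.centralizer {c} ⊓ Subgroup.centralizer {d})) ≤ 2048 := by
  classical
  have S := P.S
  have hz := P.hz
  have hF := P.card
  set H := Subgroup.centralizer ({a} : Set G) ⊓ Subgroup.centralizer {b} ⊓ Subgroup.centralizer {c} ⊓
      Subgroup.centralizer {d} with hH
  set K := fixK P.S z
  have hcard : Nat.card ↥H = 106168320 :=
    PrimeNorm24.cent_four_card S (t := z) ⟨P.quad.ha, P.quad.hb, P.quad.hc, P.quad.hd, P.quad.tri, P.quad.eq⟩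
  have e := (FiniteField.ringEquivOfCardEq (P.card ▸ K4.card_eq) : K4 ≃+* F)
  obtain ⟨m, C⟩ := exists_coords (P.nbr e)
  obtain ⟨bD, cD, dD, n1, n2, n3, c1, c2, c3⟩ := P.quad.tri
  have mk : ∀ {g : G}, Commute g a → Commute g b → Commute g c → Commute g d → g ∈ H := fun h1 h2 h3 h4 =>
    ⟨⟨⟨cent_of_commute h1, cent_of_commute h2⟩, cent_of_commute h3⟩, cent_of_commute h4⟩
  have hHz : ∀ {g : G}, g ∈ H → Commute g z := fun {g} hg => by
    rw [P.z_eq]
    exact ((((cent_commute hg.1.1.1).mul_right (cent_commute hg.1.1.2)).mul_right (cent_commute hg.1.2)).mul_right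
      (cent_commute hg.2))
  have haH : a ∈ H := mk (Commute.refl a) P.quad.hb.2.2 P.quad.hc.2.2 P.quad.hd.2.2
  have hlift : ∀ B : Cfsg.SU 4 F 2, ∃ k ∈ H, ∀ (t : F) (y : Fin 4 → F), Iso y →
      k * Q pt t y * k⁻¹ = Q pt t (act B y) := by
    intro B
    obtain ⟨k, ⟨h1, h2, h3⟩, hk⟩ := P.realise (lowerHom B)
    have hv := (FischerM22.blockOf_lowerHom B).1
    refine ⟨k, mk h1 h2 h3 ?_, fun t y hy => ?_⟩
    · have := hk _ (v0_iso hF)
      rw [hv, P.hd] at this
      exact commute_of_conj this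
    · have hl : act (lowerHom B) (low y) = low (act B y) := act_lowerHom B _ _
      rw [Q, Q, hk _ (comb_iso hF t hy), act_add, act_smul, hv, hl]
  choose kB hkB hact using hlift
  let f : Cfsg.SU 4 F 2 × Bool → ↥H ⧸ K.subgroupOf H := fun r =>
    QuotientGroup.mk ⟨kB r.1 * (if r.2 then a else 1), mul_mem (hkB r.1) (by split_ifs; exacts [haH, one_mem H])⟩
  have hf : Function.Injective f := by
    rintro ⟨B, s⟩ ⟨B', s'⟩ h
    rw [QuotientGroup.eq, Subgroup.mem_subgroupOf] at h
    simp only [Subgroup.coe_mul, Subgroup.coe_inv] at h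
    set u : G := if s then a else 1 with hu
    set u' : G := if s' then a else 1 with hu'
    have hsame : ∀ q ∈ Ey D z, qd D z (kB B * u * q * (kB B * u)⁻¹) = qd D z (kB B' * u' * q * (kB B' * u')⁻¹) := by
      intro q hq
      have hgz : Commute (kB B * u) z := hHz (mul_mem (hkB B) (by rw [hu]; split_ifs; exacts [haH, one_mem H]))
      have hkz := h.1
      have h2 := h.2 q hq
      have := qd_conj S hz hgz hq h2
      rw [show kB B * u * ((kB B * u)⁻¹ * (kB B' * u') * q * ((kB B * u)⁻¹ * (kB B' * u'))⁻¹) * (kB B * u)⁻¹ =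
        kB B' * u' * q * (kB B' * u')⁻¹ by group] at this
      exact this.symm
    have hBB : B = B' := by
      have hcen : B⁻¹ * B' ∈ Subgroup.center (Cfsg.SU 4 F 2) := by
        refine FischerM22.central_of_fix hF le_rfl fun y hy => ?_
        have hq := hsame _ (P.Q_Ey 0 hy).1
        have huy : ∀ w : G, (w = a ∨ w = 1) → w * Q pt 0 y * w⁻¹ = Q pt 0 y := by
          rintro w (rfl | rfl)
          · exact conj_of_commute (P.Q_Ey 0 hy).2.2.2
          · group
        have e1 : ∀ (B : Cfsg.SU 4 F 2) (w : G), (w = a ∨ w = 1) →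
            kB B * w * Q pt 0 y * (kB B * w)⁻¹ = Q pt 0 (act B y) := fun B w hw => by
          rw [show kB B * w * Q pt 0 y * (kB B * w)⁻¹ = kB B * (w * Q pt 0 y * w⁻¹) * (kB B)⁻¹ by group,
            huy w hw, hact B 0 y hy]
        rw [e1 B u (by rw [hu]; split_ifs <;> simp), e1 B' u' (by rw [hu']; split_ifs <;> simp)] at hq
        have hmem : Q pt 0 (act B' y) ∈ qd D z (Q pt 0 (act B y)) := hq ▸ self_mem_qd z _
        rw [P.qd_Q 0 (hy.act B)] at hmem
        obtain ⟨t, ht⟩ := hmem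
        obtain ⟨k, hk, -, hk'⟩ := P.Q_inj (hy.act B) (hy.act B') ht
        exact ⟨k, hk, by rw [act_mul, hk', act_smul, act_inv_act]⟩
      rw [FischerM22.center_SU4 hF, Subgroup.mem_bot, inv_mul_eq_one] at hcen
      exact hcen
    subst hBB
    refine Prod.ext rfl ?_
    rw [show (kB B * u)⁻¹ * (kB B * u') = u⁻¹ * u' by group, hu, hu'] at h
    cases s <;> cases s' <;> simp at h ⊢
    · exact C.a_not_fix h
    · exact C.a_not_fix h
  have hidx : 51840 ≤ (K.subgroupOf H).index := by
    have := Nat.card_le_card_of_injective f hf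
    rwa [Nat.card_prod, FischerM22.card_SU4 hF, Nat.card_eq_fintype_card (α := Bool), Fintype.card_bool] at this
  have hmul := Subgroup.card_mul_index (K.subgroupOf H)
  have hK' : Nat.card ↥(K ⊓ H) = Nat.card ↥(K.subgroupOf H) := by
    rw [← Subgroup.inf_subgroupOf_right K H]
    exact Nat.card_congr (Subgroup.subgroupOfEquivOfLe inf_le_right).toEquiv.symm
  rw [hK']
  rw [hcard] at hmul
  have := Nat.mul_le_mul_left (Nat.card ↥(K.subgroupOf H)) hidx
  omega

end QuadModel

theorem orbit_le (H : Subgroup G) (x : G) (T : Set G) (hT : ∀ g ∈ H, g * x * g⁻¹ ∈ T) :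
    Nat.card ↥H ≤ T.ncard * Nat.card ↥(H ⊓ Subgroup.centralizer ({x} : Set G)) := by
  rw [orbit_single H x (O := {y | ∃ g ∈ H, g * x * g⁻¹ = y}) fun y => Iff.rfl]
  exact Nat.mul_le_mul_right _ (Set.ncard_le_ncard (by rintro _ ⟨g, hg, rfl⟩; exact hT g hg) (Set.toFinite _))

/-- The elements fixing every quad number at most `2^13 · 3`. -/
theorem fixK_le (S : Fi24Setup D) (hz : IsProd D 4 z) (ha : a ∈ Ey D z) : Nat.card ↥(fixK S z) ≤ 2 ^ 13 * 3 := by
  obtain ⟨F, _, _, b, c, d, pt, P⟩ := exists_quadModel S hz ha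
  have hq : qd D z a = {a, b, c, d} := P.qd_a
  have h4 : ({a, b, c, d} : Set G).ncard = 4 := hq ▸ qd_ncard S hz ha
  obtain ⟨-, -, -, n1, n2, n3, -⟩ := P.quad.tri
  have hmem : ∀ {g}, g ∈ fixK S z → ∀ x ∈ ({a, b, c, d} : Set G), g * x * g⁻¹ ∈ ({a, b, c, d} : Set G) := by
    intro g hg x hx
    rw [← hq] at hx ⊢
    have := hg.2 x (qd_mem S ha hx)
    rw [qd_same S hx] at this
    exact this ▸ self_mem_qd z _
  have h1 := orbit_le (fixK S z) a _ fun g hg => hmem hg a (Or.inl rfl)
  have h2 := orbit_le (fixK S z ⊓ Subgroup.centralizer ({a} : Set G)) b {b, c, d} fun g hg => by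
    rcases hmem hg.1 b (Or.inr (Or.inl rfl)) with h | h
    · exact absurd (conj_inj g (h.trans (conj_of_commute (cent_commute hg.2)).symm)) P.quad.hb.2.1
    · exact h
  rw [h4] at h1
  rw [Set.ncard_eq_three.2 ⟨b, c, d, n1, n2, n3, rfl⟩] at h2
  have hle : fixK S z ⊓ Subgroup.centralizer ({a} : Set G) ⊓ Subgroup.centralizer {b} ≤
      fixK P.S z ⊓ (Subgroup.centralizer ({a} : Set G) ⊓ Subgroup.centralizer {b} ⊓
        Subgroup.centralizer {c} ⊓ Subgroup.centralizer {d}) := by
    rintro g ⟨⟨hg, ga⟩, gb⟩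
    obtain ⟨h3, h4⟩ := fix_two S P.quad hz hg (conj_of_commute (cent_commute ga)) (conj_of_commute (cent_commute gb))
    exact ⟨hg, ⟨⟨ga, gb⟩, cent_of_commute (commute_of_conj h3)⟩, cent_of_commute (commute_of_conj h4)⟩
  have h5 := (Nat.card_le_card_of_injective _ (Subgroup.inclusion_injective hle)).trans P.four_le
  omega

namespace Coords

/-- The kernel of the action has order `2^13 · 3`. -/
theorem fixK_card (C : Coords D z a n e) : Nat.card ↥(fixK C.N.S z) = 2 ^ 13 * 3 :=
  le_antisymm (fixK_le C.N.S C.N.hz C.N.ha) (C.ker_card_eq ▸ C.ker_ge)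

theorem ker_card (C : Coords D z a n e) : Nat.card C.psi.ker = 2 ^ 13 * 3 := C.ker_card_eq.trans C.fixK_card

theorem range_card (C : Coords D z a n e) : Nat.card C.psi.range = 13063680 := by
  have h := C.ker_mul_range
  rw [C.ker_card] at h
  omega

end Coords

end Cfsg.Agent.FourProd
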