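/-
The group generated by the products of two members of one quad.

Main results (namespace `Cfsg.Agent.FourProd`):
* `pairs`, `qq` : the products of two members of one quad and the subgroup they generate;
* `qq_le`, `qq_conj`, `qq_even` : it lies in the kernel and in the commutator subgroup, normal in `C(z)`;
* `qq_comm`, `qq_sq` : commutators and squares lie in `{1, z}`;
* `cent_qq` : only `1` and `z` in `C(z)` commute with all of it.
-/
import Cfsg.Agent.Lib.FischerM24.Four.Kernel
import Cfsg.Agent.Lib.FischerM22.Stab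

set_option autoImplicit false

namespace Cfsg.Agent.FourProd

open Cfsg.Agent.Unitary Cfsg.Agent.U62Cover Cfsg.Agent.ThreeTrans Cfsg.Agent.ThreeTransSU Cfsg.Agent.FischerM24
open Cfsg.Agent.FischerM22 (IsProd Q v0 low v0_iso comb_iso comb_inj low_smul low_add exists_scalar)
open Cfsg.Agent.PrimeNorm24 (Quad Ey quad_decomp)
open scoped commutatorElement

variable {G : Type*} [Group G] {D : Set G} {z a b c d : G}

/-- Products of two members of one quad. -/
def pairs (D : Set G) (z : G) : Set G := {g | ∃ p ∈ Ey D z, ∃ q ∈ qd D z p, g = p * q}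

/-- The group they generate. -/
def qq (D : Set G) (z : G) : Subgroup G := Subgroup.closure (pairs D z)

theorem pair_mem {p q : G} (hp : p ∈ Ey D z) (hq : q ∈ qd D z p) : p * q ∈ qq D z :=
  Subgroup.subset_closure ⟨p, hp, q, hq, rfl⟩

theorem quad_z {p q r s : G} (Q : Quad D z p q r s) : z = p * q * r * s := by
  rw [Q.eq]; group

variable [Finite G]

theorem z_sq (S : Fi24Setup D) (hz : IsProd D 4 z) : z * z = 1 ∧ z ≠ 1 := by
  refine ⟨?_, FischerM24.prod_ne_one S (by norm_num) le_rfl hz⟩
  have h := pow_orderOf_eq_one z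
  rwa [FischerM24.prod_order S (by norm_num) le_rfl hz, pow_two] at h

theorem z_mem (S : Fi24Setup D) (hz : IsProd D 4 z) (ha : a ∈ Ey D z) : z ∈ qq D z := by
  obtain ⟨b, c, d, Q⟩ := quad_decomp S hz ha
  have h : a * b * (c * d) ∈ qq D z := by
    refine mul_mem (pair_mem ha ?_) (pair_mem Q.mem_Ey_all.2.1 ?_)
    · rw [qd_eq S Q]; exact Or.inr (Or.inl rfl)
    · rw [(qd_rot S Q).2.1, qd_eq S Q]; exact Or.inr (Or.inr (Or.inr rfl))
  rwa [← mul_assoc, ← quad_z Q] at h

theorem quad_with (S : Fi24Setup D) (hz : IsProd D 4 z) {p q : G} (hp : p ∈ Ey D z) (hq : q ∈ qd D z p)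
    (hne : q ≠ p) : ∃ r s, Quad D z p q r s := by
  obtain ⟨b, c, d, Q⟩ := quad_decomp S hz hp
  rw [qd_eq S Q] at hq
  rcases hq with rfl | rfl | rfl | rfl
  exacts [absurd rfl hne, ⟨c, d, Q⟩, ⟨b, d, Q.swap⟩, ⟨b, c, Q.swap'.swap⟩]

theorem pairs_fix (S : Fi24Setup D) (hz : IsProd D 4 z) {g : G} (hg : g ∈ pairs D z) :
    g ∈ fixK S z ∧ g * g = 1 := by
  obtain ⟨p, hp, q, hq, rfl⟩ := hg
  have hq' := qd_mem S hp hq
  have hpq := qd_self_commute S hz hp hq
  refine ⟨⟨hp.2.mul_left hq'.2, fun x hx => ?_⟩, ?_⟩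
  · rw [show p * q * x * (p * q)⁻¹ = p * (q * x * q⁻¹) * p⁻¹ by group,
      qd_conj S hz hp.2 (Ey_conj S hp.2 hx) (qd_ref S hz hx hp hq),
      conj_symm p x (mul_self S.cls.1 hp.1)]
  · rw [show p * q * (p * q) = p * (q * p) * q by group, ← hpq.eq,
      show p * (p * q) * q = (p * p) * (q * q) by group, mul_self S.cls.1 hp.1, mul_self S.cls.1 hq'.1, one_mul]

theorem qq_le (S : Fi24Setup D) (hz : IsProd D 4 z) : qq D z ≤ fixK S z :=
  (Subgroup.closure_le _).2 fun _ hg => (pairs_fix S hz hg).1

theorem qq_conj (S : Fi24Setup D) (hz : IsProd D 4 z) {k g : G} (hk : Commute k z) (hg : g ∈ qq D z) :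
    k * g * k⁻¹ ∈ qq D z := by
  induction hg using Subgroup.closure_induction with
  | mem g hg =>
    obtain ⟨p, hp, q, hq, rfl⟩ := hg
    rw [show k * (p * q) * k⁻¹ = (k * p * k⁻¹) * (k * q * k⁻¹) by group]
    exact pair_mem (Ey_conj S hk hp) (qd_conj_mem S hz hk hp hq)
  | one => simp [one_mem]
  | mul x y _ _ hx hy => rw [show k * (x * y) * k⁻¹ = (k * x * k⁻¹) * (k * y * k⁻¹) by group]; exact mul_mem hx hy
  | inv x _ hx => rw [show k * x⁻¹ * k⁻¹ = (k * x * k⁻¹)⁻¹ by group]; exact inv_mem hx

theorem qq_even (S : Fi24Setup D) (hz : IsProd D 4 z) : qq D z ≤ commutator G := by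
  obtain ⟨χ, hχ⟩ := exists_parity S
  refine (Subgroup.closure_le _).2 ?_
  rintro _ ⟨p, hp, q, hq, rfl⟩
  rw [SetLike.mem_coe, mem_commutator_iff S hχ, map_mul, hχ p hp.1, hχ q (qd_mem S hp hq).1]
  simp

/-- An involution fixing every quad maps each pair in a quad to itself or to the other pair. -/
theorem pair_image (S : Fi24Setup D) (hz : IsProd D 4 z) {h g : G} (hh : h ∈ fixK S z) (hh2 : h * h = 1)
    (hg : g ∈ pairs D z) : h * g * h⁻¹ = g ∨ h * g * h⁻¹ = z * g := by
  obtain ⟨p, hp, q, hq, rfl⟩ := hg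
  have hD := S.cls.1
  rcases eq_or_ne q p with rfl | hne
  · left
    rw [mul_self hD hp.1, mul_one, mul_inv_cancel]
  obtain ⟨r, s, Q⟩ := quad_with S hz hp hq hne
  obtain ⟨qD, rD, sD, n1, n2, n3, c1, c2, c3⟩ := Q.tri
  have inv : ∀ {x y : G}, h * x * h⁻¹ = y → h * y * h⁻¹ = x := fun {x y} e => e ▸ conj_symm h x hh2
  have img : ∀ {x : G}, x ∈ qd D z p → h * x * h⁻¹ ∈ ({p, q, r, s} : Set G) := fun {x} hx => by
    rw [← qd_eq S Q, ← qd_same S hx, ← hh.2 x (qd_mem S hp hx)]
    exact self_mem_qd z _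
  have hp' := img (self_mem_qd z p)
  have hq' := img hq
  have key : h * (p * q) * h⁻¹ = (h * p * h⁻¹) * (h * q * h⁻¹) := by group
  have zpq : z * (p * q) = r * s := by
    have hc : Commute (r * s) (p * q) :=
      ((Q.hc.2.2.symm.mul_right c1.symm).mul_left (Q.hd.2.2.symm.mul_right c2.symm))
    rw [quad_z Q, mul_assoc _ r s, mul_assoc, hc.eq, ← mul_assoc,
      show p * q * (p * q) = p * (q * p) * q by group, ← Q.hb.2.2.eq,
      show p * (p * q) * q = (p * p) * (q * q) by group, mul_self hD hp.1, mul_self hD qD, one_mul, one_mul]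
  rcases hp' with e | e | e | e
  · rcases hq' with e' | e' | e' | e'
    · exact absurd (conj_inj h (e'.trans e.symm)) hne
    · left; rw [key, e, e']
    · exfalso
      have hs : h * s * h⁻¹ = s := by
        rcases img (x := s) (by rw [qd_eq S Q]; simp) with k | k | k | k
        · exact absurd (conj_inj h (k.trans e.symm)) Q.hd.2.1
        · have := (inv k).symm.trans e'
          exact absurd this.symm n3
        · exact absurd (conj_inj h (k.trans e'.symm)) n2.symm
        · exact k
      have := (fix_two S Q.swap'.swap hz hh e hs).1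
      exact n1 (this.symm.trans e')
    · exfalso
      have hr : h * r * h⁻¹ = r := by
        rcases img (x := r) (by rw [qd_eq S Q]; simp) with k | k | k | k
        · exact absurd (conj_inj h (k.trans e.symm)) Q.hc.2.1
        · have := (inv k).symm.trans e'
          exact absurd this n3
        · exact k
        · exact absurd (conj_inj h (k.trans e'.symm)) n1.symm
      have := (fix_two S Q.swap hz hh e hr).1
      exact n2 (this.symm.trans e')
  · left
    rw [key, e, inv e]
    exact Q.hb.2.2.symm.eq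
  · rcases hq' with e' | e' | e' | e'
    · exact absurd ((inv e').symm.trans e) n1.symm.symm
    · exfalso
      have hs : h * s * h⁻¹ = s := by
        rcases img (x := s) (by rw [qd_eq S Q]; simp) with k | k | k | k
        · have := (inv k).symm.trans e
          exact absurd this.symm n3
        · exact absurd (conj_inj h (k.trans e'.symm)) n2.symm
        · exact absurd (conj_inj h (k.trans e.symm)) Q.hd.2.1
        · exact k
      have := (fix_two S Q.rot.swap'.swap hz hh e' hs).1
      exact Q.hc.2.1 (e.symm.trans this)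
    · exact absurd (conj_inj h (e'.trans e.symm)) hne
    · right
      rw [key, e, e', zpq]
  · rcases hq' with e' | e' | e' | e'
    · exact absurd ((inv e').symm.trans e) n2.symm.symm
    · exfalso
      have hr : h * r * h⁻¹ = r := by
        rcases img (x := r) (by rw [qd_eq S Q]; simp) with k | k | k | k
        · have := (inv k).symm.trans e
          exact absurd this n3
        · exact absurd (conj_inj h (k.trans e'.symm)) n1.symm
        · exact k
        · exact absurd (conj_inj h (k.trans e.symm)) Q.hc.2.1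
      have := (fix_two S Q.rot.swap hz hh e' hr).1
      exact Q.hd.2.1 (e.symm.trans this)
    · right
      rw [key, e, e', zpq, c3.eq]
    · exact absurd (conj_inj h (e'.trans e.symm)) hne

theorem qq_comm (S : Fi24Setup D) (hz : IsProd D 4 z) {x y : G} (hx : x ∈ qq D z) (hy : y ∈ qq D z) :
    x * y = y * x ∨ x * y = z * (y * x) := by
  obtain ⟨hzz, -⟩ := z_sq S hz
  have hcz : ∀ {g : G}, g ∈ qq D z → z * g = g * z := fun hg => ((qq_le S hz hg).1).eq.symm
  have hgen : ∀ g ∈ pairs D z, ∀ h ∈ pairs D z, g * h = h * g ∨ g * h = z * (h * g) := by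
    intro g hg h hh
    obtain ⟨f1, f2⟩ := pairs_fix S hz hg
    rcases pair_image S hz f1 f2 hh with e | e
    · exact Or.inl (mul_inv_eq_iff_eq_mul.1 e)
    · exact Or.inr (by rw [← mul_assoc]; exact mul_inv_eq_iff_eq_mul.1 e)
  induction hx, hy using Subgroup.closure_induction₂ with
  | mem g h hg hh => exact hgen g hg h hh
  | one_left y _ => simp
  | one_right x _ => simp
  | mul_left x y w hx hy hw h1 h2 =>
    rcases h1 with h1 | h1 <;> rcases h2 with h2 | h2
    · left; rw [mul_assoc, h2, ← mul_assoc, h1, mul_assoc]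
    · right; rw [mul_assoc, h2, ← mul_assoc, ← hcz hx, mul_assoc z x, ← mul_assoc x, h1, mul_assoc w]
    · right; rw [mul_assoc, h2, ← mul_assoc, h1, mul_assoc, mul_assoc w]
    · left
      rw [mul_assoc, h2, ← mul_assoc, ← hcz hx, mul_assoc z x, ← mul_assoc x, h1, mul_assoc z (w * x),
        ← mul_assoc z z, hzz, one_mul, mul_assoc]
  | mul_right y w x hy hw hx h1 h2 =>
    rcases h1 with h1 | h1 <;> rcases h2 with h2 | h2
    · left; rw [← mul_assoc, h1, mul_assoc, h2, mul_assoc]
    · right; rw [← mul_assoc, h1, mul_assoc, h2, ← mul_assoc y z, ← hcz hy, mul_assoc z, ← mul_assoc y]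
    · right; rw [← mul_assoc, h1, mul_assoc, mul_assoc, h2, ← mul_assoc y]
    · left
      rw [← mul_assoc, h1, mul_assoc, mul_assoc, h2, ← mul_assoc y z, ← hcz hy, mul_assoc z, ← mul_assoc z z,
        hzz, one_mul, ← mul_assoc y]
  | inv_left x y hx hy h =>
    rcases h with h | h
    · left; exact (show Commute x y from h).inv_left.eq
    · right
      have e : y * x = z * (x * y) := by rw [h, ← mul_assoc z z, hzz, one_mul]
      calc x⁻¹ * y = x⁻¹ * (y * x) * x⁻¹ := by group
        _ = x⁻¹ * (z * x) * y * x⁻¹ := by rw [e]; group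
        _ = z * (y * x⁻¹) := by rw [hcz hx]; group
  | inv_right x y hx hy h =>
    rcases h with h | h
    · left; exact (show Commute x y from h).inv_right.eq
    · right
      have e : y * x = z * (x * y) := by rw [h, ← mul_assoc z z, hzz, one_mul]
      calc x * y⁻¹ = y⁻¹ * (y * x) * y⁻¹ := by group
        _ = y⁻¹ * z * x := by rw [e]; group
        _ = z * (y⁻¹ * x) := by rw [← hcz (inv_mem hy)]; group

theorem qq_sq (S : Fi24Setup D) (hz : IsProd D 4 z) {x : G} (hx : x ∈ qq D z) : x * x = 1 ∨ x * x = z := by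
  obtain ⟨hzz, -⟩ := z_sq S hz
  have hzi : z⁻¹ = z := inv_eq_of_mul_eq_one_right hzz
  have main : ∀ {x}, x ∈ qq D z → x * x = 1 ∨ x * x = z := by
    intro x hx
    induction hx using Subgroup.closure_induction with
    | mem g hg => exact Or.inl (pairs_fix S hz hg).2
    | one => exact Or.inl (one_mul 1)
    | mul x y hx hy h1 h2 =>
      have hcx : x * z = z * x := (qq_le S hz hx).1.eq
      have e : x * y * (x * y) = x * x * (y * y) ∨ x * y * (x * y) = z * (x * x * (y * y)) := by
        rcases qq_comm S hz hy hx with h | h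
        · left; rw [show x * y * (x * y) = x * (y * x) * y by group, h]; group
        · right
          rw [show x * y * (x * y) = x * (y * x) * y by group, h, ← mul_assoc x z, hcx]; group
      rcases e with e | e <;> rcases h1 with h1 | h1 <;> rcases h2 with h2 | h2 <;>
        simp [e, h1, h2, hzz]
    | inv x _ h =>
      rcases h with h | h
      · left; rw [← mul_inv_rev, h, inv_one]
      · right; rw [← mul_inv_rev, h, hzi]
  exact main hx

/-- An element of `C(z)` commuting with all members commuting with `z` lies in their first quad. -/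
theorem fix_members (S : Fi24Setup D) (hz : IsProd D 4 z) {x : G} (hall : ∀ q ∈ Ey D z, Commute x q)
    (ha : a ∈ Ey D z) : ∃ b c d, Quad D z a b c d ∧ x ∈ Subgroup.closure ({a, b, c, d} : Set G) := by
  obtain ⟨F, _, _, b, c, d, pt, P⟩ := exists_quadModel S hz ha
  refine ⟨b, c, d, P.quad, ?_⟩
  have hF := P.card
  obtain ⟨mb, mc, md⟩ := P.quad.mem_Ey_all
  obtain ⟨A, hA⟩ := P.rep x (hall a ha) (hall b mb) (hall c mc)
  have hfix : ∀ {w : Fin 6 → F}, Iso w → pt w ∈ Ey D z → ∃ k : F, k ≠ 0 ∧ act A w = k • w := fun {w} hw hm => by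
    have h := hA w hw
    rw [conj_of_commute (hall _ hm)] at h
    exact P.inj _ _ hw (hw.act A) h
  obtain ⟨κ, hκ, eκ⟩ := hfix (v0_iso hF) (by rw [P.hd]; exact md)
  obtain ⟨ζ, -, hζ⟩ := exists_scalar hF (inv_ne_zero hκ)
  set A' := ζ * A with hA'
  have hact : ∀ w, act A' w = κ⁻¹ • act A w := fun w => by rw [hA', act_mul, hζ]
  have hv : act A' v0 = v0 := by rw [hact, eκ, inv_smul_smul₀ hκ]
  have hlow : ∀ y : Fin 4 → F, Iso y → act A' (low y) = low y := fun y hy => by
    obtain ⟨l0, -, e0⟩ := hfix (comb_iso hF 0 hy) (P.Q_Ey 0 hy).1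
    obtain ⟨l1, -, e1⟩ := hfix (comb_iso hF 1 hy) (P.Q_Ey 1 hy).1
    rw [zero_smul, zero_add] at e0
    rw [act_add, act_smul, eκ, e0, one_smul, smul_add, ← low_smul, ← low_smul, one_smul] at e1
    obtain ⟨k1, k2⟩ := comb_inj e1
    have : l0 = l1 := smul_left_injective F hy.1 k2
    rw [hact, e0, this, ← k1, inv_smul_smul₀ hκ]
  have hlin : ∀ y : Fin 4 → F, act A' (low y) = low y := fun y => funext fun k => by
    let f : (Fin 4 → F) →ₗ[F] F :=
      { toFun := fun y => act A' (low y) k - low y k
        map_add' := fun u v => by simp only [low_add, act_add, Pi.add_apply]; ring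
        map_smul' := fun r v => by simp only [low_smul, act_smul, Pi.smul_apply, smul_eq_mul, RingHom.id_apply]; ring }
    have h0 := FischerM22.eq_zero_of_iso hF f fun v hv' => by simp [f, hlow v hv']
    exact sub_eq_zero.1 (LinearMap.congr_fun h0 y)
  have hA2 : ∀ w, Iso w → x * pt w * x⁻¹ = pt (act A' w) := fun w hw => by
    rw [hA w hw, hact, P.smul _ _ (hw.act A) (inv_ne_zero hκ)]
  obtain ⟨bD, cD, dD, n1, n2, n3, c1, c2, c3⟩ := P.quad.tri
  have hsub : ({a, b, c} : Set G) ⊆ {a, b, c, d} := by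
    rintro w (rfl | rfl | rfl) <;> simp
  rcases FischerM22.eq_one_or_tv hF hv hlin with e | e
  · refine Subgroup.closure_mono hsub (P.fixAll x (hall a ha) (hall b mb) (hall c mc) fun w hw => ?_)
    rw [hA2 w hw, e, act_one]
  · have hdm : d ∈ Subgroup.closure ({a, b, c, d} : Set G) := Subgroup.subset_closure (by simp)
    rw [← mul_mem_cancel_right hdm]
    refine Subgroup.closure_mono hsub (P.fixAll _ ((hall a ha).mul_left P.quad.hd.2.2.symm)
      ((hall b mb).mul_left c2.symm) ((hall c mc).mul_left c3.symm) fun w hw => ?_)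
    have hd := P.self v0 (v0_iso hF) w hw
    rw [P.hd] at hd
    rw [show x * d * pt w * (x * d)⁻¹ = x * (d * pt w * d⁻¹) * x⁻¹ by group, hd, hA2 _ (hw.act _), e, ← act_mul,
      tv_sq hF (v0_iso hF).2, act_one]

/-- An element of `C(z)` commuting with all products of pairs is `1` or `z`. -/
theorem cent_qq (S : Fi24Setup D) (hz : IsProd D 4 z) (ha : a ∈ Ey D z) {x : G}
    (hq : ∀ g ∈ pairs D z, Commute x g) : x = 1 ∨ x = z := by
  have hD := S.cls.1
  have hall : ∀ q ∈ Ey D z, Commute x q := by
    intro q hq'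
    obtain ⟨p, r, s, Q⟩ := quad_decomp S hz hq'
    obtain ⟨pD, rD, -, n1, -, -⟩ := Q.tri
    have key : ∀ p', p' ∈ qd D z q → p' ∈ adj D q → x * q * x⁻¹ = q ∨ x * q * x⁻¹ = p' := by
      intro p' hp' hadj
      have h := hq _ ⟨q, hq', p', hp', rfl⟩
      refine pair_unique S.cls S.cores.1 (S.conj_mem x hq'.1) (S.conj_mem x hadj.1) hq'.1 hadj.1
        (fun e => hadj.2.1 (conj_inj x e).symm) hadj.2.1.symm ((commute_conj_iff x _ _).2 hadj.2.2) hadj.2.2 ?_
      rw [show x * q * x⁻¹ * (x * p' * x⁻¹) = x * (q * p') * x⁻¹ by group, conj_of_commute h]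
    have hmem : p ∈ qd D z q ∧ r ∈ qd D z q := by rw [qd_eq S Q]; exact ⟨by simp, by simp⟩
    rcases key p hmem.1 Q.hb with h | h
    · exact commute_of_conj h
    rcases key r hmem.2 Q.hc with h' | h'
    · exact commute_of_conj h'
    · exact absurd (h.symm.trans h') n1
  obtain ⟨b, c, d, Q, hx⟩ := fix_members S hz hall ha
  obtain ⟨bD, cD, dD, n1, n2, n3, c1, c2, c3⟩ := Q.tri
  have cm : ∀ {u v : G} (s s' : Bool), Commute u v → Commute (if s then u else 1) (if s' then v else 1) :=
    fun {u v} s s' h => by cases s <;> cases s' <;> simp [h]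
  have sq : ∀ {u : G} (s s' : Bool), u * u = 1 →
      (if s then u else 1) * (if s' then u else 1) = if xor s s' then u else 1 := fun {u} s s' h => by
    cases s <;> cases s' <;> simp [h]
  have norm : ∀ i j k l i' j' k' l' : Bool, (if i then a else 1) * (if j then b else 1) * (if k then c else 1) *
      (if l then d else 1) * ((if i' then a else 1) * (if j' then b else 1) * (if k' then c else 1) *
      (if l' then d else 1)) = (if xor i i' then a else 1) * (if xor j j' then b else 1) *
      (if xor k k' then c else 1) * (if xor l l' then d else 1) := by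
    intro i j k l i' j' k' l'
    rw [← sq i i' (mul_self hD Q.ha), ← sq j j' (mul_self hD bD), ← sq k k' (mul_self hD cD),
      ← sq l l' (mul_self hD dD)]
    have e1 := cm (u := b) (v := a) j i' Q.hb.2.2.symm
    have e2 := cm (u := c) (v := a) k i' Q.hc.2.2.symm
    have e3 := cm (u := d) (v := a) l i' Q.hd.2.2.symm
    have e4 := cm (u := c) (v := b) k j' c1.symm
    have e5 := cm (u := d) (v := b) l j' c2.symm
    have e6 := cm (u := d) (v := c) l k' c3.symm
    set A0 := if i then a else 1
    set B0 := if j then b else 1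
    set C0 := if k then c else 1
    set D0 := if l then d else 1
    set A1 := if i' then a else 1
    set B1 := if j' then b else 1
    set C1 := if k' then c else 1
    set D1 := if l' then d else 1
    calc A0 * B0 * C0 * D0 * (A1 * B1 * C1 * D1)
        = A0 * (B0 * C0 * D0 * A1) * (B1 * C1 * D1) := by group
      _ = A0 * A1 * B0 * (C0 * D0 * B1) * (C1 * D1) := by
        rw [((e1.mul_left e2).mul_left e3).eq]; group
      _ = A0 * A1 * (B0 * B1) * C0 * (D0 * C1) * D1 := by rw [(e4.mul_left e5).eq]; group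
      _ = A0 * A1 * (B0 * B1) * (C0 * C1) * (D0 * D1) := by rw [e6.eq]; group
  have h16 : ∃ i j k l : Bool, x = (if i then a else 1) * (if j then b else 1) *
      (if k then c else 1) * (if l then d else 1) := by
    clear hall hq
    induction hx using Subgroup.closure_induction with
    | mem w hw =>
      rcases hw with rfl | rfl | rfl | rfl
      exacts [⟨true, false, false, false, by simp⟩, ⟨false, true, false, false, by simp⟩,
        ⟨false, false, true, false, by simp⟩, ⟨false, false, false, true, by simp⟩]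
    | one => exact ⟨false, false, false, false, by simp⟩
    | mul u v _ _ hu hv =>
      obtain ⟨i, j, k, l, rfl⟩ := hu
      obtain ⟨i', j', k', l', rfl⟩ := hv
      exact ⟨_, _, _, _, norm i j k l i' j' k' l'⟩
    | inv u _ hu =>
      obtain ⟨i, j, k, l, rfl⟩ := hu
      refine ⟨i, j, k, l, inv_eq_of_mul_eq_one_right ?_⟩
      rw [norm]
      simp
  obtain ⟨n, N⟩ := exists_nbr S hz ha
  obtain ⟨w, hw, haw, -⟩ := N.exists_frame_zero
  have hwa : ¬ Commute w a := fun h => haw h.symm
  obtain ⟨fb, fc, fd⟩ := Q.far_all S hw hwa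
  have hxw := (hall w hw).symm
  obtain ⟨i, j, k, l, rfl⟩ := h16
  cases i <;> cases j <;> cases k <;> cases l <;>
    simp only [Bool.false_eq_true, if_false, if_true, one_mul, mul_one] at hxw ⊢
  all_goals first
    | exact Or.inl rfl
    | (simp; done)
    | exact Or.inr (quad_z Q).symm
    | exact absurd hxw hwa
    | exact absurd hxw fb
    | exact absurd hxw fc
    | exact absurd hxw fd
    | exact absurd ((commute_mul_iff hD Q.ha bD hw.1 Q.hb.2.1.symm Q.hb.2.2).1 hxw).1 hwa
    | exact absurd ((commute_mul_iff hD Q.ha cD hw.1 Q.hc.2.1.symm Q.hc.2.2).1 hxw).1 hwa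
    | exact absurd ((commute_mul_iff hD Q.ha dD hw.1 Q.hd.2.1.symm Q.hd.2.2).1 hxw).1 hwa
    | exact absurd ((commute_mul_iff hD bD cD hw.1 n1 c1).1 hxw).1 fb
    | exact absurd ((commute_mul_iff hD bD dD hw.1 n2 c2).1 hxw).1 fb
    | exact absurd ((commute_mul_iff hD cD dD hw.1 n3 c3).1 hxw).1 fc
    | exact absurd ((commute_mul_three_iff hD Q.ha bD cD hw.1 Q.hb.2.1.symm Q.hc.2.1.symm n1 Q.hb.2.2 Q.hc.2.2 c1).1 hxw).1 hwa
    | exact absurd ((commute_mul_three_iff hD Q.ha bD dD hw.1 Q.hb.2.1.symm Q.hd.2.1.symm n2 Q.hb.2.2 Q.hd.2.2 c2).1 hxw).1 hwa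
    | exact absurd ((commute_mul_three_iff hD Q.ha cD dD hw.1 Q.hc.2.1.symm Q.hd.2.1.symm n3 Q.hc.2.2 Q.hd.2.2 c3).1 hxw).1 hwa
    | exact absurd ((commute_mul_three_iff hD bD cD dD hw.1 n1 n2 n3 c1 c2 c3).1 hxw).1 fb

end Cfsg.Agent.FourProd
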