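/-
The group generated by the pairs has order 2^13 and is extraspecial; the kernel lies in the derived subgroup.

Main results (namespace `Cfsg.Agent.FourProd`):
* `QuadModel.exists_translation` : translations by every functional `hf _ w` inside `qq`;
* `qq_card` : `|qq| = 2^13`; `qq_extraspecial`; `fixK_even`.
-/
import Cfsg.Agent.Lib.FischerM24.Four.Pairs
import Cfsg.Agent.Lib.LargeExtraspecial.Central

set_option autoImplicit false

namespace Cfsg.Agent.FourProd

open Cfsg.Agent.Unitary Cfsg.Agent.U62Cover Cfsg.Agent.ThreeTrans Cfsg.Agent.ThreeTransSU Cfsg.Agent.FischerM24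
open Cfsg.Agent.FischerM22 (IsProd Q v0 low)
open Cfsg.Agent.PrimeNorm (orbit_single)
open Cfsg.Agent.PrimeNorm24 (Quad Ey quad_decomp)
open scoped commutatorElement

variable {G : Type*} [Group G] [Finite G] {D : Set G} {z a b c d : G}

namespace QuadModel

variable {F : Type*} [Field F] [Fintype F] {pt : (Fin 6 → F) → G}

/-- Every translation by a functional `hf _ w` is induced by pairs. -/
theorem exists_translation (P : QuadModel D z a b c d pt) (w : Fin 4 → F) :
    ∃ k ∈ qq D z, Commute k a ∧ Commute k b ∧ Commute k c ∧ Commute k d ∧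
      ∀ (t : F) (y : Fin 4 → F), Iso y → k * Q pt t y * k⁻¹ = Q pt (t + hf y w) y := by
  classical
  have hF := P.card
  set W : Set (Fin 4 → F) := {w | ∃ k ∈ qq D z, Commute k a ∧ Commute k b ∧ Commute k c ∧ Commute k d ∧
      ∀ (t : F) (y : Fin 4 → F), Iso y → k * Q pt t y * k⁻¹ = Q pt (t + hf y w) y}
  have hadd : ∀ u ∈ W, ∀ v ∈ W, u + v ∈ W := by
    rintro u ⟨k, hk, k1, k2, k3, k4, hu⟩ v ⟨l, hl, l1, l2, l3, l4, hv⟩
    refine ⟨k * l, mul_mem hk hl, k1.mul_left l1, k2.mul_left l2, k3.mul_left l3, k4.mul_left l4, fun t y hy => ?_⟩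
    rw [show k * l * Q pt t y * (k * l)⁻¹ = k * (l * Q pt t y * l⁻¹) * k⁻¹ by group, hv t y hy, hu _ y hy,
      hf_add_right hF]
    congr 1
    ring
  have hiso : ∀ (v : Fin 4 → F) (s : F), Iso v → s • v ∈ W := by
    intro v s hv
    obtain ⟨hmem, -⟩ := P.Q_Ey (s ^ 2) hv
    have hcomm : ∀ t, Commute (Q pt t v) a ∧ Commute (Q pt t v) b ∧ Commute (Q pt t v) c ∧ Commute (Q pt t v) d := by
      intro t
      obtain ⟨⟨⟨h1, h2⟩, h3⟩, h4, -⟩ := P.Q_mem t hv
      exact ⟨h1.2.2.symm, h2.2.2.symm, h3.2.2.symm, h4⟩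
    obtain ⟨a1, b1, c1, d1⟩ := hcomm (s ^ 2)
    obtain ⟨a0, b0, c0, d0⟩ := hcomm 0
    refine ⟨Q pt (s ^ 2) v * Q pt 0 v, pair_mem hmem ?_, a1.mul_left a0, b1.mul_left b0, c1.mul_left c0,
      d1.mul_left d0, fun t y hy => ?_⟩
    · rw [P.qd_Q _ hv]; exact ⟨0, rfl⟩
    · rw [P.shift_pair t (s ^ 2) 0 hy hv, add_zero, hf_smul_right hF]
  obtain ⟨ω, hω0, hω⟩ := exists_omega hF
  have hbasis : ∀ (j : Fin 4) (s : F), Pi.single j s ∈ W := by
    intro j s
    obtain ⟨i, hi⟩ := exists_ne j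
    have ho := single_orthonormal (F := F) (card_sq hF) 4
    have hI : ∀ r : F, r ≠ 0 → Iso ((Pi.single i 1 : Fin 4 → F) + r • Pi.single j 1) := fun r hr => by
      refine ⟨fun e => ?_, ?_⟩
      · have := congrFun e i
        simp [hi] at this
      · simp only [hf_add_left hF, hf_add_right hF, hf_smul_left hF, hf_smul_right hF]
        rw [show hf (Pi.single i (1 : F)) (Pi.single i 1) = 1 from ho.1 i,
          show hf (Pi.single j (1 : F)) (Pi.single j 1) = 1 from ho.1 j,
          show hf (Pi.single i (1 : F)) (Pi.single j 1) = 0 from ho.2 hi,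
          show hf (Pi.single j (1 : F)) (Pi.single i 1) = 0 from ho.2 hi.symm]
        linear_combination mul_sq_self hF hr + two_eq_zero hF
    have hω1 : 1 + ω ≠ 0 := fun e => pow_ne_zero 2 hω0 (hω.trans (by rw [add_comm]; exact e))
    have e : (Pi.single j s : Fin 4 → F) = (s / (1 + ω)) • ((Pi.single i 1 : Fin 4 → F) + (1 : F) • Pi.single j 1) +
        (s / (1 + ω)) • ((Pi.single i 1 : Fin 4 → F) + ω • Pi.single j 1) := by
      funext k
      by_cases hkj : k = j
      · subst hkj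
        simp only [Pi.single_eq_same, Pi.add_apply, Pi.smul_apply, smul_eq_mul, Pi.single_eq_of_ne hi.symm]
        field_simp
        ring
      · simp only [Pi.single_eq_of_ne hkj, Pi.add_apply, Pi.smul_apply, smul_eq_mul, mul_zero, add_zero]
        rw [← two_mul, two_eq_zero hF, zero_mul]
    rw [e]
    exact hadd _ (hiso _ _ (hI 1 one_ne_zero)) _ (hiso _ _ (hI ω hω0))
  have hw : w = Pi.single 0 (w 0) + Pi.single 1 (w 1) + Pi.single 2 (w 2) + Pi.single 3 (w 3) := by
    funext k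
    fin_cases k <;> simp
  have : w ∈ W := by
    rw [hw]
    exact hadd _ (hadd _ (hadd _ (hbasis 0 _) _ (hbasis 1 _)) _ (hbasis 2 _)) _ (hbasis 3 _)
  exact this

/-- A vector orthogonal to all isotropic vectors is zero. -/
theorem eq_zero_of_orth (hF : Fintype.card F = 4) {w : Fin 4 → F} (h : ∀ y, Iso y → hf y w = 0) : w = 0 := by
  let f : (Fin 4 → F) →ₗ[F] F :=
    { toFun := fun y => hf y w
      map_add' := fun u v => hf_add_left hF u v w
      map_smul' := fun r v => hf_smul_left hF r v w }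
  have h0 := FischerM22.eq_zero_of_iso hF f h
  exact hermForm_nondeg (card_sq hF) 4 w fun v => (hf_eq_zero_symm hF).1 (LinearMap.congr_fun h0 v)

/-- The products of pairs fixing the first quad number at least `2^11`. -/
theorem qq_four_ge (P : QuadModel D z a b c d pt) :
    2048 ≤ Nat.card ↥(qq D z ⊓ Subgroup.centralizer ({a} : Set G)) := by
  classical
  have S := P.S
  have hz := P.hz
  have hF := P.card
  have hD := S.cls.1
  obtain ⟨hzz, hz1⟩ := z_sq S hz
  obtain ⟨bD, cD, dD, n1, n2, n3, c1, c2, c3⟩ := P.quad.tri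
  choose kw hkq hka hkb hkc hkd hkt using P.exists_translation
  let u : Fin 4 → G := ![1, a * b, a * c, a * d]
  let zs : Bool → G := fun s => if s then z else 1
  have hqa : qd D z a = {a, b, c, d} := P.qd_a
  have hzm : z ∈ qq D z := z_mem S hz P.quad.mem_Ey
  have hu : ∀ i, u i ∈ qq D z ∧ Commute (u i) a ∧
      ∀ (t : F) (y : Fin 4 → F), Iso y → Commute (u i) (Q pt t y) := by
    intro i
    have hQ : ∀ (t : F) (y : Fin 4 → F), Iso y → Commute a (Q pt t y) ∧ Commute b (Q pt t y) ∧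
        Commute c (Q pt t y) ∧ Commute d (Q pt t y) := fun t y hy => by
      obtain ⟨⟨⟨h1, h2⟩, h3⟩, h4, -⟩ := P.Q_mem t hy
      exact ⟨h1.2.2, h2.2.2, h3.2.2, h4.symm⟩
    have hm : ∀ v ∈ ({a, b, c, d} : Set G), a * v ∈ qq D z := fun v hv =>
      pair_mem P.quad.mem_Ey (hqa.symm ▸ hv)
    fin_cases i
    · exact ⟨one_mem _, Commute.one_left a, fun t y _ => Commute.one_left _⟩
    · exact ⟨hm b (by simp), (Commute.refl a).mul_left P.quad.hb.2.2.symm,
        fun t y hy => (hQ t y hy).1.mul_left (hQ t y hy).2.1⟩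
    · exact ⟨hm c (by simp), (Commute.refl a).mul_left P.quad.hc.2.2.symm,
        fun t y hy => (hQ t y hy).1.mul_left (hQ t y hy).2.2.1⟩
    · exact ⟨hm d (by simp), (Commute.refl a).mul_left P.quad.hd.2.2.symm,
        fun t y hy => (hQ t y hy).1.mul_left (hQ t y hy).2.2.2⟩
  have hzs : ∀ s, zs s ∈ qq D z ∧ Commute (zs s) a ∧
      ∀ (t : F) (y : Fin 4 → F), Iso y → Commute (zs s) (Q pt t y) := by
    intro s
    cases s
    · exact ⟨one_mem _, Commute.one_left a, fun t y _ => Commute.one_left _⟩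
    · exact ⟨hzm, P.quad.mem_Ey.2.symm, fun t y hy => (P.Q_Ey t hy).1.2.symm⟩
  let f : (Fin 4 → F) × Fin 4 × Bool → ↥(qq D z ⊓ Subgroup.centralizer ({a} : Set G)) := fun r =>
    ⟨kw r.1 * (u r.2.1 * zs r.2.2), mul_mem (hkq r.1) (mul_mem (hu r.2.1).1 (hzs r.2.2).1),
      cent_of_commute ((hka r.1).mul_left ((hu r.2.1).2.1.mul_left (hzs r.2.2).2.1))⟩
  have hf' : Function.Injective f := by
    rintro ⟨w, i, s⟩ ⟨w', i', s'⟩ h
    have h' : kw w * (u i * zs s) = kw w' * (u i' * zs s') := congrArg Subtype.val h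
    have hw : w = w' := by
      have key : ∀ y, Iso y → hf y w = hf y w' := fun y hy => by
        have hact : ∀ (v : Fin 4 → F) (j : Fin 4) (r : Bool),
            kw v * (u j * zs r) * Q pt 0 y * (kw v * (u j * zs r))⁻¹ = Q pt (hf y v) y := fun v j r => by
          rw [show kw v * (u j * zs r) * Q pt 0 y * (kw v * (u j * zs r))⁻¹ =
            kw v * ((u j * zs r) * Q pt 0 y * (u j * zs r)⁻¹) * (kw v)⁻¹ by group,
            conj_of_commute (((hu j).2.2 0 y hy).mul_left ((hzs r).2.2 0 y hy)), hkt v 0 y hy, zero_add]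
        by_contra hne
        refine P.Q_ne hy hne ?_
        rw [← hact w i s, h', hact]
      refine sub_eq_zero.1 (eq_zero_of_orth hF fun y hy => ?_)
      have e : w - w' = w + (-1 : F) • w' := by simp [sub_eq_add_neg]
      rw [e, hf_add_right hF, hf_smul_right hF, key y hy]
      linear_combination hf y w' * two_eq_zero hF
    subst hw
    have h2 := mul_left_cancel h'
    have hne : ∀ p q : G, p ∈ ({a, b, c, d} : Set G) → q ∈ ({a, b, c, d} : Set G) → p ≠ q → p * q ≠ 1 ∧
        p * q ≠ z := by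
      intro p q hp hq hpq
      have hp' : p ∈ qd D z a := hqa.symm ▸ hp
      have hq' : q ∈ qd D z p := by rw [qd_same S hp', hqa]; exact hq
      have hpm := qd_mem S P.quad.mem_Ey hp'
      obtain ⟨r, t, Qpq⟩ := quad_with S hz hpm hq' hpq.symm
      obtain ⟨qD, rD, tD, -, -, nrt, -, -, -⟩ := Qpq.tri
      refine ⟨fun e => hpq ?_, fun e => nrt ?_⟩
      · rw [eq_inv_of_mul_eq_one_left e, inv_eq hD qD]
      · rw [quad_z Qpq] at e
        have e' : r * t = 1 := mul_left_cancel (a := p * q) (by rw [mul_one]; rw [mul_assoc (p * q) r t] at e; exact e.symm)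
        rw [eq_inv_of_mul_eq_one_left e', inv_eq hD tD]
    have sa := mul_self hD P.quad.ha
    -- the cosets of `⟨z⟩` of the four elements are different
    have hcl : ∀ i i' : Fin 4, u i * u i' = 1 ∨ u i * u i' = z → i = i' := by
      intro i i' hh
      obtain ⟨q1, q1'⟩ := hne a b (by simp) (by simp) P.quad.hb.2.1.symm
      obtain ⟨q2, q2'⟩ := hne a c (by simp) (by simp) P.quad.hc.2.1.symm
      obtain ⟨q3, q3'⟩ := hne a d (by simp) (by simp) P.quad.hd.2.1.symm
      obtain ⟨q4, q4'⟩ := hne b c (by simp) (by simp) n1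
      obtain ⟨q5, q5'⟩ := hne b d (by simp) (by simp) n2
      obtain ⟨q6, q6'⟩ := hne c d (by simp) (by simp) n3
      have red : ∀ p q : G, Commute a p → a * p * (a * q) = p * q := fun p q hap => by
        rw [show a * p * (a * q) = a * (p * a) * q by group, ← hap.eq, ← mul_assoc a a p, sa, one_mul]
      have r12 := red b c P.quad.hb.2.2
      have r13 := red b d P.quad.hb.2.2
      have r21 : a * c * (a * b) = b * c := by rw [red c b P.quad.hc.2.2, c1.eq]
      have r23 := red c d P.quad.hc.2.2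
      have r31 : a * d * (a * b) = b * d := by rw [red d b P.quad.hd.2.2, c2.eq]
      have r32 : a * d * (a * c) = c * d := by rw [red d c P.quad.hd.2.2, c3.eq]
      fin_cases i <;> fin_cases i' <;> first
        | rfl
        | (exfalso; simp only [u] at hh; simp at hh; simp [q1, q1', q2, q2', q3, q3', q4, q4', q5, q5', q6, q6', r12,
            r13, r21, r23, r31, r32] at hh)
    have hsq : ∀ i, u i * u i = 1 := by
      intro i
      have k : ∀ p, p ∈ ({a, b, c, d} : Set G) → a * p * (a * p) = 1 := fun p hp =>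
        (pairs_fix S hz ⟨a, P.quad.mem_Ey, p, hqa.symm ▸ hp, rfl⟩).2
      fin_cases i
      exacts [one_mul 1, k b (by simp), k c (by simp), k d (by simp)]
    have hii : i = i' := by
      refine hcl i i' ?_
      have e : zs s * (zs s')⁻¹ = (u i)⁻¹ * u i' := by
        calc zs s * (zs s')⁻¹ = (u i)⁻¹ * (u i * zs s) * (zs s')⁻¹ := by group
          _ = (u i)⁻¹ * (u i' * zs s') * (zs s')⁻¹ := by rw [h2]
          _ = (u i)⁻¹ * u i' := by group
      have hzi : z⁻¹ = z := inv_eq_of_mul_eq_one_right hzz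
      rw [inv_eq_of_mul_eq_one_right (hsq i)] at e
      rw [← e]
      cases s <;> cases s' <;> simp [zs, hzi, hzz]
    subst hii
    have h3 := mul_left_cancel h2
    refine Prod.ext rfl (Prod.ext rfl ?_)
    cases s <;> cases s' <;> first | rfl | (exfalso; simp [zs, hz1, Ne.symm hz1] at h3)
  have := Nat.card_le_card_of_injective f hf'
  rwa [Nat.card_prod, Nat.card_prod, Nat.card_fun, Nat.card_eq_fintype_card (α := F), hF,
    Nat.card_eq_fintype_card (α := Fin 4), Fintype.card_fin, Nat.card_eq_fintype_card (α := Bool), Fintype.card_bool]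
    at this

end QuadModel

theorem qq_card (S : Fi24Setup D) (hz : IsProd D 4 z) (ha : a ∈ Ey D z) : Nat.card ↥(qq D z) = 2 ^ 13 := by
  have hD := S.cls.1
  have := Fact.mk Nat.prime_two
  obtain ⟨F, _, _, b, c, d, pt, P⟩ := exists_quadModel S hz ha
  obtain ⟨n, N⟩ := exists_nbr S hz ha
  obtain ⟨C0, hC⟩ := exists_coords N
  have hp : IsPGroup 2 ↥(qq D z) := by
    intro x
    refine ⟨2, ?_⟩
    obtain ⟨hzz, -⟩ := z_sq S hz
    rcases qq_sq S hz x.2 with h | h <;> refine Subtype.ext ?_ <;>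
      simp only [SubmonoidClass.coe_pow, OneMemClass.coe_one, show (2 : ℕ) ^ 2 = 2 * 2 from rfl, pow_mul] <;>
      simp [pow_two, h, hzz]
  obtain ⟨m, hm⟩ := IsPGroup.iff_card.1 hp
  have h1 : Nat.card ↥(qq D z) ∣ 2 ^ 13 * 3 := hC.fixK_card ▸ Subgroup.card_dvd_of_le (qq_le S hz)
  obtain ⟨e, he, hea, -⟩ := N.exists_frame_zero
  obtain ⟨f, g, h, Q'⟩ := quad_decomp S hz he
  obtain ⟨fD, gD, hDh, m1, m2, m3, d1, d2, d3⟩ := Q'.tri
  have hae : ¬ Commute e a := fun k => hea k.symm
  obtain ⟨af, ag, ah⟩ := Q'.far_all S ha hea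
  have hmem : ∀ x, x ∈ ({e, f, g, h} : Set G) → x ≠ e → e * x * a * (e * x)⁻¹ ≠ a := by
    intro x hx hne k
    have hxD : x ∈ D := by rcases hx with rfl | rfl | rfl | rfl; exacts [he.1, fD, gD, hDh]
    have hex : Commute e x := qd_self_commute S hz he ((qd_eq S Q').symm ▸ hx)
    exact hea ((commute_mul_iff hD he.1 hxD ha.1 hne.symm hex).1 (commute_of_conj k).symm).1
  have hdiff : ∀ x y, Commute e x → x ∈ D → y ∈ D → x ≠ y → Commute x y → ¬ Commute a x →
      e * x * a * (e * x)⁻¹ ≠ e * y * a * (e * y)⁻¹ := by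
    intro x y hex hxD hyD hxy hcxy hax k
    have hk : (x * y) * a * (x * y)⁻¹ = a := by
      rw [show x * y = x⁻¹ * e⁻¹ * (e * y) by rw [inv_eq hD hxD]; group,
        show x⁻¹ * e⁻¹ * (e * y) * a * (x⁻¹ * e⁻¹ * (e * y))⁻¹ =
          x⁻¹ * e⁻¹ * (e * y * a * (e * y)⁻¹) * (e * x) by group, ← k]
      group
    exact hax ((commute_mul_iff hD hxD hyD ha.1 hxy hcxy).1 (commute_of_conj hk).symm).1
  have ho := orbit_single (qq D z) a (O := {y | ∃ k ∈ qq D z, k * a * k⁻¹ = y}) fun y => Iff.rfl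
  have h4 : 4 ≤ {y | ∃ k ∈ qq D z, k * a * k⁻¹ = y}.ncard := by
    have hin : ∀ x ∈ ({e, f, g, h} : Set G), e * x * a * (e * x)⁻¹ ∈ {y | ∃ k ∈ qq D z, k * a * k⁻¹ = y} :=
      fun x hx => ⟨e * x, pair_mem he ((qd_eq S Q').symm ▸ hx), rfl⟩
    refine le_trans ?_ (Set.ncard_le_ncard (s := {a, e * f * a * (e * f)⁻¹, e * g * a * (e * g)⁻¹,
      e * h * a * (e * h)⁻¹}) ?_ (Set.toFinite _))
    · rw [Set.ncard_insert_of_notMem, Set.ncard_eq_three.2 ⟨_, _, _, ?_, ?_, ?_, rfl⟩]
      · exact hdiff f g Q'.hb.2.2 fD gD m1 d1 af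
      · exact hdiff f h Q'.hb.2.2 fD hDh m2 d2 af
      · exact hdiff g h Q'.hc.2.2 gD hDh m3 d3 ag
      · simp only [Set.mem_insert_iff, Set.mem_singleton_iff]
        rintro (k | k | k)
        exacts [hmem f (by simp) Q'.hb.2.1 k.symm, hmem g (by simp) Q'.hc.2.1 k.symm, hmem h (by simp) Q'.hd.2.1 k.symm]
    · rintro y (rfl | rfl | rfl | rfl)
      · exact ⟨1, one_mem _, by simp⟩
      · exact hin f (by simp)
      · exact hin g (by simp)
      · exact hin h (by simp)
  have h5 := Nat.mul_le_mul h4 P.qq_four_ge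
  rw [← ho, hm] at h5
  rw [hm] at h1 ⊢
  have h2 : 2 ^ m ∣ 2 ^ 13 := (Nat.Coprime.pow_left m (by norm_num : Nat.Coprime 2 3)).dvd_of_dvd_mul_right h1
  have h3 := (Nat.pow_dvd_pow_iff_le_right (by norm_num : 1 < 2)).1 h2
  have h6 : 13 ≤ m := (Nat.pow_le_pow_iff_right (by norm_num : 1 < 2)).1 (le_trans (by norm_num) h5)
  rw [show m = 13 by omega]

theorem qq_extraspecial (S : Fi24Setup D) (hz : IsProd D 4 z) (ha : a ∈ Ey D z) :
    Cfsg.IsExtraspecial 2 ↥(qq D z) := by
  have := Fact.mk Nat.prime_two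
  obtain ⟨hzz, hz1⟩ := z_sq S hz
  have hp : IsPGroup 2 ↥(qq D z) := IsPGroup.of_card (qq_card S hz ha)
  have hcen : ∀ x ∈ qq D z, (∀ q ∈ qq D z, q * x = x * q) → x = 1 ∨ x = z := fun x _ hx =>
    cent_qq S hz ha fun g hg => (hx g (Subgroup.subset_closure hg)).symm
  have hcomm : ∀ x ∈ qq D z, ∀ y ∈ qq D z, ⁅x, y⁆ = 1 ∨ ⁅x, y⁆ = z := by
    intro x hx y hy
    rcases qq_comm S hz hx hy with h | h
    · left; rw [commutatorElement_def, h]; group
    · right; rw [commutatorElement_def, h]; group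
  refine (LargeExtraspecial.isExtraspecial_of_gen hp (z_mem S hz ha) hz1
    (fun q hq => (qq_le S hz hq).1.eq) hcen hcomm (fun x hx => qq_sq S hz hx) ?_).1
  by_contra hnab
  have hall : ∀ x ∈ qq D z, x = 1 ∨ x = z := fun x hx => hcen x hx fun q hq => by
    have h : ⁅q, x⁆ = 1 := by_contra fun h => hnab ⟨q, hq, x, hx, h⟩
    exact commutatorElement_eq_one_iff_mul_comm.1 h
  have hle : (qq D z : Set G).ncard ≤ 2 :=
    (Set.ncard_le_ncard (t := {1, z}) (fun x hx => hall x hx) (Set.toFinite _)).trans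
      ((Set.ncard_insert_le _ _).trans (by rw [Set.ncard_singleton]))
  have hc : (qq D z : Set G).ncard = 2 ^ 13 := by
    rw [← Nat.card_coe_set_eq]; exact qq_card S hz ha
  omega

/-- The elements fixing every quad are even. -/
theorem fixK_even (S : Fi24Setup D) (hz : IsProd D 4 z) (ha : a ∈ Ey D z) : fixK S z ≤ commutator G := by
  obtain ⟨n, N⟩ := exists_nbr S hz ha
  obtain ⟨C0, hC⟩ := exists_coords N
  have hK := hC.fixK_card
  have hle : qq D z ≤ fixK S z ⊓ commutator G := le_inf (qq_le S hz) (qq_even S hz)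
  have h1 := Subgroup.card_dvd_of_le hle
  rw [qq_card S hz ha] at h1
  have hdvd : (fixK S z ⊓ commutator G).relIndex (fixK S z) ∣ 2 := by
    rw [Subgroup.inf_relIndex_left, ← (layer_eq_commutator S).2]
    exact Subgroup.relIndex_dvd_index_of_normal _ _
  have hmul := Subgroup.card_mul_index ((fixK S z ⊓ commutator G).subgroupOf (fixK S z))
  rw [Nat.card_congr (Subgroup.subgroupOfEquivOfLe (inf_le_left : fixK S z ⊓ commutator G ≤ fixK S z)).toEquiv, hK]
    at hmul
  rw [Subgroup.relIndex] at hdvd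
  obtain ⟨k, hk⟩ := h1
  rw [hk] at hmul
  rcases (Nat.dvd_prime Nat.prime_two).1 hdvd with h | h
  · refine fun g hg => ((Subgroup.eq_of_le_of_card_ge (inf_le_left : fixK S z ⊓ commutator G ≤ fixK S z) ?_).symm ▸ hg : g ∈ fixK S z ⊓ commutator G).2
    rw [h, mul_one] at hmul
    rw [hK, hk, hmul]
  · rw [h] at hmul
    omega

end Cfsg.Agent.FourProd
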