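/-
The 126 vectors of norm 1 of the orthogonal space O6-(3), up to sign, against the tables.

Main results (namespace `Cfsg.Agent.FourProd.Tab`):
* `Q3`, `V`, `bil` : the form, the vectors and the bilinear form;
* `V_norm`, `V_cover`, `V_inj`, `V_orth`, `V_refl` : the dictionary with the tables;
* `V_basis`, `V_linked`, `V_triple`, `pair_only` : facts used for the centre.
-/
import Cfsg.Agent.Lib.Orth.Models
import Cfsg.Agent.Lib.FischerM24.Four.CheckGraph

set_option autoImplicit false
set_option maxRecDepth 100000

namespace Cfsg.Agent.FourProd.Tab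

/-- The index type. -/
abbrev J : Type := (Fin 2 ⊕ Fin 2) ⊕ Fin 2

/-- A vector by its coordinates. -/
def mk6 (x0 x1 y0 y1 z0 z1 : ZMod 3) : J → ZMod 3
  | .inl (.inl i) => if i = 0 then x0 else x1
  | .inl (.inr i) => if i = 0 then y0 else y1
  | .inr i => if i = 0 then z0 else z1

/-- The vector of a quad. -/
def V (i : Fin 126) : J → ZMod 3 :=
  let l := vec6 i
  mk6 (l.getD 0 0 : ℕ) (l.getD 1 0 : ℕ) (l.getD 2 0 : ℕ) (l.getD 3 0 : ℕ) (l.getD 4 0 : ℕ) (l.getD 5 0 : ℕ)

/-- The bilinear form. -/
def bil (x y : J → ZMod 3) : ZMod 3 :=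
  x (.inl (.inl 0)) * y (.inl (.inr 0)) + y (.inl (.inl 0)) * x (.inl (.inr 0)) +
    (x (.inl (.inl 1)) * y (.inl (.inr 1)) + y (.inl (.inl 1)) * x (.inl (.inr 1))) +
    (2 * (x (.inr 0) * y (.inr 0)) + 2 * (x (.inr 1) * y (.inr 1)))

/-- The form. -/
def Q3 (x : J → ZMod 3) : ZMod 3 :=
  x (.inl (.inl 0)) * x (.inl (.inr 0)) + x (.inl (.inl 1)) * x (.inl (.inr 1)) + (x (.inr 0) ^ 2 + x (.inr 1) ^ 2)

theorem V_norm : ∀ i : Fin 126, Q3 (V i) = 1 := by decide +kernel

theorem V_cover : ∀ a b c d e f : ZMod 3, Q3 (mk6 a b c d e f) = 1 →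
    ((List.finRange 126).any fun i =>
      decide (mk6 a b c d e f = V i) || decide (mk6 a b c d e f = fun k => -V i k)) = true := by decide +kernel

theorem V_inj : ∀ i j : Fin 126, (i == j || (!decide (V i = V j) && !decide (V i = fun k => -V j k))) = true := by
  decide +kernel

theorem V_orth : ∀ i j : Fin 126, (decide (bil (V i) (V j) = 0) == adB i j) = true := by decide +kernel

theorem V_refl : ∀ i j : Fin 126,
    (decide (V (rfI i j) = fun k => V j k - bil (V i) (V j) * V i k) ||
      decide (V (rfI i j) = fun k => -(V j k - bil (V i) (V j) * V i k))) = true := by decide +kernel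

theorem V_basis : ∀ j : J, ((List.finRange 126).any fun p => (List.finRange 126).any fun q =>
    decide ((fun k => if k = j then (1 : ZMod 3) else 0) = fun k => V p k + V q k) ||
      decide ((fun k => if k = j then (1 : ZMod 3) else 0) = fun k => V p k - V q k) ||
      decide ((fun k => if k = j then (1 : ZMod 3) else 0) = fun k => -(V p k + V q k))) = true := by decide +kernel

theorem V_linked : ∀ i : Fin 126, ((List.finRange 126).any fun k => !adB 0 k && !adB i k) = true := by
  decide +kernel

theorem V_triple : ∀ i : Fin 126, ((List.finRange 126).any fun j => adB i j &&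
    (List.finRange 126).any fun l => adB i l && adB j l) = true := by decide +kernel

theorem pair_only : ∀ i x : Fin 126, (i == x || (List.finRange 126).any fun j =>
    adB i j && !(rfI i (rfI j x) == x)) = true := by decide +kernel

end Cfsg.Agent.FourProd.Tab
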