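/-
The orthogonal group O6-(3) on its 126 lines of norm 1.

Main results (namespace `Cfsg.Agent.FourProd`):
* `phi` : the action of the isometries on the 126 lines;
* `phi_autos` : it preserves the tables;
* `phi_omega_card` : the image of `Omega` is isomorphic to `POmega`.
-/
import Cfsg.Agent.Lib.FischerM24.Four.CheckOrth
import Cfsg.Agent.Lib.FischerM24.Four.Auto
import Cfsg.Agent.Lib.Orth.Models

set_option autoImplicit false

namespace Cfsg.Agent.FourProd

open Cfsg.Agent.Orth
open QuadraticMap (polar)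
open Tab
open scoped commutatorElement

/-- The quadratic form of minus type in dimension six over F3. -/
noncomputable abbrev Q6 : QuadraticForm (ZMod 3) (J → ZMod 3) :=
  have : Fact (Nat.Prime 3) := ⟨by norm_num⟩
  quadMinus 2 (ZMod 3) 0 1

/-- Equality up to sign. -/
def Sg (v w : J → ZMod 3) : Prop := v = w ∨ v = -w

theorem Sg.symm' {v w : J → ZMod 3} (h : Sg v w) : Sg w v := by
  rcases h with rfl | rfl
  exacts [Or.inl rfl, Or.inr (neg_neg w).symm]

theorem Sg.trans' {u v w : J → ZMod 3} (h : Sg u v) (h' : Sg v w) : Sg u w := by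
  rcases h with rfl | rfl <;> rcases h' with rfl | rfl
  exacts [Or.inl rfl, Or.inr rfl, Or.inr rfl, Or.inl (neg_neg w)]

variable [Fact (Nat.Prime 3)]

theorem f3_two : (2 : ZMod 3) ≠ 0 := by decide +revert

theorem f3_neg_one : (-1 : ZMod 3) ≠ 0 := by decide +revert

theorem f3_three : (3 : ZMod 3) = 0 := by decide +revert

theorem Q6_apply (x : J → ZMod 3) : Q6 x = Q3 x := by
  show Cfsg.quadFormMinus 2 (ZMod 3) 0 1 x = Q3 x
  simp [Cfsg.quadFormMinus, Q3, Fin.sum_univ_two]

theorem polar_Q6 (x y : J → ZMod 3) : polar ⇑Q6 x y = bil x y := by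
  show polar (Cfsg.quadFormMinus 2 (ZMod 3) 0 1) x y = bil x y
  rw [polar_quadMinus]
  simp [bil, Fin.sum_univ_two]

theorem Q6_V (i : Fin 126) : Q6 (V i) = 1 := (Q6_apply _).trans (V_norm i)

theorem mk6_self (v : J → ZMod 3) : v = mk6 (v (.inl (.inl 0))) (v (.inl (.inl 1))) (v (.inl (.inr 0)))
    (v (.inl (.inr 1))) (v (.inr 0)) (v (.inr 1)) := by
  funext j
  rcases j with (j | j) | j <;> fin_cases j <;> rfl

theorem exists_line {v : J → ZMod 3} (h : Q6 v = 1) : ∃ i, Sg v (V i) := by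
  rw [Q6_apply, mk6_self v] at h
  have := V_cover _ _ _ _ _ _ h
  rw [← mk6_self v] at this
  simp only [List.any_eq_true, Bool.or_eq_true, decide_eq_true_eq] at this
  obtain ⟨i, -, hi⟩ := this
  exact ⟨i, hi.imp id fun e => e⟩

theorem line_unique {i j : Fin 126} (h : Sg (V i) (V j)) : i = j := by
  have := V_inj i j
  simp only [Bool.or_eq_true, beq_iff_eq, Bool.and_eq_true, Bool.not_eq_true', decide_eq_false_iff_not] at this
  rcases this with e | ⟨h1, h2⟩
  · exact e
  · exact absurd h (not_or.2 ⟨h1, h2⟩)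

open scoped Classical in
/-- The line of a vector. -/
@[irreducible] noncomputable def lineIdx (v : J → ZMod 3) : Fin 126 :=
  if h : ∃ i, Sg v (V i) then h.choose else 0

theorem lineIdx_spec {v : J → ZMod 3} (h : Q6 v = 1) : Sg v (V (lineIdx v)) := by
  have hx := exists_line h
  have e : lineIdx v = hx.choose := by
    unfold lineIdx
    exact dif_pos hx
  exact e.symm ▸ hx.choose_spec

theorem lineIdx_eq {v : J → ZMod 3} {i : Fin 126} (h : Q6 v = 1) (h' : Sg v (V i)) : lineIdx v = i :=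
  line_unique ((lineIdx_spec h).symm'.trans' h')

theorem Sg.ap {v w : J → ZMod 3} (g : IsoGrp Q6) (h : Sg v w) : Sg (Orth.ap g v) (Orth.ap g w) :=
  h.imp (fun e => congrArg _ e) fun e => by rw [e, map_neg]

theorem lineIdx_ap (g : IsoGrp Q6) {v : J → ZMod 3} (h : Q6 v = 1) :
    lineIdx (Orth.ap g v) = lineIdx (Orth.ap g (V (lineIdx v))) :=
  lineIdx_eq (by rw [Q_ap, h]) (((lineIdx_spec h).ap g).trans' (lineIdx_spec (by rw [Q_ap, Q6_V])))

theorem lineIdx_V (i : Fin 126) : lineIdx (V i) = i := lineIdx_eq (Q6_V i) (Or.inl rfl)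

/-- The permutation of the lines. -/
noncomputable def phiPerm (g : IsoGrp Q6) : Equiv.Perm (Fin 126) where
  toFun i := lineIdx (Orth.ap g (V i))
  invFun i := lineIdx (Orth.ap g⁻¹ (V i))
  left_inv i := by
    show lineIdx (Orth.ap g⁻¹ (V (lineIdx (Orth.ap g (V i))))) = i
    rw [← lineIdx_ap g⁻¹ (by rw [Q_ap, Q6_V]), ap_inv_ap, lineIdx_V]
  right_inv i := by
    show lineIdx (Orth.ap g (V (lineIdx (Orth.ap g⁻¹ (V i))))) = i
    rw [← lineIdx_ap g (by rw [Q_ap, Q6_V]), ap_ap_inv, lineIdx_V]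

theorem phiPerm_apply (g : IsoGrp Q6) (i : Fin 126) : phiPerm g i = lineIdx (Orth.ap g (V i)) := rfl

/-- The action on the 126 lines. -/
noncomputable def phi : IsoGrp Q6 →* Equiv.Perm (Fin 126) where
  toFun := phiPerm
  map_one' := Equiv.ext fun i => by rw [Equiv.Perm.coe_one, id_eq, phiPerm_apply, ap_one, lineIdx_V]
  map_mul' g h := Equiv.ext fun i => by
    rw [Equiv.Perm.coe_mul, Function.comp_apply, phiPerm_apply, phiPerm_apply, phiPerm_apply,
      ← lineIdx_ap g (by rw [Q_ap, Q6_V]), ap_mul]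

theorem phi_spec (g : IsoGrp Q6) (i : Fin 126) : Sg (Orth.ap g (V i)) (V (phi g i)) :=
  lineIdx_spec (by rw [Q_ap, Q6_V])

theorem phi_autos (g : IsoGrp Q6) : phi g ∈ autos := by
  have hB : ∀ p q, polar ⇑Q6 (V p) (V q) = 0 ↔ adB p q = true := fun p q => by
    have := V_orth p q
    rw [beq_iff_eq] at this
    rw [polar_Q6, ← this, decide_eq_true_eq]
  have hneg : ∀ {u v : J → ZMod 3}, Sg u v → ∀ x, polar ⇑Q6 u x = polar ⇑Q6 v x ∨ polar ⇑Q6 u x = -polar ⇑Q6 v x :=
    fun {u v} h x => h.imp (fun e => by rw [e]) fun e => by rw [e, pl_neg_left]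
  refine ⟨fun p q => ?_, fun p q => ?_⟩
  · rw [Bool.eq_iff_iff, ← hB, ← hB, ← polar_ap g (V p) (V q)]
    rcases phi_spec g p with h1 | h1 <;> rcases phi_spec g q with h2 | h2 <;>
      simp [h1, h2, pl_neg_left, pl_neg_right]
  · have hR : ∀ p q, Sg (V (rfI p q)) (Orth.ap (refl Q6 (V p)) (V q)) := fun p q => by
      have h := V_refl p q
      simp only [Bool.or_eq_true, decide_eq_true_eq] at h
      rw [refl_ap, Q6_V, inv_one, one_mul, polar_Q6]
      exact h.imp (fun e => e.trans (funext fun k => rfl)) fun e => e.trans (funext fun k => rfl)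
    have key : Sg (V (phi g (rfI p q))) (Orth.ap (refl Q6 (V (phi g p))) (V (phi g q))) := by
      refine ((phi_spec g _).symm'.trans' ((hR p q).ap g)).trans' ?_
      have hconj : Orth.ap g (Orth.ap (refl Q6 (V p)) (V q)) = Orth.ap (refl Q6 (Orth.ap g (V p))) (Orth.ap g (V q)) := by
        rw [← conj_refl, ap_mul, ap_mul, ap_inv_ap]
      rw [hconj]
      have hr : refl Q6 (Orth.ap g (V p)) = refl Q6 (V (phi g p)) := by
        rcases phi_spec g p with h | h <;> rw [h]
        rw [show -V (phi g p) = (-1 : ZMod 3) • V (phi g p) from (neg_one_smul _ _).symm, refl_smul Q6 f3_neg_one]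
      rw [hr]
      exact (phi_spec g q).ap _
    exact line_unique ((hR _ _).trans' key.symm')

theorem bilin_basis {T : (J → ZMod 3) →ₗ[ZMod 3] (J → ZMod 3)} (h : ∀ i, T (V i) = V i) : T = LinearMap.id := by
  refine LinearMap.pi_ext' fun j => LinearMap.ext_ring ?_
  have hb := V_basis j
  simp only [List.any_eq_true, Bool.or_eq_true, decide_eq_true_eq] at hb
  obtain ⟨p, -, q, -, hb⟩ := hb
  have e : (Pi.single j (1 : ZMod 3) : J → ZMod 3) = fun k => if k = j then (1 : ZMod 3) else 0 := by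
    funext k; simp [Pi.single_apply]
  simp only [LinearMap.coe_comp, LinearMap.coe_single, Function.comp_apply, LinearMap.id_apply, e]
  rcases hb with (hb | hb) | hb <;> rw [hb]
  · rw [show (fun k => V p k + V q k) = V p + V q from rfl, map_add, h, h]
  · rw [show (fun k => V p k - V q k) = V p - V q from rfl, map_sub, h, h]
  · rw [show (fun k => -(V p k + V q k)) = -(V p + V q) from rfl, map_neg, map_add, h, h]

/-- An isometry fixing every line is a scalar. -/
theorem scalar_of_phi {g : IsoGrp Q6} (h : phi g = 1) : ∃ ε : ZMod 3, ∀ x, Orth.ap g x = ε • x := by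
  have hs : ∀ i, ∃ ε : ZMod 3, ε * ε = 1 ∧ Orth.ap g (V i) = ε • V i := fun i => by
    have := phi_spec g i
    rw [h, Equiv.Perm.coe_one, id_eq] at this
    rcases this with e | e
    exacts [⟨1, one_mul 1, by rw [e, one_smul]⟩, ⟨-1, by ring, by rw [e, neg_one_smul]⟩]
  choose ε hε2 hε using hs
  have heq : ∀ i k, adB i k = false → ε i = ε k := fun i k hik => by
    have hne : polar ⇑Q6 (V i) (V k) ≠ 0 := by
      rw [polar_Q6]
      intro hz
      have := V_orth i k
      rw [beq_iff_eq, hik, decide_eq_false_iff_not] at this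
      exact this hz
    have := polar_ap g (V i) (V k)
    rw [hε, hε, pl_smul_left, pl_smul_right, ← mul_assoc] at this
    have h1 : ε i * ε k = 1 := mul_right_cancel₀ hne (this.trans (one_mul _).symm)
    calc ε i = ε i * (ε k * ε k) := by rw [hε2, mul_one]
      _ = (ε i * ε k) * ε k := by ring
      _ = ε k := by rw [h1, one_mul]
  have hall : ∀ i, ε i = ε 0 := fun i => by
    have := V_linked i
    simp only [List.any_eq_true, Bool.and_eq_true, Bool.not_eq_true'] at this
    obtain ⟨k, -, h0, hi⟩ := this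
    rw [heq i k hi, heq 0 k h0]
  refine ⟨ε 0, fun x => ?_⟩
  have hT : (ε 0 • Orth.ap g : (J → ZMod 3) →ₗ[ZMod 3] (J → ZMod 3)) = LinearMap.id :=
    bilin_basis fun i => by rw [LinearMap.smul_apply, hε i, hall i, smul_smul, hε2, one_smul]
  have := LinearMap.congr_fun hT x
  rw [LinearMap.smul_apply, LinearMap.id_apply] at this
  calc Orth.ap g x = (ε 0 * ε 0) • Orth.ap g x := by rw [hε2, one_smul]
    _ = ε 0 • x := by rw [← smul_smul, this]

/-- Two orthogonal reflections of equal norm multiply to an element of `Omega`. -/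
theorem pair_omega {i j : Fin 126} (h : adB i j = true) :
    refl Q6 (V i) * refl Q6 (V j) ∈ Cfsg.Omega (ZMod 3) ⇑Q6 := by
  have hij : polar ⇑Q6 (V i) (V j) = 0 := by
    have := V_orth i j
    rw [beq_iff_eq, h, decide_eq_true_eq] at this
    rw [polar_Q6, this]
  set w := V i - V j with hw
  have hQw : Q6 w = 2 := by rw [hw, Q_sub, Q6_V, Q6_V, hij]; ring
  have hmove : Orth.ap (refl Q6 w) (V i) = V j := by
    rw [refl_ap, hQw, hw, pl_sub_left, pl_self, Q6_V, pl_comm Q6 (V j) (V i), hij,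
      show ((2 : ZMod 3)⁻¹ * (2 * 1 - 0)) = 1 by rw [mul_one, sub_zero]; exact inv_mul_cancel₀ f3_two, one_smul,
      sub_sub_cancel]
  have e : refl Q6 (V i) * refl Q6 (V j) = ⁅refl Q6 (V i), refl Q6 w⁆ := by
    rw [← hmove, ← conj_refl, commutatorElement_def, refl_inv, refl_inv]
    group
  rw [e]
  exact Subgroup.commutator_mem_commutator (Subgroup.mem_top _) (Subgroup.mem_top _)

/-- Central elements of `Omega` fix every line. -/
theorem phi_of_center (g : ↥(Cfsg.Omega (ZMod 3) ⇑Q6)) (hg : g ∈ Subgroup.center _) : phi (g : IsoGrp Q6) = 1 := by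
  refine Equiv.ext fun i => ?_
  rw [Equiv.Perm.coe_one, id_eq]
  have ht := V_triple i
  simp only [List.any_eq_true, Bool.and_eq_true] at ht
  obtain ⟨j, -, hij, l, -, hil, hjl⟩ := ht
  have orth : ∀ {p q}, adB p q = true → polar ⇑Q6 (V p) (V q) = 0 := fun {p q} h => by
    have := V_orth p q
    rw [beq_iff_eq, h, decide_eq_true_eq] at this
    rw [polar_Q6, this]
  set x := Orth.ap (g : IsoGrp Q6) (V i) with hx
  have span : ∀ {k}, adB i k = true → ∃ s t : ZMod 3, x = s • V i + t • V k := fun {k} hk => by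
    have hc : (g : IsoGrp Q6) * (refl Q6 (V i) * refl Q6 (V k)) = (refl Q6 (V i) * refl Q6 (V k)) * g :=
      congrArg Subtype.val (Subgroup.mem_center_iff.1 hg ⟨_, pair_omega hk⟩).symm
    have hop : Orth.ap (refl Q6 (V i) * refl Q6 (V k)) (V i) = -V i := by
      rw [ap_mul, refl_ap_of_orth Q6 (show polar ⇑Q6 (V k) (V i) = 0 by rw [pl_comm, orth hk]),
        refl_ap_self Q6 (by rw [Q6_V]; exact one_ne_zero)]
    have hxn : Orth.ap (refl Q6 (V i) * refl Q6 (V k)) x = -x := by
      rw [hx, ← ap_mul, ← hc, ap_mul, hop, map_neg]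
    rw [ap_mul, refl_ap, refl_ap, Q6_V, Q6_V, inv_one, one_mul, one_mul, pl_sub_right, pl_smul_right, orth hk,
      mul_zero, sub_zero] at hxn
    refine ⟨-polar ⇑Q6 (V i) x, -polar ⇑Q6 (V k) x, ?_⟩
    set A := polar ⇑Q6 (V i) x
    set B := polar ⇑Q6 (V k) x
    funext m
    have hm := congrFun hxn m
    simp only [Pi.sub_apply, Pi.smul_apply, smul_eq_mul, Pi.neg_apply] at hm
    simp only [Pi.add_apply, Pi.smul_apply, smul_eq_mul]
    have h3 : (3 : ZMod 3) = 0 := f3_three
    linear_combination (-1 : ZMod 3) * hm + x m * h3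
  obtain ⟨s, t, e1⟩ := span hij
  obtain ⟨s', t', e2⟩ := span hil
  have ht0 : t = 0 := by
    have h1 : polar ⇑Q6 (V j) x = t * 2 := by
      rw [e1, pl_add_right, pl_smul_right, pl_smul_right, pl_comm Q6 (V j) (V i), orth hij, pl_self, Q6_V]
      ring
    have h2 : polar ⇑Q6 (V j) x = 0 := by
      rw [e2, pl_add_right, pl_smul_right, pl_smul_right, pl_comm Q6 (V j) (V i), orth hij, orth hjl]
      ring
    exact (mul_eq_zero.1 (h1.symm.trans h2)).resolve_right f3_two
  rw [ht0, zero_smul, add_zero] at e1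
  have hQ : Q6 x = 1 := by rw [hx, Q_ap, Q6_V]
  rw [e1, Q_smul, Q6_V, mul_one] at hQ
  refine line_unique ((phi_spec _ i).symm'.trans' ?_)
  rw [← hx, e1]
  have : s = 1 ∨ s = -1 := mul_self_eq_one_iff.1 hQ
  rcases this with rfl | rfl
  exacts [Or.inl (one_smul _ _), Or.inr (neg_one_smul _ _)]

/-- The action of `Omega`. -/
noncomputable def phiOmega : ↥(Cfsg.Omega (ZMod 3) ⇑Q6) →* Equiv.Perm (Fin 126) :=
  phi.comp (Cfsg.Omega (ZMod 3) ⇑Q6).subtype

theorem phiOmega_ker : phiOmega.ker = Subgroup.center ↥(Cfsg.Omega (ZMod 3) ⇑Q6) := by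
  ext g
  refine ⟨fun h => Subgroup.mem_center_iff.2 fun k => Subtype.ext (ext_ap fun x => ?_), phi_of_center g⟩
  obtain ⟨ε, hε⟩ := scalar_of_phi (MonoidHom.mem_ker.1 h)
  simp only [Subgroup.coe_mul, ap_mul, Subgroup.subtype_apply] at hε ⊢
  rw [hε, hε, map_smul]

/-- The image of `Omega` is `POmega`. -/
theorem phiOmega_range : Nonempty (↥phiOmega.range ≃* Cfsg.POmega (ZMod 3) (Cfsg.quadFormMinus 2 (ZMod 3) 0 1)) := by
  show Nonempty (↥phiOmega.range ≃* Cfsg.POmega (ZMod 3) ⇑Q6)
  exact ⟨(QuotientGroup.quotientKerEquivRange phiOmega).symm.trans (QuotientGroup.quotientMulEquivOfEq phiOmega_ker)⟩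

end Cfsg.Agent.FourProd
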