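/-
The centraliser of a product of four commuting members inside the derived subgroup.

Main results (namespace `Cfsg.Agent.FourProd`):
* `Coords.chi` : its action on the 126 quads, `chi_ker_card`, `chi_range_card`;
* `omega_le_chi`, `chi_center` : the image contains the image of `Omega`, and its centraliser is trivial;
* `four_structure` : the structure of the centraliser.
-/
import Cfsg.Agent.Lib.FischerM24.Four.Order
import Cfsg.Agent.Lib.FischerM24.Four.Orth
import Cfsg.Agent.Lib.Orth.Simple
import Cfsg.Agent.Lib.LocalCharP.Basic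
import Cfsg.Agent.Lib.PReduced.Basic
import Cfsg.Agent.Lib.LargeExtraspecial.Simple
import Cfsg.Agent.Lib.Unitary.Center
import Cfsg.Agent.S0303

set_option autoImplicit false

namespace Cfsg.Agent.FourProd

open Cfsg.Agent.ThreeTrans Cfsg.Agent.ThreeTransSU Cfsg.Agent.FischerM24
open Cfsg.Agent.FischerM22 (IsProd)
open Cfsg.Agent.PrimeNorm24 (Ey)
open Tab

variable {G : Type*} [Group G] [Finite G] {D : Set G} {z a : G} {n : Fin 45 → G} {e : Fin 40 → G}

/-- The centraliser in the derived subgroup. -/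
abbrev evenCent (z : G) : Subgroup G := commutator G ⊓ Subgroup.centralizer ({z} : Set G)

namespace Coords

/-- The action of `evenCent z` on the quads. -/
noncomputable def chi (C : Coords D z a n e) : ↥(evenCent z) →* Equiv.Perm (Fin 126) :=
  C.psi.comp (Subgroup.inclusion inf_le_right)

theorem chi_ker_map (C : Coords D z a n e) : C.chi.ker.map (evenCent z).subtype = fixK C.N.S z := by
  ext g
  constructor
  · rintro ⟨k, hk, rfl⟩
    rw [← C.ker_map]
    exact ⟨Subgroup.inclusion inf_le_right k, hk, rfl⟩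
  · intro hg
    have hE : g ∈ commutator G := fixK_even C.N.S C.N.hz C.N.ha hg
    rw [← C.ker_map] at hg
    obtain ⟨k, hk, rfl⟩ := hg
    refine ⟨⟨(k : G), hE, k.2⟩, ?_, rfl⟩
    exact hk

theorem chi_ker_card (C : Coords D z a n e) : Nat.card C.chi.ker = 2 ^ 13 * 3 := by
  rw [← C.fixK_card, ← C.chi_ker_map]
  exact Nat.card_congr (C.chi.ker.equivMapOfInjective _ (Subgroup.subtype_injective _)).toEquiv

theorem evenCent_card (C : Coords D z a n e) : 2 * Nat.card ↥(evenCent z) = 504 * 637009920 := by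
  have S := C.N.S
  obtain ⟨χ, hχ⟩ := exists_parity S
  set H := Subgroup.centralizer ({z} : Set G)
  have hdvd : (commutator G).relIndex H ∣ 2 := by
    rw [← (layer_eq_commutator S).2]
    exact Subgroup.relIndex_dvd_index_of_normal _ _
  have hne : (commutator G).relIndex H ≠ 1 := fun h => by
    have ha := Subgroup.relIndex_eq_one.1 h (cent_of_commute C.N.ha.2)
    rw [mem_commutator_iff S hχ, hχ a C.N.ha.1] at ha
    exact absurd ha (by decide)
  have h2 := ((Nat.dvd_prime Nat.prime_two).1 hdvd).resolve_left hne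
  have hm := Subgroup.card_mul_index ((commutator G).subgroupOf H)
  rw [show ((commutator G).subgroupOf H).index = 2 from h2, C.cent_card] at hm
  rw [← hm, mul_comm]
  congr 1
  rw [← Subgroup.inf_subgroupOf_right (commutator G) H]
  exact (Nat.card_congr (Subgroup.subgroupOfEquivOfLe inf_le_right).toEquiv).symm

theorem chi_range_card (C : Coords D z a n e) : Nat.card C.chi.range = 6531840 := by
  have h := Subgroup.card_mul_index C.chi.ker
  rw [Subgroup.index_ker, C.chi_ker_card] at h
  have h2 := C.evenCent_card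
  omega

theorem range_eq (C : Coords D z a n e) : C.psi.range = autos :=
  Subgroup.eq_of_le_of_card_ge (by rintro _ ⟨g, rfl⟩; exact C.psi_autos g)
    ((autos_card le_rfl).trans C.range_card.ge)

theorem commutator_le_chi (C : Coords D z a n e) : ⁅autos, autos⁆ ≤ C.chi.range := by
  rw [← C.range_eq, MonoidHom.range_eq_map, ← Subgroup.map_commutator]
  rintro _ ⟨g, hg, rfl⟩
  have hE : (g : G) ∈ commutator G := by
    have h : (⁅(⊤ : Subgroup ↥(Subgroup.centralizer ({z} : Set G))), ⊤⁆ : Subgroup _).map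
        (Subgroup.centralizer ({z} : Set G)).subtype ≤ commutator G := by
      rw [Subgroup.map_commutator, commutator_def]
      exact Subgroup.commutator_mono le_top le_top
    exact h ⟨g, hg, rfl⟩
  exact ⟨⟨(g : G), hE, g.2⟩, rfl⟩

theorem omega_le_chi (C : Coords D z a n e) [Fact (Nat.Prime 3)] : phiOmega.range ≤ C.chi.range := by
  refine le_trans ?_ C.commutator_le_chi
  rw [phiOmega, MonoidHom.range_eq_map, ← Subgroup.map_map, ← MonoidHom.range_eq_map, Subgroup.range_subtype,
    show Cfsg.Omega (ZMod 3) ⇑Q6 = ⁅(⊤ : Subgroup (Orth.IsoGrp Q6)), ⊤⁆ from commutator_def _,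
    Subgroup.map_commutator]
  have h : (⊤ : Subgroup (Orth.IsoGrp Q6)).map phi ≤ autos := by
    rintro _ ⟨g, -, rfl⟩
    exact phi_autos g
  exact Subgroup.commutator_mono h h

/-- Nothing but the identity commutes with the whole image. -/
theorem chi_center (C : Coords D z a n e) {σ : Equiv.Perm (Fin 126)}
    (h : ∀ τ ∈ C.chi.range, σ * τ = τ * σ) : σ = 1 := by
  have S := C.N.S
  obtain ⟨χ, hχ⟩ := exists_parity S
  have hcomm : ∀ i j q : Fin 126, σ (rfI i (rfI j q)) = rfI i (rfI j (σ q)) := fun i j q => by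
    set g : ↥(evenCent z) := ⟨nd a n e i * nd a n e j, show _ ∈ commutator G by
      rw [mem_commutator_iff S hχ, map_mul, hχ _ (C.nd_mem i).1, hχ _ (C.nd_mem j).1]; simp,
      cent_of_commute ((C.nd_mem i).2.mul_left (C.nd_mem j).2)⟩
    have hg : ∀ q, C.chi g q = rfI i (rfI j q) := fun q => by
      refine C.psi_eq (Subgroup.inclusion inf_le_right g) ?_
      show qd D z (nd a n e i * nd a n e j * nd a n e q * (nd a n e i * nd a n e j)⁻¹) = _
      rw [show nd a n e i * nd a n e j * nd a n e q * (nd a n e i * nd a n e j)⁻¹ =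
        nd a n e i * (nd a n e j * nd a n e q * (nd a n e j)⁻¹) * (nd a n e i)⁻¹ by group,
        qd_conj S C.N.hz (C.nd_mem i).2 (C.nd_mem _) (C.nd_ref j q)]
      exact C.nd_ref i _
    have := DFunLike.congr_fun (h _ ⟨g, rfl⟩) q
    rw [Equiv.Perm.coe_mul, Equiv.Perm.coe_mul, Function.comp_apply, Function.comp_apply, hg, hg] at this
    exact this
  refine Equiv.ext fun i => ?_
  rw [Equiv.Perm.coe_one, id_eq]
  have hp := pair_only i (σ i)
  simp only [Bool.or_eq_true, beq_iff_eq, List.any_eq_true, Bool.and_eq_true, Bool.not_eq_true',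
    beq_eq_false_iff_ne] at hp
  rcases hp with hp | ⟨j, -, hij, hne⟩
  · exact hp.symm
  · exfalso
    refine hne ?_
    rw [← hcomm, rf_fix j i (by simp [ad_symm j i, hij]), rf_fix i i (by simp)]

end Coords

theorem aniso3 [Fact (Nat.Prime 3)] :
    ∀ z₁ z₂ : ZMod 3, z₁ ^ 2 + 0 * z₁ * z₂ + 1 * z₂ ^ 2 = 0 → z₁ = 0 ∧ z₂ = 0 := by decide +revert

/-- `|PΩ6-(3)| = 3265920`. -/
theorem omega_range_card [Fact (Nat.Prime 3)] : Nat.card ↥phiOmega.range = 3265920 := by
  let _ := Fintype.ofFinite (GaloisField 3 2)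
  obtain ⟨e1⟩ := phiOmega_range
  obtain ⟨e2⟩ := Cfsg.Agent.S0303.result (F := ZMod 3) (K := GaloisField 3 2) (q := 3) (ZMod.card 3)
    (Fintype.card_eq_nat_card.trans (GaloisField.card 3 2 (by norm_num))) 0 1 aniso3
  rw [Nat.card_congr (e1.trans e2).toEquiv]
  have h := Unitary.card_PSU (F := GaloisField 3 2) (q := 3) (n := 4)
    (Fintype.card_eq_nat_card.trans (GaloisField.card 3 2 (by norm_num))) (by norm_num)
  simp [Finset.prod_range_succ, Nat.even_iff] at h
  omega

theorem omega_range_simple [Fact (Nat.Prime 3)] : IsSimpleGroup ↥phiOmega.range := by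
  obtain ⟨e1⟩ := phiOmega_range
  have : IsSimpleGroup (Cfsg.POmega (ZMod 3) (Cfsg.quadFormMinus 2 (ZMod 3) 0 1)) :=
    Orth.isSimpleGroup_pomega (Q := Q6) (Orth.quadMinus_nondeg 2 aniso3) (by simp)
  exact e1.isSimpleGroup

/-- The centraliser in the derived subgroup of a product of four commuting members. -/
theorem four_structure (S : Fi24Setup D) (hz : IsProd D 4 z) (ha : a ∈ Ey D z) :
    ∃ (Q : Subgroup ↥(evenCent z)) (_ : Q.Normal), Cfsg.generalizedFittingSubgroup ↥(evenCent z) = Q ∧
      Cfsg.IsExtraspecial 2 ↥Q ∧ Nat.card Q = 2 ^ 13 ∧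
      ∃ (N M : Subgroup ↥(evenCent z)) (_ : N.Normal) (_ : M.Normal), Q ≤ N ∧ N ≤ M ∧
        Nat.card N = 3 * Nat.card Q ∧
        (∃ (K : Type) (_ : Field K) (_ : Fintype K), Fintype.card K = 9 ∧
          Nonempty (↥M ⧸ N.subgroupOf M ≃* Cfsg.PSU 4 K 3)) ∧ M.index = 2 := by
  classical
  have : Fact (Nat.Prime 3) := ⟨by norm_num⟩
  have := Fact.mk Nat.prime_two
  obtain ⟨n, N0⟩ := exists_nbr S hz ha
  obtain ⟨e, C⟩ := exists_coords N0
  have hqE : qq D z ≤ evenCent z :=
    le_inf (qq_even S hz) fun g hg => cent_of_commute (qq_le S hz hg).1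
  set Q := (qq D z).subgroupOf (evenCent z) with hQdef
  have hQn : Q.Normal := ⟨fun q hq g => by
    rw [hQdef, Subgroup.mem_subgroupOf] at hq ⊢
    simpa using qq_conj S hz (cent_commute g.2.2) hq⟩
  let eQ : ↥Q ≃* ↥(qq D z) := Subgroup.subgroupOfEquivOfLe hqE
  have hQcard : Nat.card Q = 2 ^ 13 := (Nat.card_congr eQ.toEquiv).trans (qq_card S hz ha)
  have hQp : IsPGroup 2 ↥Q := IsPGroup.of_card hQcard
  set K := C.chi.ker with hKdef
  have hQK : Q ≤ K := fun q hq => by
    have h : ((q : G)) ∈ fixK C.N.S z := qq_le S hz hq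
    rw [← C.chi_ker_map] at h
    obtain ⟨k, hk, e'⟩ := h
    rwa [← Subtype.ext (a1 := k) (a2 := q) e']
  set M := phiOmega.range.comap C.chi with hMdef
  have hKM : K ≤ M := fun g hg => by
    rw [hMdef, Subgroup.mem_comap, MonoidHom.mem_ker.1 hg]
    exact one_mem _
  have hle := C.omega_le_chi
  have hrel : phiOmega.range.relIndex C.chi.range = 2 := by
    have h := Subgroup.card_mul_index (phiOmega.range.subgroupOf C.chi.range)
    rw [Nat.card_congr (Subgroup.subgroupOfEquivOfLe hle).toEquiv, omega_range_card, C.chi_range_card] at h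
    show (phiOmega.range.subgroupOf C.chi.range).index = 2
    omega
  have hMindex : M.index = 2 := by rw [hMdef, Subgroup.index_comap, hrel]
  have hMn : M.Normal := Subgroup.normal_of_index_eq_two hMindex
  -- the largest normal 2-subgroup
  have hcore : Cfsg.pCore 2 ↥(evenCent z) = Q := by
    refine le_antisymm ?_ (Cores.le_pCore hQn hQp)
    set P := Cfsg.pCore 2 ↥(evenCent z) with hPdef
    have hPn : P.Normal := PReduced.pCore_normal 2 _
    have hPp : IsPGroup 2 ↥P := Cores.isPGroup_pCore 2 _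
    set X := P.map C.chi with hXdef
    have hXp : IsPGroup 2 ↥X := hPp.map C.chi
    have hXle : X ≤ C.chi.range := Subgroup.map_le_range _ _
    have hXconj : ∀ τ ∈ C.chi.range, ∀ x ∈ X, τ * x * τ⁻¹ ∈ X := by
      rintro _ ⟨g, rfl⟩ _ ⟨x, hx, rfl⟩
      exact ⟨g * x * g⁻¹, hPn.conj_mem x hx g, by simp⟩
    have hint : X ⊓ phiOmega.range = ⊥ := by
      have hnorm : ((X ⊓ phiOmega.range).subgroupOf phiOmega.range).Normal := ⟨fun x hx g => by
        rw [Subgroup.mem_subgroupOf, Subgroup.mem_inf] at hx ⊢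
        exact ⟨hXconj _ (hle g.2) _ hx.1, mul_mem (mul_mem g.2 hx.2) (inv_mem g.2)⟩⟩
      have hsimp := omega_range_simple
      rcases hsimp.eq_bot_or_eq_top_of_normal _ hnorm with h | h
      · rw [Subgroup.subgroupOf_eq_bot] at h
        rw [← disjoint_iff.1 h, inf_assoc, inf_idem]
      · exfalso
        rw [Subgroup.subgroupOf_eq_top] at h
        obtain ⟨k, hk⟩ := IsPGroup.iff_card.1 (hXp.to_le (h.trans inf_le_left))
        rw [omega_range_card] at hk
        have : (5 : ℕ) ∣ 2 ^ k := hk ▸ by norm_num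
        exact absurd ((Nat.prime_five).dvd_of_dvd_pow this) (by norm_num)
    have htriv : ∀ x ∈ X, x = 1 := by
      intro x hx
      refine C.chi_center fun τ hτ => ?_
      -- the image has order at most two, hence is central
      have hsub : ∀ y ∈ X, ∀ y' ∈ X, y ∉ phiOmega.range → y' ∉ phiOmega.range → y = y' := by
        intro y hy y' hy' h1 h2
        have hmem : y * y'⁻¹ ∈ phiOmega.range := by
          have hidx : (phiOmega.range.subgroupOf C.chi.range).index = 2 := hrel
          let u : ↥C.chi.range := ⟨y, hXle hy⟩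
          let v : ↥C.chi.range := ⟨y', hXle hy'⟩
          have hu : u ∉ phiOmega.range.subgroupOf C.chi.range := fun h => h1 (Subgroup.mem_subgroupOf.1 h)
          have hv : v⁻¹ ∉ phiOmega.range.subgroupOf C.chi.range := fun h =>
            h2 (Subgroup.mem_subgroupOf.1 ((Subgroup.inv_mem_iff _).1 h))
          exact Subgroup.mem_subgroupOf.1 ((Subgroup.mul_mem_iff_of_index_two hidx).2 (iff_of_false hu hv))
        have : y * y'⁻¹ ∈ X ⊓ phiOmega.range := Subgroup.mem_inf.2 ⟨mul_mem hy (inv_mem hy'), hmem⟩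
        rwa [hint, Subgroup.mem_bot, mul_inv_eq_one] at this
      by_cases hx1 : x ∈ phiOmega.range
      · have : x ∈ X ⊓ phiOmega.range := ⟨hx, hx1⟩
        rw [hint, Subgroup.mem_bot] at this
        rw [this, one_mul, mul_one]
      · have hc : τ * x * τ⁻¹ ∉ phiOmega.range := fun hh => by
          have : τ * x * τ⁻¹ ∈ X ⊓ phiOmega.range := ⟨hXconj τ hτ x hx, hh⟩
          rw [hint, Subgroup.mem_bot] at this
          refine hx1 ?_
          rw [show x = τ⁻¹ * (τ * x * τ⁻¹) * τ by group, this, mul_one, inv_mul_cancel]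
          exact one_mem _
        exact (mul_inv_eq_iff_eq_mul.1 (hsub _ (hXconj τ hτ x hx) x hx hc hx1)).symm
    have hPK : P ≤ K := fun g hg => MonoidHom.mem_ker.2 (htriv _ ⟨g, hg, rfl⟩)
    have hsup : IsPGroup 2 ↥(Q ⊔ P) := hQp.to_sup_of_normal_right hPp
    obtain ⟨k, hk⟩ := IsPGroup.iff_card.1 hsup
    have hd : 2 ^ k ∣ 2 ^ 13 * 3 := by
      rw [← hk, ← C.chi_ker_card]
      exact Subgroup.card_dvd_of_le (sup_le hQK hPK)
    have hk13 : k ≤ 13 := (Nat.pow_dvd_pow_iff_le_right (by norm_num : 1 < 2)).1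
      ((Nat.Coprime.pow_left k (by norm_num : Nat.Coprime 2 3)).dvd_of_dvd_mul_right hd)
    have heq : Q = Q ⊔ P := Subgroup.eq_of_le_of_card_ge le_sup_left
      (by rw [hk, hQcard]; exact Nat.pow_le_pow_right (by norm_num) hk13)
    rw [heq]
    exact le_sup_right
  have hcent : Subgroup.centralizer (Q : Set ↥(evenCent z)) ≤ Q := by
    intro x hx
    rw [hQdef, Subgroup.mem_subgroupOf]
    rcases cent_qq S hz ha (x := (x : G)) fun g hg => by
      have hgq : g ∈ qq D z := Subgroup.subset_closure hg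
      exact (congrArg Subtype.val (Subgroup.mem_centralizer_iff.1 hx ⟨g, hqE hgq⟩ hgq)).symm with h | h <;> rw [h]
    exacts [one_mem _, z_mem S hz ha]
  refine ⟨Q, hQn, ?_, LargeExtraspecial.isExtraspecial_congr eQ.symm (qq_extraspecial S hz ha), hQcard,
    K, M, inferInstance, hMn, hQK, hKM, by rw [hQcard, C.chi_ker_card]; norm_num,
    ⟨GaloisField 3 2, inferInstance, Fintype.ofFinite _,
      (@Fintype.card_eq_nat_card _ (Fintype.ofFinite _)).trans ((GaloisField.card 3 2 (by norm_num)).trans (by norm_num)), ?_⟩, hMindex⟩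
  · rw [← hcore]
    exact LocalCharP.generalizedFittingSubgroup_eq_pCore (by rw [hcore]; exact hcent)
  · let _ := Fintype.ofFinite (GaloisField 3 2)
    obtain ⟨e1⟩ := phiOmega_range
    obtain ⟨e2⟩ := Cfsg.Agent.S0303.result (F := ZMod 3) (K := GaloisField 3 2) (q := 3) (ZMod.card 3)
      (Fintype.card_eq_nat_card.trans (GaloisField.card 3 2 (by norm_num))) 0 1 aniso3
    let f : ↥M →* ↥phiOmega.range := (C.chi.comp M.subtype).codRestrict phiOmega.range fun g => g.2
    have hf : Function.Surjective f := fun y => by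
      obtain ⟨g, hg⟩ := hle y.2
      exact ⟨⟨g, by rw [hMdef, Subgroup.mem_comap, hg]; exact y.2⟩, Subtype.ext hg⟩
    have hker : K.subgroupOf M = f.ker := by
      ext g
      rw [Subgroup.mem_subgroupOf, hKdef, MonoidHom.mem_ker, MonoidHom.mem_ker, Subtype.ext_iff]
      rfl
    exact ⟨((QuotientGroup.quotientMulEquivOfEq hker).trans
      (QuotientGroup.quotientKerEquivOfSurjective f hf)).trans (e1.trans e2)⟩

end Cfsg.Agent.FourProd
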